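import Cfsg.Agent.Lib.SelfSix.Bar

/-!
# A first layer without involutions absorbs the whole group

If the elements of a subgroup `Y` over `z` square into `⟨z⟩`, `Y` has no further involution, `Y` contains the
first central layer of `Q` and `Q` acts trivially on `Y` modulo `z`, then `Q` is `⟨z⟩` or a quaternion group `Y`.
-/

set_option autoImplicit false
set_option linter.style.haveILetI false
set_option linter.unusedSectionVars false

namespace Cfsg.Agent.SelfSix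

open Subgroup

variable {G : Type*} [Group G] [Finite G]

namespace Hyp

variable (H : Hyp G)

theorem absorb {T Q Y : Subgroup G} (hT : IsPGroup 2 T) (hQT : Q ≤ T) (hYQ : Y ≤ Q) (hTC : T ≤ H.C)
    (hzY : H.z ∈ Y) (hQn : ∀ g ∈ T, ∀ q ∈ Q, g * q * g⁻¹ ∈ Q) (hYn : ∀ g ∈ T, ∀ v ∈ Y, g * v * g⁻¹ ∈ Y)
    (hY : ∀ d ∈ Q, (d * d = 1 ∨ d * d = H.z) → (∀ g ∈ T, g * d * g⁻¹ * d⁻¹ ∈ zpowers H.z) → d ∈ Y)
    (hsq : ∀ v ∈ Y, v * v = 1 ∨ v * v = H.z) (hno : ∀ v ∈ Y, v * v = 1 → v = 1 ∨ v = H.z)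
    (hact : ∀ q ∈ Q, ∀ v ∈ Y, q * v * q⁻¹ = v ∨ q * v * q⁻¹ = H.z * v)
    (hYx : ∀ v ∈ Y, H.x * v * H.x⁻¹ ∈ Y)
    (hfix : ∀ v ∈ Y, H.x * v * H.x⁻¹ * v⁻¹ ∈ zpowers H.z → v = 1 ∨ v = H.z) :
    Q ≤ zpowers H.z ∨ (Q ≤ Y ∧ ∃ a ∈ Y, ∃ b ∈ Y, a * a = H.z ∧ b * b = H.z ∧ a * b * a⁻¹ = H.z * b ∧
      (∀ v ∈ Y, ∃ i < 2, ∃ j < 2, ∃ k < 2, v = a ^ i * b ^ j * H.z ^ k) ∧ b = H.x * a * H.x⁻¹) := by
  have hQz : zpowers H.z ≤ Q := zpowers_le.2 (hYQ hzY)
  have hzfix : ∀ g ∈ T, ∀ d ∈ zpowers H.z, g * d * g⁻¹ ∈ zpowers H.z := by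
    intro g hg d hd
    obtain ⟨k, rfl⟩ := mem_zpowers_iff.1 hd
    rw [eq_conj_iff.2 ((show Commute g H.z from H.mem_C.1 (hTC hg)).zpow_right k).eq]
    exact ⟨k, rfl⟩
  have hlayer : ∀ D : Subgroup G, zpowers H.z ≤ D → D ≤ Q → (∀ g ∈ T, ∀ d ∈ D, g * d * g⁻¹ ∈ D) →
      ¬ D ≤ zpowers H.z → ∃ d ∈ D, d ∈ Y ∧ d ∉ zpowers H.z := by
    intro D hzD hDQ hDn hne
    obtain ⟨d, hd, hdz, hd2, hdc⟩ := exists_layer hT hzD (hDQ.trans hQT) hzfix hDn hne
    exact ⟨d, hd, hY d (hDQ hd) (H.mem_zpowers_z.1 hd2) hdc, hdz⟩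
  by_cases hQle : Q ≤ zpowers H.z
  · exact Or.inl hQle
  right
  obtain ⟨a, -, haY, haz⟩ := hlayer Q hQz le_rfl hQn hQle
  have hne1 : ∀ {v : G}, v ∉ zpowers H.z → ¬ (v = 1 ∨ v = H.z) := fun hv h => hv (H.mem_zpowers_z.2 h)
  have ha2 : a * a = H.z := (hsq a haY).resolve_left fun h => hne1 haz (hno a haY h)
  set b := H.x * a * H.x⁻¹ with hb
  have hbY : b ∈ Y := hYx a haY
  have hb2 : b * b = H.z := by rw [hb, ← conj_mul', ha2, H.x_conj_z]
  clear_value b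
  have hzc : ∀ v ∈ Y, H.z * v = v * H.z := fun v hv => (H.mem_C.1 (hTC (hQT (hYQ hv)))).symm
  have hbna : b * a⁻¹ ∉ zpowers H.z := fun h => hne1 haz (hfix a haY (by rw [← hb]; exact h))
  have hab : a * b * a⁻¹ = H.z * b := by
    refine (hact a (hYQ haY) b hbY).resolve_left fun h => ?_
    have hc : Commute a b := eq_conj_iff.1 h
    have h2 : (a * b) * (a * b) = 1 := by rw [hc.symm.mul_mul_mul_comm, ha2, hb2, H.zz]
    refine hbna (H.mem_zpowers_z.2 ?_)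
    have hinv : b * a⁻¹ = b * a * (a * a)⁻¹ := by group
    rw [hinv, ha2, inv_eq_of_mul_eq_one_right H.zz, ← hc.eq]
    rcases hno _ (mul_mem haY hbY) h2 with e | e <;> rw [e]
    · exact Or.inr (one_mul _)
    · exact Or.inl H.zz
  have hba : b * a * b⁻¹ = H.z * a := by
    have e : a * b = H.z * b * a := mul_inv_eq_iff_eq_mul.1 hab
    refine mul_inv_eq_iff_eq_mul.2 ?_
    rw [mul_assoc H.z a b, e, ← mul_assoc, ← mul_assoc, H.zz, one_mul]
  have hcases : ∀ w ∈ Y, a * w = w * a → b * w = w * b → w ∈ zpowers H.z := by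
    intro w hw haw hbw
    rcases hsq w hw with h2 | h2
    · exact H.mem_zpowers_z.2 (hno w hw h2)
    exfalso
    have h3 : (a * w) * (a * w) = 1 := by
      rw [(show Commute w a from haw.symm).mul_mul_mul_comm, ha2, h2, H.zz]
    have hwa : ∀ c ∈ zpowers H.z, a * w = c → False := by
      intro c hc he
      obtain ⟨k, rfl⟩ := mem_zpowers_iff.1 hc
      have hw' : w = a⁻¹ * H.z ^ k := by rw [← he]; group
      have hz : Commute b (H.z ^ k) := ((show Commute H.z b from hzc b hbY).symm.zpow_right k)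
      have hba' : Commute b a := by
        have h4 : Commute b w := hbw
        rw [hw'] at h4
        have h5 := h4.mul_right hz.inv_right
        rw [mul_inv_cancel_right] at h5
        simpa using h5.inv_right
      have h6 : a * b * a⁻¹ = b := eq_conj_iff.2 hba'.symm.eq
      rw [hab] at h6
      exact H.z_ne (mul_eq_right.1 h6)
    exact hwa _ (H.mem_zpowers_z.2 (hno _ (mul_mem haY hw) h3)) rfl
  have hzpow : ∀ {w : G}, w ∈ zpowers H.z → ∃ k < 2, w = H.z ^ k := fun hw => by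
    rcases H.mem_zpowers_z.1 hw with rfl | rfl
    · exact ⟨0, by norm_num, (pow_zero _).symm⟩
    · exact ⟨1, by norm_num, (pow_one _).symm⟩
  -- a correcting element of `Y`
  have hadj : ∀ q ∈ Q, ∃ i < 2, ∃ j < 2,
      a * ((a ^ i * b ^ j)⁻¹ * q) = (a ^ i * b ^ j)⁻¹ * q * a ∧ b * ((a ^ i * b ^ j)⁻¹ * q) = (a ^ i * b ^ j)⁻¹ * q * b := by
    intro q hq
    have key : ∀ e : G, e * a * e⁻¹ = q * a * q⁻¹ → e * b * e⁻¹ = q * b * q⁻¹ →
        a * (e⁻¹ * q) = e⁻¹ * q * a ∧ b * (e⁻¹ * q) = e⁻¹ * q * b := by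
      intro e h1 h2
      constructor
      · refine (eq_conj_iff.1 ?_).symm
        rw [← conj_conj', ← h1]; group
      · refine (eq_conj_iff.1 ?_).symm
        rw [← conj_conj', ← h2]; group
    have hza : a * H.z * a⁻¹ = H.z := eq_conj_iff.2 (hzc a haY).symm
    rcases hact q hq a haY with h1 | h1 <;> rcases hact q hq b hbY with h2 | h2
    · exact ⟨0, by norm_num, 0, by norm_num, key _ (by simp [h1]) (by simp [h2])⟩
    · refine ⟨1, by norm_num, 0, by norm_num, key _ ?_ ?_⟩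
      · rw [h1, pow_one, pow_zero, mul_one, mul_inv_cancel_right]
      · rw [h2, pow_one, pow_zero, mul_one, hab]
    · refine ⟨0, by norm_num, 1, by norm_num, key _ ?_ ?_⟩
      · rw [h1, pow_one, pow_zero, one_mul, hba]
      · rw [h2, pow_one, pow_zero, one_mul, mul_inv_cancel_right]
    · refine ⟨1, by norm_num, 1, by norm_num, key _ ?_ ?_⟩
      · rw [h1, pow_one, pow_one, ← conj_conj', hba, conj_mul', hza, mul_inv_cancel_right]
      · rw [h2, pow_one, pow_one, ← conj_conj', mul_inv_cancel_right, hab]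
  have hmem : ∀ i j : ℕ, a ^ i * b ^ j ∈ Y := fun i j => mul_mem (pow_mem haY i) (pow_mem hbY j)
  -- the centralizer of `Y` in `Q` is `⟨z⟩`
  have hD : Q ⊓ centralizer (Y : Set G) ≤ zpowers H.z := by
    by_contra hne
    obtain ⟨d, hd, hdY, hdz⟩ := hlayer (Q ⊓ centralizer (Y : Set G))
      (le_inf hQz (zpowers_le.2 (mem_centralizer_iff.2 fun v hv => (hzc v hv).symm))) inf_le_left
      (fun g hg d hd => ⟨hQn g hg d hd.1, mem_centralizer_iff.2 fun v hv => by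
        have h := mem_centralizer_iff.1 hd.2 (g⁻¹ * v * g) (by
          have := hYn _ (inv_mem hg) v hv
          rwa [inv_inv] at this)
        have h' := congrArg (fun c => g * c * g⁻¹) h
        simpa [mul_assoc] using h'⟩) hne
    exact hdz (hcases d hdY (mem_centralizer_iff.1 hd.2 a haY) (mem_centralizer_iff.1 hd.2 b hbY))
  have hY8 : ∀ v ∈ Y, ∃ i < 2, ∃ j < 2, ∃ k < 2, v = a ^ i * b ^ j * H.z ^ k := by
    intro v hv
    obtain ⟨i, hi, j, hj, h1, h2⟩ := hadj v (hYQ hv)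
    obtain ⟨k, hk, hkv⟩ := hzpow (hcases _ (mul_mem (inv_mem (hmem i j)) hv) h1 h2)
    exact ⟨i, hi, j, hj, k, hk, by rw [← hkv, mul_inv_cancel_left]⟩
  refine ⟨fun q hq => ?_, a, haY, b, hbY, ha2, hb2, hab, hY8, hb⟩
  obtain ⟨i, hi, j, hj, h1, h2⟩ := hadj q hq
  have hd : (a ^ i * b ^ j)⁻¹ * q ∈ Q ⊓ centralizer (Y : Set G) := by
    refine ⟨Q.mul_mem (Q.inv_mem (hYQ (hmem i j))) hq, mem_centralizer_iff.2 fun v hv => ?_⟩
    obtain ⟨i', -, j', -, k', -, rfl⟩ := hY8 v hv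
    set d := (a ^ i * b ^ j)⁻¹ * q
    have hdz : Commute H.z d :=
      (H.mem_C.1 (hTC (hQT (mul_mem (inv_mem (hYQ (hmem i j))) hq)))).symm
    exact ((((show Commute a d from h1).pow_left i').mul_left ((show Commute b d from h2).pow_left j')).mul_left
      (hdz.pow_left k')).eq
  have := mul_mem (hmem i j) ((zpowers_le.2 hzY) (hD hd))
  rwa [mul_inv_cancel_left] at this

end Hyp

end Cfsg.Agent.SelfSix
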