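import Mathlib
import Cfsg.Agent.Lib.JankoTwo.AltFive

/-!
# Finite facts in `A₅`
-/

set_option autoImplicit false
set_option maxRecDepth 100000

namespace Cfsg.Agent.SelfSix.Five

/-- The group. -/
abbrev A5 : Type := alternatingGroup (Fin 5)

theorem three_pair : ∀ s : A5, s * s = 1 → s ≠ 1 → ∃ k : A5, (s * (k * s * k⁻¹)) ^ 3 = 1 ∧ s * (k * s * k⁻¹) ≠ 1 := by
  decide +kernel

theorem sq_of_pow_eight : ∀ s : A5, s ^ 8 = 1 → s * s = 1 := by decide +kernel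

theorem four_of_three : ∀ r : A5, r ^ 3 = 1 → r ≠ 1 → ∃ s : A5, s * s = 1 ∧ s ≠ 1 ∧ r * s * r⁻¹ ≠ s ∧
    s * (r * s * r⁻¹) = r * s * r⁻¹ * s ∧ r * (r * s * r⁻¹) * r⁻¹ = s * (r * s * r⁻¹) := by
  decide +kernel

theorem involution_conj (a b : A5) (ha : a * a = 1) (ha1 : a ≠ 1) (hb : b * b = 1) (hb1 : b ≠ 1) :
    ∃ k : A5, k * a * k⁻¹ = b := by
  obtain ⟨g, hg⟩ := JankoTwo.AltFive.involution_conj a ha ha1
  obtain ⟨g', hg'⟩ := JankoTwo.AltFive.involution_conj b hb hb1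
  exact ⟨g' * g⁻¹, by rw [← hg, ← hg']; group⟩

theorem cent_three : ∀ r a : A5, r ^ 3 = 1 → r ≠ 1 → a * r = r * a → a = 1 ∨ a = r ∨ a = r * r := by
  decide +kernel

theorem card : Nat.card A5 = 60 := by
  rw [Nat.card_eq_fintype_card]
  decide +kernel

theorem not_comm : ∃ a b : A5, a * b ≠ b * a :=
  ⟨JankoTwo.AltFive.ρ, JankoTwo.AltFive.η, by decide +kernel⟩

end Cfsg.Agent.SelfSix.Five
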