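import Cfsg.Agent.Lib.SelfSix.Base
import Cfsg.Agent.Lib.CN.Basic
import Cfsg.Agent.S3331

/-!
# The centralizer of the involution modulo the involution

Its quotient by `⟨z⟩` has a self-centralising subgroup of order three, so it is one of three kinds.
-/

set_option autoImplicit false
set_option linter.style.haveILetI false
set_option linter.unusedSectionVars false

namespace Cfsg.Agent.SelfSix

open Subgroup

variable {G : Type*} [Group G] [Finite G]

namespace Hyp

variable (H : Hyp G)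

/-- The nilpotent case, with quotient of order three or symmetric. -/
structure CaseA where
  /-- the 2-part of the radical -/
  Q : Subgroup G
  /-- the odd part of the radical -/
  W : Subgroup G
  /-- the map to the quotient -/
  f : ↥H.C →* Equiv.Perm (Fin 3)
  hQ : IsPGroup 2 Q
  QC : Q ≤ H.C
  WC : W ≤ H.C
  zQ : H.z ∈ Q
  Qn : ∀ g ∈ H.C, ∀ q ∈ Q, g * q * g⁻¹ ∈ Q
  Wn : ∀ g ∈ H.C, ∀ w ∈ W, g * w * g⁻¹ ∈ W
  W_odd : Odd (Nat.card W)
  W_three : ¬ 3 ∣ Nat.card W
  W_nil : Group.IsNilpotent ↥W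
  comm : ∀ q ∈ Q, ∀ w ∈ W, q * w = w * q
  ker : ∀ g : ↥H.C, f g = 1 ↔ ∃ q ∈ Q, ∃ w ∈ W, (g : G) = q * w
  fx : f ⟨H.x, H.x_mem⟩ ≠ 1
  card : Nat.card H.C = Nat.card f.range * (Nat.card Q * Nat.card W)
  range : Nat.card f.range = 3 ∨ Nat.card f.range = 6

/-- The elementary radical with quotient `A₅`. -/
structure CaseB where
  /-- the radical -/
  V : Subgroup G
  /-- the map to the quotient -/
  f : ↥H.C →* alternatingGroup (Fin 5)
  surj : Function.Surjective f
  ker : ∀ g : ↥H.C, f g = 1 ↔ (g : G) ∈ V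
  VC : V ≤ H.C
  zV : H.z ∈ V
  sq : ∀ v ∈ V, v * v = 1 ∨ v * v = H.z
  comm : ∀ v ∈ V, ∀ w ∈ V, v * w = w * v ∨ v * w = w * v * H.z

/-- The quotient `PSL(2,7)`. -/
structure CaseC where
  /-- the map to the quotient -/
  f : ↥H.C →* Matrix.ProjectiveSpecialLinearGroup (Fin 2) (ZMod 7)
  surj : Function.Surjective f
  ker : ∀ g : ↥H.C, f g = 1 ↔ (g : G) = 1 ∨ (g : G) = H.z

theorem mem_zpowers_z {g : G} : g ∈ zpowers H.z ↔ g = 1 ∨ g = H.z := by
  refine ⟨fun h => ?_, ?_⟩
  · obtain ⟨k, rfl⟩ := mem_zpowers_iff.1 h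
    rcases Int.even_or_odd k with ⟨j, rfl⟩ | ⟨j, rfl⟩
    · exact Or.inl (by rw [← two_mul, zpow_mul, zpow_two, H.zz, one_zpow])
    · exact Or.inr (by rw [zpow_add_one, zpow_mul, zpow_two, H.zz, one_zpow, one_mul])
  · rintro (rfl | rfl)
    exacts [one_mem _, mem_zpowers _]

theorem card_zpowers_z : Nat.card (zpowers (⟨H.z, H.z_mem⟩ : ↥H.C)) = 2 := by
  rw [Nat.card_zpowers, ← orderOf_coe]
  exact H.z_inv

/-- One of three kinds. -/
theorem cases : Nonempty H.CaseA ∨ Nonempty H.CaseB ∨ Nonempty H.CaseC := by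
  haveI : Fact (Nat.Prime 2) := ⟨Nat.prime_two⟩
  haveI : Fact (Nat.Prime 3) := ⟨Nat.prime_three⟩
  set zC : ↥H.C := ⟨H.z, H.z_mem⟩ with hzC
  set xC : ↥H.C := ⟨H.x, H.x_mem⟩ with hxC
  haveI hzn : (zpowers zC).Normal := by
    refine ⟨fun n hn g => ?_⟩
    obtain ⟨k, rfl⟩ := mem_zpowers_iff.1 hn
    rw [eq_conj_iff.2 ((show Commute g zC from Subtype.ext (H.mem_C.1 g.2)).zpow_right k).eq]
    exact ⟨k, rfl⟩
  set π := QuotientGroup.mk' (zpowers zC) with hπ
  have hker : ∀ g : ↥H.C, π g = 1 ↔ (g : G) = 1 ∨ (g : G) = H.z := by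
    intro g
    rw [hπ, QuotientGroup.mk'_apply, QuotientGroup.eq_one_iff]
    refine ⟨fun h => ?_, ?_⟩
    · obtain ⟨k, hk⟩ := mem_zpowers_iff.1 h
      exact H.mem_zpowers_z.1 ⟨k, by simpa [hzC] using congrArg Subtype.val hk⟩
    · rintro (h | h)
      · rw [show g = 1 from Subtype.ext h]; exact one_mem _
      · rw [show g = zC from Subtype.ext h]; exact mem_zpowers _
  have hx3 : π xC ^ 3 = 1 := by
    rw [← map_pow, show xC ^ 3 = 1 from Subtype.ext (by simpa [hxC] using (three_facts H.x_three).1), map_one]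
  have hx1 : π xC ≠ 1 := fun h => by
    rcases (hker _).1 h with h | h
    · exact (three_facts H.x_three).2.2.1 h
    · have h' : H.x = H.z := h
      exact absurd (h' ▸ H.x_three : orderOf H.z = 3) (by rw [H.z_inv]; norm_num)
  have hox : orderOf (π xC) = 3 := orderOf_eq_three hx3 hx1
  set X : Subgroup (↥H.C ⧸ zpowers zC) := zpowers (π xC) with hX
  have hcX : centralizer (X : Set _) = X := by
    refine le_antisymm (fun g hg => ?_) fun g hg a ha => ?_
    · obtain ⟨c, rfl⟩ := QuotientGroup.mk'_surjective _ g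
      have h := mem_centralizer_iff.1 hg (π xC) (mem_zpowers _)
      have h1 : π (xC * c * (c * xC)⁻¹) = 1 := by rw [map_mul, map_inv, map_mul, map_mul, h, mul_inv_cancel]
      rcases (hker _).1 h1 with e | e
      · obtain ⟨k, hk⟩ := H.six_form (g := (c : G)) (H.mem_C.1 c.2) (mul_inv_eq_one.1 e).symm
        refine ⟨k, ?_⟩
        show π xC ^ k = π c
        have hc : c = zC ^ k * xC ^ k := Subtype.ext (by simpa [hzC, hxC] using hk)
        rw [hc, map_mul, map_zpow, map_zpow, (hker zC).2 (Or.inr rfl), one_zpow, one_mul]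
      · exfalso
        have hxc : (c : G) * H.x * (c : G)⁻¹ = H.x * H.z := by
          have e1 : H.x * (c : G) = H.z * ((c : G) * H.x) := mul_inv_eq_iff_eq_mul.1 e
          rw [mul_inv_eq_iff_eq_mul, mul_assoc, ← H.mem_C.1 c.2, ← mul_assoc, e1, mul_assoc,
            show (c : G) * H.x * H.z = H.z * ((c : G) * H.x) by
              rw [mul_assoc, ← H.zx, ← mul_assoc, H.mem_C.1 c.2, mul_assoc], ← mul_assoc, H.zz, one_mul]
        have h3 := congrArg (· ^ 3) hxc
        rw [conj_pow, (three_facts H.x_three).1, (show Commute H.x H.z from H.zx.symm).mul_pow,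
          (three_facts H.x_three).1, one_mul, mul_one, mul_inv_cancel, pow_succ, pow_two, H.zz, one_mul] at h3
        exact H.z_ne h3.symm
    · obtain ⟨k, rfl⟩ := mem_zpowers_iff.1 hg
      obtain ⟨m, rfl⟩ := mem_zpowers_iff.1 ha
      exact ((Commute.refl _).zpow_zpow m k).eq
  rcases S3331.result X (by rw [hX, Nat.card_zpowers, hox]) hcX with
    ⟨N, hNn, hNnil, hN3, hq⟩ | ⟨N, hNn, hNc, hN2, ⟨e⟩⟩ | ⟨⟨e⟩⟩
  · left
    haveI := hNn
    haveI := hNnil
    obtain ⟨j, hj⟩ : ∃ j : (↥H.C ⧸ zpowers zC) ⧸ N →* Equiv.Perm (Fin 3), Function.Injective j := by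
      rcases hq with h3 | ⟨⟨e⟩⟩
      · haveI : IsCyclic ((↥H.C ⧸ zpowers zC) ⧸ N) := isCyclic_of_prime_card h3
        set σ : Equiv.Perm (Fin 3) := finRotate 3
        have hσ : orderOf σ = 3 := orderOf_eq_three (by decide) (by decide)
        let i : (↥H.C ⧸ zpowers zC) ⧸ N ≃* zpowers σ := mulEquivOfCyclicCardEq (by rw [h3, Nat.card_zpowers, hσ])
        exact ⟨(zpowers σ).subtype.comp i.toMonoidHom, (zpowers σ).subtype_injective.comp i.injective⟩
      · exact ⟨e.toMonoidHom, e.injective⟩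
    set f : ↥H.C →* Equiv.Perm (Fin 3) := j.comp ((QuotientGroup.mk' N).comp π) with hf
    set K : Subgroup ↥H.C := N.comap π with hK
    have hfK : f.ker = K := by
      ext g
      rw [hf, MonoidHom.mem_ker, MonoidHom.comp_apply, map_eq_one_iff _ hj, MonoidHom.comp_apply,
        QuotientGroup.mk'_apply, QuotientGroup.eq_one_iff, hK, mem_comap]
    haveI hKnil : Group.IsNilpotent ↥K := by
      refine Subgroup.isNilpotent_of_ker_le_center (π.subgroupComap N) (fun g hg => mem_center_iff.2 fun a => ?_)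
      have : π (g : ↥H.C) = 1 := congrArg Subtype.val hg
      refine Subtype.ext (Subtype.ext ?_)
      rcases (hker _).1 this with e | e
      · show ((a : ↥H.C) : G) * ((g : ↥H.C) : G) = ((g : ↥H.C) : G) * ((a : ↥H.C) : G)
        rw [e, mul_one, one_mul]
      · show ((a : ↥H.C) : G) * ((g : ↥H.C) : G) = ((g : ↥H.C) : G) * ((a : ↥H.C) : G)
        rw [e]
        exact H.mem_C.1 (a : ↥H.C).2
    have hKn : K.Normal := hNn.comap π
    set N0 : Subgroup G := K.map H.C.subtype with hN0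
    have hN0nil : Group.IsNilpotent ↥N0 :=
      Group.nilpotent_of_mulEquiv (K.equivMapOfInjective H.C.subtype H.C.subtype_injective)
    have hN0C : N0 ≤ H.C := map_subtype_le _
    have hN0n : ∀ g ∈ H.C, ∀ a ∈ N0, g * a * g⁻¹ ∈ N0 := by
      rintro g hg _ ⟨a, ha, rfl⟩
      exact ⟨⟨g, hg⟩ * a * ⟨g, hg⟩⁻¹, hKn.conj_mem a ha _, rfl⟩
    obtain ⟨P⟩ := (inferInstance : Nonempty (Sylow 2 ↥N0))
    haveI hPn : (P : Subgroup ↥N0).Normal := by
      haveI := hN0nil
      infer_instance
    obtain ⟨R, hR⟩ := exists_right_complement'_of_coprime (N := (P : Subgroup ↥N0)) P.card_coprime_index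
    have hRcard : Nat.card R = (P : Subgroup ↥N0).index := by
      have h1 := hR.card_mul_card
      have h2 := card_mul_index (P : Subgroup ↥N0)
      exact mul_left_cancel₀ (Nat.card_pos (α := (P : Subgroup ↥N0))).ne' (h1.trans h2.symm)
    have hRodd : Odd (Nat.card R) := by
      rw [hRcard, ← Nat.not_even_iff_odd, even_iff_two_dvd]
      exact P.not_dvd_index
    set Q : Subgroup G := (P : Subgroup ↥N0).map N0.subtype with hQ
    set W : Subgroup G := R.map N0.subtype with hW
    have hQ2 : IsPGroup 2 Q := P.isPGroup'.map _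
    have hcomm : ∀ q ∈ Q, ∀ w ∈ W, q * w = w * q := by
      rintro _ ⟨q, hq, rfl⟩ _ ⟨w, hw, rfl⟩
      refine CN.commute_of_coprime hN0nil q.2 w.2 ?_
      rw [coe_subtype, orderOf_coe, orderOf_coe]
      obtain ⟨k, hk⟩ := P.isPGroup'.exists_card_eq
      exact ((Nat.Coprime.pow_left k (Nat.coprime_two_left.2 hRodd)).coprime_dvd_left
        (hk ▸ Subgroup.orderOf_dvd_natCard _ hq)).coprime_dvd_right (Subgroup.orderOf_dvd_natCard _ hw)
    have hsplit : ∀ a ∈ N0, ∃ q ∈ Q, ∃ w ∈ W, a = q * w := by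
      intro a ha
      obtain ⟨⟨q, w⟩, hqw, -⟩ := hR.existsUnique ⟨a, ha⟩
      exact ⟨q.1, ⟨q.1, q.2, rfl⟩, w.1, ⟨w.1, w.2, rfl⟩, (congrArg Subtype.val hqw).symm⟩
    have hWodd : ∀ w ∈ W, Odd (orderOf w) := by
      rintro _ ⟨w, hw, rfl⟩
      rw [coe_subtype, orderOf_coe]
      exact hRodd.of_dvd_nat (Subgroup.orderOf_dvd_natCard _ hw)
    have hQC : Q ≤ H.C := (map_subtype_le _).trans hN0C
    have hWC : W ≤ H.C := (map_subtype_le _).trans hN0C
    have hzN0 : H.z ∈ N0 := ⟨zC, mem_comap.2 (by rw [(hker zC).2 (Or.inr rfl)]; exact one_mem N), rfl⟩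
    have hsyl : ∀ (a : G) (ha : a ∈ N0), (∃ k : ℕ, a ^ 2 ^ k = 1) → a ∈ Q := by
      rintro a ha ⟨k, hk⟩
      obtain ⟨q, hq, w, hw, rfl⟩ := hsplit a ha
      have hw1 : w ^ 2 ^ k = (q ^ 2 ^ k)⁻¹ := by
        refine eq_inv_of_mul_eq_one_right ?_
        rw [← (show Commute q w from hcomm q hq w hw).mul_pow, hk]
      obtain ⟨n, hn⟩ := hQ2 ⟨q, hq⟩
      have hqn : q ^ 2 ^ n = 1 := by simpa using congrArg Subtype.val hn
      have h1 : w ^ (2 ^ k * 2 ^ n) = 1 := by rw [pow_mul, hw1, inv_pow, ← pow_mul, mul_comm, pow_mul, hqn]; simp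
      have h2 : orderOf w ∣ 2 ^ (k + n) := by rw [pow_add]; exact orderOf_dvd_of_pow_eq_one h1
      have : orderOf w = 1 := by
        obtain ⟨i, -, hi⟩ := (Nat.dvd_prime_pow Nat.prime_two).1 h2
        rcases i with _ | i
        · simpa using hi
        · exact absurd (hWodd w hw) (by rw [hi, pow_succ, mul_comm]; simp [parity_simps])
      rw [orderOf_eq_one_iff.1 this, mul_one]
      exact hq
    have hodd : ∀ (a : G) (ha : a ∈ N0), Odd (orderOf a) → a ∈ W := by
      intro a ha hao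
      obtain ⟨q, hq, w, hw, rfl⟩ := hsplit a ha
      obtain ⟨n, hn⟩ := hQ2 ⟨q, hq⟩
      have hd : orderOf q ∣ 2 ^ n := orderOf_dvd_of_pow_eq_one (by simpa using congrArg Subtype.val hn)
      have hcop : (orderOf q).Coprime (orderOf w) :=
        ((Nat.Coprime.pow_left n (Nat.coprime_two_left.2 (hWodd w hw))).coprime_dvd_left hd)
      rw [(show Commute q w from hcomm q hq w hw).orderOf_mul_eq_mul_orderOf_of_coprime hcop] at hao
      have : orderOf q = 1 := by
        obtain ⟨i, -, hi⟩ := (Nat.dvd_prime_pow Nat.prime_two).1 hd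
        rcases i with _ | i
        · simpa using hi
        · exact absurd (Nat.odd_mul.1 hao).1 (by rw [hi, pow_succ, mul_comm]; simp [parity_simps])
      rw [orderOf_eq_one_iff.1 this, one_mul]
      exact hw
    have hcardK : Nat.card K = 2 * Nat.card N := by
      have h2 : (π.ker.subgroupOf K).index = Nat.card N := by
        rw [← relIndex, hK, ← MonoidHom.comap_bot, relIndex_comap, map_comap_eq_self_of_surjective
          (QuotientGroup.mk'_surjective _), relIndex_bot_left]
      have h1 := card_mul_index (π.ker.subgroupOf K)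
      rw [h2, Nat.card_congr (subgroupOfEquivOfLe (MonoidHom.ker_le_comap π N)).toEquiv, hπ,
        QuotientGroup.ker_mk', H.card_zpowers_z] at h1
      exact h1.symm
    have hN03 : ¬ 3 ∣ Nat.card N0 := by
      rw [hN0, card_map_of_injective H.C.subtype_injective, hcardK]
      intro h
      rcases (Nat.Prime.dvd_mul Nat.prime_three).1 h with h | h
      · norm_num at h
      · exact absurd h ((Nat.Prime.coprime_iff_not_dvd Nat.prime_three).1 hN3.symm)
    refine ⟨⟨Q, W, f, hQ2, hQC, hWC, ?_, ?_, ?_, ?_, ?_, ?_, hcomm, ?_, ?_, ?_, ?_⟩⟩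
    · exact hsyl _ hzN0 ⟨1, by rw [pow_one, pow_two]; exact H.zz⟩
    · intro g hg q hq
      obtain ⟨n, hn⟩ := hQ2 ⟨q, hq⟩
      exact hsyl _ (hN0n g hg q (map_subtype_le _ hq)) ⟨n, by
        rw [conj_pow, show q ^ 2 ^ n = 1 by simpa using congrArg Subtype.val hn]; simp⟩
    · intro g hg w hw
      exact hodd _ (hN0n g hg w (map_subtype_le _ hw)) (by rw [orderOf_conj']; exact hWodd w hw)
    · rw [hW, card_map_of_injective N0.subtype_injective]; exact hRodd
    · exact fun h => hN03 (h.trans (card_dvd_of_le (map_subtype_le _)))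
    · haveI := hN0nil
      exact Group.nilpotent_of_mulEquiv (R.equivMapOfInjective N0.subtype N0.subtype_injective)
    · intro g
      rw [← MonoidHom.mem_ker, hfK]
      refine ⟨fun h => hsplit _ ⟨g, h, rfl⟩, ?_⟩
      rintro ⟨q, hq, w, hw, he⟩
      obtain ⟨a, ha, hag⟩ := N0.mul_mem (map_subtype_le _ hq) (map_subtype_le _ hw)
      rw [← he] at hag
      rwa [Subtype.ext hag] at ha
    · intro h
      rw [← MonoidHom.mem_ker, hfK] at h
      apply hN03
      rw [← H.x_three]
      exact Subgroup.orderOf_dvd_natCard _ ⟨xC, h, rfl⟩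
    · have h1 : Nat.card ↥H.C = Nat.card f.range * Nat.card K := by
        rw [← hfK, ← index_ker, mul_comm, card_mul_index]
      rw [h1, hQ, hW, card_map_of_injective N0.subtype_injective, card_map_of_injective N0.subtype_injective,
        hR.card_mul_card, hN0, card_map_of_injective H.C.subtype_injective]
    · have : Nat.card f.range = Nat.card ((↥H.C ⧸ zpowers zC) ⧸ N) := by
        have hsur : Function.Surjective ((QuotientGroup.mk' N).comp π) :=
          (QuotientGroup.mk'_surjective N).comp (QuotientGroup.mk'_surjective _)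
        rw [hf, MonoidHom.range_comp, MonoidHom.range_eq_top.2 hsur, ← MonoidHom.range_eq_map]
        exact (Nat.card_congr (MonoidHom.ofInjective hj).toEquiv).symm
      rw [this]
      rcases hq with h | ⟨⟨e⟩⟩
      · exact Or.inl h
      · exact Or.inr (by rw [Nat.card_congr e.toEquiv, Nat.card_eq_fintype_card, Fintype.card_perm, Fintype.card_fin]; rfl)
  · right; left
    haveI := hNn
    haveI := hNc
    set f : ↥H.C →* alternatingGroup (Fin 5) := e.toMonoidHom.comp ((QuotientGroup.mk' N).comp π) with hf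
    set V : Subgroup G := (N.comap π).map H.C.subtype with hV
    have hmem : ∀ v ∈ V, ∃ a : ↥H.C, (a : G) = v ∧ π a ∈ N := by
      rintro _ ⟨a, ha, rfl⟩
      exact ⟨a, rfl, ha⟩
    refine ⟨⟨V, f, e.surjective.comp ((QuotientGroup.mk'_surjective N).comp (QuotientGroup.mk'_surjective _)),
      fun g => ?_, map_subtype_le _, ⟨zC, mem_comap.2 (by rw [(hker zC).2 (Or.inr rfl)]; exact one_mem N), rfl⟩,
      fun v hv => ?_, fun v hv w hw => ?_⟩⟩
    · rw [hf, MonoidHom.comp_apply, MulEquiv.coe_toMonoidHom, MulEquiv.map_eq_one_iff, MonoidHom.comp_apply,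
        QuotientGroup.mk'_apply, QuotientGroup.eq_one_iff]
      refine ⟨fun h => ⟨g, h, rfl⟩, ?_⟩
      rintro ⟨a, ha, hag⟩
      rwa [Subtype.ext hag] at ha
    · obtain ⟨a, rfl, ha⟩ := hmem v hv
      exact (hker (a * a)).1 (by rw [map_mul, ← pow_two]; exact hN2 _ ha)
    · obtain ⟨a, rfl, ha⟩ := hmem v hv
      obtain ⟨b, rfl, hb⟩ := hmem w hw
      have h : π ((b * a)⁻¹ * (a * b)) = 1 := by
        rw [map_mul, map_inv, map_mul, map_mul,
          show π b * π a = π a * π b from congrArg Subtype.val (mul_comm' (⟨π b, hb⟩ : N) ⟨π a, ha⟩)]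
        exact inv_mul_cancel _
      rcases (hker _).1 h with e | e
      · exact Or.inl (inv_mul_eq_one.1 e).symm
      · exact Or.inr (by
          have e' : ((b : G) * a)⁻¹ * ((a : G) * b) = H.z := e
          rw [← e']; group)
  · right; right
    exact ⟨⟨e.toMonoidHom.comp π, e.surjective.comp (QuotientGroup.mk'_surjective _), fun g => by
      rw [MonoidHom.comp_apply, MulEquiv.coe_toMonoidHom, MulEquiv.map_eq_one_iff, hker]⟩⟩

end Hyp

end Cfsg.Agent.SelfSix
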