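import Mathlib
import Cfsg.Agent.Lib.Cores.Nilpotent

/-!
# Group lemmas for the groups with a self-centralising element of order six

Fixed points of an element of prime power order on cosets, central layers of a 2-group, three
involutions cycled by an element of order three.
-/

set_option autoImplicit false
set_option linter.style.haveILetI false

namespace Cfsg.Agent.SelfSix

variable {G : Type*} [Group G]

theorem eq_conj_iff {g a : G} : g * a * g⁻¹ = a ↔ g * a = a * g := mul_inv_eq_iff_eq_mul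

theorem conj_mul' (g a b : G) : g * (a * b) * g⁻¹ = (g * a * g⁻¹) * (g * b * g⁻¹) := by group

theorem conj_inv' (g a : G) : g * a⁻¹ * g⁻¹ = (g * a * g⁻¹)⁻¹ := by group

theorem conj_conj' (g h a : G) : g * (h * a * h⁻¹) * g⁻¹ = (g * h) * a * (g * h)⁻¹ := by group

theorem conj_pow' (g a : G) (n : ℕ) : g * a ^ n * g⁻¹ = (g * a * g⁻¹) ^ n := (conj_pow).symm

theorem orderOf_conj' (g a : G) : orderOf (g * a * g⁻¹) = orderOf a :=
  orderOf_injective (MulAut.conj g).toMonoidHom (MulAut.conj g).injective a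

theorem three_facts {y : G} (hy : orderOf y = 3) :
    y ^ 3 = 1 ∧ y * y * y = 1 ∧ y ≠ 1 ∧ y⁻¹ = y * y := by
  have h : y ^ 3 = 1 := hy ▸ pow_orderOf_eq_one y
  have h' : y * y * y = 1 := by rw [← pow_two, ← pow_succ]; exact h
  refine ⟨h, h', fun e => ?_, (eq_inv_of_mul_eq_one_left h').symm⟩
  rw [e, orderOf_one] at hy
  omega

theorem orderOf_eq_three {y : G} (h : y ^ 3 = 1) (h1 : y ≠ 1) : orderOf y = 3 :=
  haveI : Fact (Nat.Prime 3) := ⟨Nat.prime_three⟩
  orderOf_eq_prime h h1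

theorem orderOf_eq_two {v : G} (h : v * v = 1) (h1 : v ≠ 1) : orderOf v = 2 :=
  haveI : Fact (Nat.Prime 2) := ⟨Nat.prime_two⟩
  orderOf_eq_prime (by rw [pow_two]; exact h) h1

theorem two_sq {v : G} (h : orderOf v = 2) : v * v = 1 ∧ v ≠ 1 ∧ v⁻¹ = v := by
  have h2 : v * v = 1 := by rw [← pow_two, ← h]; exact pow_orderOf_eq_one v
  refine ⟨h2, fun e => ?_, inv_eq_of_mul_eq_one_right h2⟩
  rw [e, orderOf_one] at h
  omega

/-- A power of an element whose order is divisible by three has order three. -/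
theorem exists_three_pow [Finite G] {g : G} (h : 3 ∣ orderOf g) : ∃ k : ℕ, orderOf (g ^ k) = 3 :=
  ⟨orderOf g / 3, orderOf_pow_orderOf_div (orderOf_pos g).ne' h⟩

/-- An element of prime power order normalising a finite set fixes a point, if the size is prime to it. -/
theorem exists_fixed_set [Finite G] {p n : ℕ} (hp : p.Prime) {y : G} (hy : y ^ p ^ n = 1) {S : Set G}
    (hS : ∀ a ∈ S, y * a * y⁻¹ ∈ S) (hc : ¬ p ∣ S.ncard) : ∃ a ∈ S, y * a * y⁻¹ = a := by
  classical
  haveI := Fact.mk hp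
  haveI : Fintype ↥S := Fintype.ofFinite _
  let σ : Equiv.Perm ↥S := Equiv.ofBijective (fun a => ⟨y * a * y⁻¹, hS a a.2⟩)
    (Finite.injective_iff_bijective.1 fun a b h =>
      Subtype.ext ((MulAut.conj y).injective (congrArg Subtype.val h)))
  have hσ : ∀ (k : ℕ) (a : ↥S), (((σ ^ k) a : ↥S) : G) = y ^ k * a * (y ^ k)⁻¹ := by
    intro k
    induction k with
    | zero => simp
    | succ k ih =>
      intro a
      rw [pow_succ', Equiv.Perm.mul_apply]
      show y * ((σ ^ k) a : G) * y⁻¹ = _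
      rw [ih, pow_succ']
      group
  obtain ⟨a, ha⟩ := Equiv.Perm.exists_fixed_point_of_prime (p := p) (n := n) (σ := σ)
    (by rwa [← Nat.card_eq_fintype_card, Nat.card_coe_set_eq])
    (Equiv.ext fun a => Subtype.ext (by rw [hσ, hy]; simp))
  exact ⟨a, a.2, congrArg Subtype.val ha⟩

/-- The size of a finite invariant set is congruent to the number of fixed points. -/
theorem fixed_mod [Finite G] {p n : ℕ} (hp : p.Prime) {y : G} (hy : y ^ p ^ n = 1) {S : Set G}
    (hS : ∀ a ∈ S, y * a * y⁻¹ ∈ S) :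
    S.ncard ≡ {a ∈ S | y * a * y⁻¹ = a}.ncard [MOD p] := by
  classical
  haveI := Fact.mk hp
  haveI : Fintype ↥S := Fintype.ofFinite _
  let σ : Equiv.Perm ↥S := Equiv.ofBijective (fun a => ⟨y * a * y⁻¹, hS a a.2⟩)
    (Finite.injective_iff_bijective.1 fun a b h =>
      Subtype.ext ((MulAut.conj y).injective (congrArg Subtype.val h)))
  have hσ : ∀ (k : ℕ) (a : ↥S), (((σ ^ k) a : ↥S) : G) = y ^ k * a * (y ^ k)⁻¹ := by
    intro k
    induction k with
    | zero => simp
    | succ k ih =>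
      intro a
      rw [pow_succ', Equiv.Perm.mul_apply]
      show y * ((σ ^ k) a : G) * y⁻¹ = _
      rw [ih, pow_succ']
      group
  have h := Equiv.Perm.card_compl_support_modEq (p := p) (n := n) (σ := σ)
    (Equiv.ext fun a => Subtype.ext (by rw [hσ, hy]; simp))
  rw [← Nat.card_eq_fintype_card, Nat.card_coe_set_eq] at h
  refine h.symm.trans ?_
  show _ % p = _ % p
  refine congrArg (· % p) ?_
  rw [← Set.ncard_coe_finset, ← Set.ncard_image_of_injective _ Subtype.val_injective]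
  refine congrArg Set.ncard (Set.ext fun a => ⟨?_, fun ha => ⟨⟨a, ha.1⟩, ?_, rfl⟩⟩)
  · rintro ⟨b, hb, rfl⟩
    refine ⟨b.2, ?_⟩
    have hb' : σ b = b := by simpa using hb
    exact congrArg Subtype.val hb'
  · have : σ ⟨a, ha.1⟩ = ⟨a, ha.1⟩ := Subtype.ext ha.2
    simpa using this

theorem fixed_mod_subgroup [Finite G] {p n : ℕ} (hp : p.Prime) {y : G} (hy : y ^ p ^ n = 1)
    {D : Subgroup G} (hD : ∀ a ∈ D, y * a * y⁻¹ ∈ D) :
    Nat.card D ≡ Nat.card ↥(D ⊓ Subgroup.centralizer ({y} : Set G)) [MOD p] := by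
  have h := fixed_mod hp hy (S := (D : Set G)) hD
  rw [← Nat.card_coe_set_eq, ← Nat.card_coe_set_eq] at h
  refine h.trans (congrArg (· % p) (congrArg (fun s : Set G => Nat.card ↥s) (Set.ext fun a => ?_)))
  show a ∈ D ∧ y * a * y⁻¹ = a ↔ a ∈ D ⊓ Subgroup.centralizer ({y} : Set G)
  rw [Subgroup.mem_inf, Subgroup.mem_centralizer_singleton_iff, eq_conj_iff]
  exact and_congr_right fun _ => eq_comm

theorem two_group_card [Finite G] {D : Subgroup G} (hD : IsPGroup 2 D) : ∃ k, Nat.card D = 2 ^ k :=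
  haveI : Fact (Nat.Prime 2) := ⟨Nat.prime_two⟩
  hD.exists_card_eq

theorem not_dvd_card [Finite G] {D : Subgroup G} (hD : IsPGroup 2 D) {p : ℕ} (hp : p.Prime) (h2 : p ≠ 2) :
    ¬ p ∣ Nat.card D := by
  obtain ⟨k, hk⟩ := two_group_card hD
  rw [hk]
  exact fun h => h2 ((Nat.prime_dvd_prime_iff_eq hp Nat.prime_two).1 (hp.dvd_of_dvd_pow h))

/-- An element of odd prime power order fixing a coset of a normalised 2-subgroup fixes a point of it. -/
theorem exists_fixed_coset [Finite G] {p n : ℕ} (hp : p.Prime) (h2 : p ≠ 2) {y : G} (hy : y ^ p ^ n = 1)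
    {D : Subgroup G} (hD : IsPGroup 2 D) (hn : ∀ d ∈ D, y * d * y⁻¹ ∈ D) {a : G}
    (ha : a⁻¹ * (y * a * y⁻¹) ∈ D) : ∃ d ∈ D, y * (a * d) * y⁻¹ = a * d := by
  have hinv : ∀ b ∈ (fun d => a * d) '' (D : Set G), y * b * y⁻¹ ∈ (fun d => a * d) '' (D : Set G) := by
    rintro _ ⟨d, hd, rfl⟩
    exact ⟨a⁻¹ * (y * a * y⁻¹) * (y * d * y⁻¹), D.mul_mem ha (hn d hd), by group⟩
  obtain ⟨_, ⟨d, hd, rfl⟩, h⟩ := exists_fixed_set hp hy hinv (by
    rw [Set.ncard_image_of_injective _ (mul_right_injective a), ← Nat.card_coe_set_eq]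
    exact not_dvd_card hD hp h2)
  exact ⟨d, hd, h⟩

/-- A central element of a higher layer of a 2-group. -/
theorem exists_layer [Finite G] {T Z D : Subgroup G} (hT : IsPGroup 2 T) (hZD : Z ≤ D) (hDT : D ≤ T)
    (hZn : ∀ g ∈ T, ∀ d ∈ Z, g * d * g⁻¹ ∈ Z) (hDn : ∀ g ∈ T, ∀ d ∈ D, g * d * g⁻¹ ∈ D) (hne : ¬ D ≤ Z) :
    ∃ d ∈ D, d ∉ Z ∧ d * d ∈ Z ∧ ∀ g ∈ T, g * d * g⁻¹ * d⁻¹ ∈ Z := by
  haveI : Fact (Nat.Prime 2) := ⟨Nat.prime_two⟩
  have hZT : Z ≤ T := hZD.trans hDT
  haveI : (Z.subgroupOf T).Normal := ⟨fun d hd g => hZn g g.2 d hd⟩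
  haveI : (D.subgroupOf T).Normal := ⟨fun d hd g => hDn g g.2 d hd⟩
  let π := QuotientGroup.mk' (Z.subgroupOf T)
  haveI : ((D.subgroupOf T).map π).Normal := Subgroup.Normal.map inferInstance π (QuotientGroup.mk'_surjective _)
  haveI : Group.IsNilpotent (↥T ⧸ Z.subgroupOf T) := (hT.to_quotient _).isNilpotent
  have hne' : (D.subgroupOf T).map π ≠ ⊥ := fun h => hne fun d hd => by
    have h1 : π ⟨d, hDT hd⟩ ∈ (D.subgroupOf T).map π := ⟨_, hd, rfl⟩
    rw [h, Subgroup.mem_bot] at h1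
    exact (QuotientGroup.eq_one_iff (N := Z.subgroupOf T) _).1 h1
  have hK : IsPGroup 2 ↥((D.subgroupOf T).map π ⊓ Subgroup.center _) :=
    (hT.to_quotient (Z.subgroupOf T)).to_subgroup _
  haveI := Subgroup.nontrivial_iff_ne_bot _ |>.2 (Cores.inf_center_ne_bot hne')
  obtain ⟨n, hn, hcard⟩ := hK.nontrivial_iff_card.1 inferInstance
  obtain ⟨c, hc⟩ := exists_prime_orderOf_dvd_card' (G := ↥((D.subgroupOf T).map π ⊓ Subgroup.center _)) 2
    (hcard ▸ dvd_pow_self 2 hn.ne')
  rw [← Subgroup.orderOf_coe] at hc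
  obtain ⟨⟨d, hd, hdc⟩, hcen⟩ := c.2
  have hc2 := two_sq hc
  rw [← hdc] at hc2
  refine ⟨d, hd, fun h => hc2.2.1 ((QuotientGroup.eq_one_iff (N := Z.subgroupOf T) d).2 h),
    (QuotientGroup.eq_one_iff (N := Z.subgroupOf T) (d * d)).1 (by exact hc2.1), fun g hg => ?_⟩
  have h1 := Subgroup.mem_center_iff.1 hcen (π ⟨g, hg⟩)
  rw [← hdc] at h1
  exact (QuotientGroup.eq_one_iff (N := Z.subgroupOf T) (⟨g, hg⟩ * d * ⟨g, hg⟩⁻¹ * d⁻¹)).1 (by
    show π _ = 1
    rw [map_mul, map_mul, map_mul, h1, map_inv, map_inv]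
    group)

/-- A nontrivial normalised subgroup of a 2-group contains an involution which is central in the group. -/
theorem exists_central [Finite G] {T D : Subgroup G} (hT : IsPGroup 2 T) (hDT : D ≤ T)
    (hDn : ∀ g ∈ T, ∀ d ∈ D, g * d * g⁻¹ ∈ D) (hne : D ≠ ⊥) :
    ∃ d ∈ D, orderOf d = 2 ∧ ∀ g ∈ T, g * d = d * g := by
  obtain ⟨d, hd, h1, h2, hc⟩ := exists_layer hT (Z := ⊥) bot_le hDT
    (fun g _ d hd => by rw [Subgroup.mem_bot.1 hd]; simp) hDn (fun h => hne (le_bot_iff.1 h))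
  rw [Subgroup.mem_bot] at h1 h2
  exact ⟨d, hd, orderOf_eq_two h2 h1, fun g hg => eq_conj_iff.1 (mul_inv_eq_one.1 (Subgroup.mem_bot.1 (hc g hg)))⟩

/-- If three involutions are cycled by `x`, their commutators lie in `{1, z}` and their product is
trivial modulo `z` up to the fixed points of `x`, then they commute. -/
theorem three_commute {x z u w v : G} (hzc : ∀ a ∈ ({u, w, v} : Set G), z * a = a * z) (hz2 : z * z = 1)
    (hxz : x * z * x⁻¹ = z) (hu : u * u = 1) (hw : w * w = 1) (hv : v * v = 1)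
    (xu : x * u * x⁻¹ = w) (xw : x * w * x⁻¹ = v) (xv : x * v * x⁻¹ = u)
    (huw : u * w = w * u ∨ u * w = w * u * z)
    (hfix : ∀ b, b = u * w * v → x * b * x⁻¹ = b → b = 1 ∨ b = z) : u * w = w * u := by
  rcases huw with h | h
  · exact h
  have hzu : z * u = u * z := hzc u (by simp)
  have hzw : z * w = w * z := hzc w (by simp)
  have hzv : z * v = v * z := hzc v (by simp)
  have h' : w * v = v * w * z := by
    have := congrArg (fun a => x * a * x⁻¹) h
    simpa only [conj_mul', xu, xw, hxz] using this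
  have h'' : v * u = u * v * z := by
    have := congrArg (fun a => x * a * x⁻¹) h'
    simpa only [conj_mul', xv, xw, hxz] using this
  have hb : x * (u * w * v) * x⁻¹ = u * w * v := by
    rw [conj_mul', conj_mul', xu, xw, xv]
    calc w * v * u = w * (u * v * z) := by rw [mul_assoc, h'']
      _ = w * u * (v * z) := by group
      _ = w * u * (z * v) := by rw [hzv]
      _ = w * u * z * v := by group
      _ = u * w * v := by rw [h]
  have hwu : (w * u) * (w * u) = z := by
    rw [show (w * u) * (w * u) = w * (u * w) * u by group, h,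
      show w * (w * u * z) * u = (w * w) * u * (z * u) by group, hw, hzu, one_mul, ← mul_assoc, hu, one_mul]
  have hv' : v = w * u * (u * w * v) := by
    rw [show w * u * (u * w * v) = w * (u * u) * w * v by group, hu, mul_one, hw, one_mul]
  have hz : z = 1 := by
    rcases hfix _ rfl hb with e | e
    · rw [e, mul_one] at hv'
      rw [hv', hwu] at hv
      exact hv
    · rw [e] at hv'
      have hc : z * (w * u) = w * u * z := by rw [← mul_assoc, hzw, mul_assoc, hzu, mul_assoc]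
      rw [hv', show w * u * z * (w * u * z) = w * u * (z * (w * u)) * z by group, hc,
        show w * u * (w * u * z) * z = (w * u) * (w * u) * (z * z) by group, hwu, hz2, mul_one] at hv
      exact hv
  rw [h, hz, mul_one]

end Cfsg.Agent.SelfSix
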