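import Cfsg.Prelude
import Cfsg.Agent.Lib.ZStar.Main
import Cfsg.Agent.Lib.Cores.Basic
import Cfsg.Agent.Lib.SelfSix.Tools

/-!
# A self-centralising element of order six in a simple group with one class of involutions

`z` is its involution, `x` its element of order three, `C` the centralizer of `z`.
-/

set_option autoImplicit false
set_option linter.style.haveILetI false
set_option linter.unusedSectionVars false

namespace Cfsg.Agent.SelfSix

open Subgroup

/-- The setting. -/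
structure Hyp (G : Type*) [Group G] where
  /-- the involution -/
  z : G
  /-- the element of order three -/
  x : G
  simple : IsSimpleGroup G
  na : ¬ IsMulCommutative G
  one : ∀ a b : G, orderOf a = 2 → orderOf b = 2 → IsConj a b
  z_inv : orderOf z = 2
  x_three : orderOf x = 3
  zx : z * x = x * z
  six : ∀ g : G, g * z = z * g → g * x = x * g → g ∈ zpowers (z * x)

variable {G : Type*} [Group G] (H : Hyp G)

namespace Hyp

include H

/-- The centralizer of the involution. -/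
abbrev C : Subgroup G := centralizer ({H.z} : Set G)

theorem mem_C {g : G} : g ∈ H.C ↔ g * H.z = H.z * g :=
  mem_centralizer_singleton_iff.trans ⟨fun h => h, fun h => h⟩

theorem conj_z {g : G} (hg : g ∈ H.C) : g * H.z * g⁻¹ = H.z := eq_conj_iff.2 (H.mem_C.1 hg)

theorem z_mem : H.z ∈ H.C := H.mem_C.2 rfl

theorem x_mem : H.x ∈ H.C := H.mem_C.2 H.zx.symm

theorem z_ne : H.z ≠ 1 := (two_sq H.z_inv).2.1

theorem zz : H.z * H.z = 1 := (two_sq H.z_inv).1

theorem x_conj_z : H.x * H.z * H.x⁻¹ = H.z := H.conj_z H.x_mem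

/-- The elements centralising both. -/
theorem six_form {g : G} (h1 : g * H.z = H.z * g) (h2 : g * H.x = H.x * g) :
    ∃ k : ℤ, g = H.z ^ k * H.x ^ k :=
  let ⟨k, hk⟩ := mem_zpowers_iff.1 (H.six g h1 h2)
  ⟨k, hk.symm.trans ((show Commute H.z H.x from H.zx).mul_zpow k)⟩

theorem six_sq {g : G} (h1 : g * H.z = H.z * g) (h2 : g * H.x = H.x * g) (hg : g * g = 1) :
    g = 1 ∨ g = H.z := by
  obtain ⟨k, rfl⟩ := H.six_form h1 h2
  have hc : Commute (H.z ^ k) (H.x ^ k) := (show Commute H.z H.x from H.zx).zpow_zpow k k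
  have hz : (H.z ^ k) * (H.z ^ k) = 1 := by rw [← (Commute.refl H.z).mul_zpow, H.zz, one_zpow]
  have hx : H.x ^ (k + k) = 1 := by
    rw [zpow_add]
    calc H.x ^ k * H.x ^ k = H.z ^ k * H.z ^ k * (H.x ^ k * H.x ^ k) := by rw [hz, one_mul]
      _ = H.z ^ k * H.x ^ k * (H.z ^ k * H.x ^ k) := hc.mul_mul_mul_comm (H.z ^ k) (H.x ^ k)
      _ = 1 := hg
  have h3 : (3 : ℤ) ∣ k + k := by
    have := orderOf_dvd_iff_zpow_eq_one.2 hx
    rwa [H.x_three] at this
  obtain ⟨m, rfl⟩ : (3 : ℤ) ∣ k := by omega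
  have e : H.x ^ ((3 : ℤ) * m) = 1 := by
    rw [zpow_mul, show H.x ^ (3 : ℤ) = 1 by exact_mod_cast (three_facts H.x_three).1, one_zpow]
  rw [e, mul_one]
  rcases Int.even_or_odd (3 * m) with ⟨j, hj⟩ | ⟨j, hj⟩
  · exact Or.inl (by rw [hj, ← two_mul, zpow_mul, zpow_two, H.zz, one_zpow])
  · exact Or.inr (by rw [hj, zpow_add_one, zpow_mul, zpow_two, H.zz, one_zpow, one_mul])

theorem six_pow {g : G} (h1 : g * H.z = H.z * g) (h2 : g * H.x = H.x * g) {n : ℕ} (hg : g ^ n = 1)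
    (hn : ¬ 2 ∣ n) : g ∈ zpowers H.x := by
  obtain ⟨k, rfl⟩ := H.six_form h1 h2
  have hc : Commute (H.z ^ k) (H.x ^ k) := (show Commute H.z H.x from H.zx).zpow_zpow k k
  suffices hz : H.z ^ k = 1 by rw [hz, one_mul]; exact ⟨k, rfl⟩
  by_contra hne
  rw [hc.mul_pow] at hg
  have h : H.z ^ k = H.z := by
    rcases Int.even_or_odd k with ⟨j, rfl⟩ | ⟨j, rfl⟩
    · exact absurd (by rw [← two_mul, zpow_mul, zpow_two, H.zz, one_zpow]) hne
    · rw [zpow_add_one, zpow_mul, zpow_two, H.zz, one_zpow, one_mul]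
  obtain ⟨m, rfl⟩ : ∃ m, n = 2 * m + 1 := ⟨n / 2, by omega⟩
  rw [h, pow_succ H.z, pow_mul, pow_two, H.zz, one_pow, one_mul] at hg
  have hx : H.z = ((H.x ^ k) ^ (2 * m + 1))⁻¹ := eq_inv_of_mul_eq_one_left hg
  have h3 : H.z ^ 3 = 1 := by
    rw [hx, inv_pow, pow_right_comm, show (H.x ^ k) ^ 3 = 1 by
      rw [← zpow_natCast, ← zpow_mul, mul_comm, zpow_mul, zpow_natCast, (three_facts H.x_three).1, one_zpow],
      one_pow, inv_one]
  rw [pow_succ, pow_two, H.zz, one_mul] at h3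
  exact H.z_ne h3

variable [Finite G]

/-- The elements of order three of the centralizer of the involution. -/
theorem three_conj {y : G} (hy : y ∈ H.C) (h3 : orderOf y = 3) :
    ∃ c ∈ H.C, c * y * c⁻¹ = H.x ∨ c * y * c⁻¹ = H.x⁻¹ := by
  haveI : Fact (Nat.Prime 3) := ⟨Nat.prime_three⟩
  set xC : ↥H.C := ⟨H.x, H.x_mem⟩ with hxC
  have hox : orderOf xC = 3 := by rw [← orderOf_coe]; exact H.x_three
  obtain ⟨P, hP⟩ := IsPGroup.exists_le_sylow (p := 3) (P := zpowers xC)
    (IsPGroup.of_card (n := 1) (by rw [Nat.card_zpowers, hox, pow_one]))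
  have key : ∀ c : ↥H.C, (∃ n : ℕ, c ^ 3 ^ n = 1) → c * xC = xC * c → c ∈ zpowers xC := by
    rintro c ⟨n, hn⟩ hc
    obtain ⟨k, hk⟩ := mem_zpowers_iff.1 (H.six_pow (H.mem_C.1 c.2) (congrArg Subtype.val hc)
      (n := 3 ^ n) (by simpa using congrArg Subtype.val hn) fun h => absurd (Nat.prime_two.dvd_of_dvd_pow h) (by norm_num))
    exact ⟨k, Subtype.ext (by simpa using hk)⟩
  have hcen : ∀ p ∈ (P : Subgroup ↥H.C), p * xC = xC * p := by
    haveI : Nontrivial (P : Subgroup ↥H.C) := ⟨⟨xC, hP (mem_zpowers _)⟩, 1, fun e => by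
      have := congrArg (fun a : (P : Subgroup ↥H.C) => orderOf (a : ↥H.C)) e
      simp [hox] at this⟩
    haveI := P.isPGroup'.center_nontrivial
    obtain ⟨⟨c, hc⟩, hc1⟩ := exists_ne (1 : Subgroup.center (P : Subgroup ↥H.C))
    have hcx : (c : ↥H.C) * xC = xC * c :=
      (congrArg Subtype.val (mem_center_iff.1 hc ⟨xC, hP (mem_zpowers _)⟩)).symm
    obtain ⟨n, hn⟩ := P.isPGroup' c
    have hcm := key c ⟨n, by simpa using congrArg Subtype.val hn⟩ hcx
    have hgen : zpowers (c : ↥H.C) = zpowers xC := by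
      refine eq_of_le_of_card_ge (zpowers_le.2 hcm) ?_
      rw [Nat.card_zpowers, Nat.card_zpowers, hox]
      have hd : orderOf (c : ↥H.C) ∣ 3 := by
        have := card_dvd_of_le (zpowers_le.2 hcm)
        rwa [Nat.card_zpowers, Nat.card_zpowers, hox] at this
      rcases (Nat.dvd_prime Nat.prime_three).1 hd with h | h
      · exact absurd (Subtype.ext (Subtype.ext (orderOf_eq_one_iff.1 h))) hc1
      · omega
    intro p hp
    obtain ⟨k, hk⟩ := mem_zpowers_iff.1 (hgen ▸ mem_zpowers xC)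
    have hpc : (c : ↥H.C) * p = p * c := (congrArg Subtype.val (mem_center_iff.1 hc ⟨p, hp⟩)).symm
    rw [← hk]
    exact ((show Commute (c : ↥H.C) p from hpc).zpow_left k).eq.symm
  have hPeq : ∀ p ∈ (P : Subgroup ↥H.C), p ∈ zpowers xC := fun p hp => by
    obtain ⟨n, hn⟩ := P.isPGroup' ⟨p, hp⟩
    exact key p ⟨n, by simpa using congrArg Subtype.val hn⟩ (hcen p hp)
  set yC : ↥H.C := ⟨y, hy⟩
  have hoy : orderOf yC = 3 := by rw [← orderOf_coe]; exact h3
  obtain ⟨R, hR⟩ := IsPGroup.exists_le_sylow (p := 3) (P := zpowers yC)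
    (IsPGroup.of_card (n := 1) (by rw [Nat.card_zpowers, hoy, pow_one]))
  obtain ⟨c, hc⟩ := MulAction.exists_smul_eq ↥H.C R P
  have hm : c * yC * c⁻¹ ∈ (P : Subgroup ↥H.C) := by
    rw [← hc]
    exact ⟨yC, hR (mem_zpowers _), rfl⟩
  obtain ⟨k, hk⟩ := mem_zpowers_iff.1 (hPeq _ hm)
  have hx3 : H.x ^ (3 : ℤ) = 1 := by exact_mod_cast (three_facts H.x_three).1
  have hk' : H.x ^ k = c * y * (c : G)⁻¹ := by
    have := congrArg Subtype.val hk
    simpa [hxC] using this
  have h : H.x ^ k = H.x ^ (k % 3) := by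
    conv_lhs => rw [← Int.emod_add_mul_ediv k 3, zpow_add, zpow_mul, hx3, one_zpow, mul_one]
  refine ⟨c, c.2, ?_⟩
  rcases (show k % 3 = 0 ∨ k % 3 = 1 ∨ k % 3 = 2 by omega) with e | e | e
  · exfalso
    rw [h, e, zpow_zero] at hk'
    have := orderOf_conj' (c : G) y
    rw [← hk', orderOf_one, h3] at this
    omega
  · exact Or.inl (by rw [← hk', h, e, zpow_one])
  · refine Or.inr ?_
    rw [← hk', h, e, (three_facts H.x_three).2.2.2]
    exact zpow_two _

/-- Every involution is conjugate to `z`. -/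
theorem to_z {v : G} (hv : orderOf v = 2) : ∃ g : G, g * v * g⁻¹ = H.z :=
  isConj_iff.1 (H.one v H.z hv H.z_inv)

/-- An element of order three and a 2-group centralised by it. -/
theorem card_two {y : G} (hy : orderOf y = 3) {D : Subgroup G} (hD : IsPGroup 2 D)
    (hc : ∀ d ∈ D, d * y = y * d) : Nat.card D ≤ 2 := by
  rcases eq_or_ne D ⊥ with rfl | hne
  · simp
  obtain ⟨v, hvD, hv2, hvc⟩ := exists_central hD le_rfl (fun g hg d hd => D.mul_mem (D.mul_mem hg hd) (D.inv_mem hg)) hne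
  obtain ⟨g, hg⟩ := H.to_z hv2
  have hyC : g * y * g⁻¹ ∈ H.C := by
    refine H.mem_C.2 (eq_conj_iff.1 ?_)
    rw [← hg, show g * y * g⁻¹ * (g * v * g⁻¹) * (g * y * g⁻¹)⁻¹ = g * (y * v * y⁻¹) * g⁻¹ by group,
      eq_conj_iff.2 (hc v hvD).symm]
  obtain ⟨c, hcC, hc'⟩ := H.three_conj hyC ((orderOf_conj' g y).trans hy)
  have hconj : ∀ d ∈ D, (c * g) * d * (c * g)⁻¹ * H.x = H.x * ((c * g) * d * (c * g)⁻¹) := by
    intro d hd
    have h : Commute ((c * g) * d * (c * g)⁻¹) ((c * g) * y * (c * g)⁻¹) :=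
      (show Commute d y from hc d hd).map (MulAut.conj (c * g)).toMonoidHom
    rw [show (c * g) * y * (c * g)⁻¹ = c * (g * y * g⁻¹) * c⁻¹ by group] at h
    rcases hc' with e | e <;> rw [e] at h
    · exact h.eq
    · simpa using h.inv_right.eq
  have hD2 : ∀ d ∈ D, d = 1 ∨ d = v := by
    intro d hd
    have hz : (c * g) * d * (c * g)⁻¹ * H.z = H.z * ((c * g) * d * (c * g)⁻¹) := by
      have h : Commute ((c * g) * d * (c * g)⁻¹) ((c * g) * v * (c * g)⁻¹) :=
        (show Commute d v from hvc d hd).map (MulAut.conj (c * g)).toMonoidHom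
      rw [show (c * g) * v * (c * g)⁻¹ = c * (g * v * g⁻¹) * c⁻¹ by group, hg, H.conj_z hcC] at h
      exact h.eq
    obtain ⟨k, hk⟩ := H.six_form hz (hconj d hd)
    obtain ⟨n, hn⟩ := hD ⟨d, hd⟩
    have hsq : ((c * g) * d * (c * g)⁻¹) * ((c * g) * d * (c * g)⁻¹) = 1 := by
      set e := (c * g) * d * (c * g)⁻¹ with he
      have h6 : e ^ 6 = 1 := by
        rw [hk, ((show Commute H.z H.x from H.zx).zpow_zpow k k).mul_pow, ← zpow_natCast, ← zpow_natCast,
          ← zpow_mul, ← zpow_mul, mul_comm k, zpow_mul, zpow_mul, zpow_natCast, zpow_natCast,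
          show H.z ^ 6 = (H.z * H.z) ^ 3 by rw [← pow_two, ← pow_mul],
          show H.x ^ 6 = (H.x ^ 3) ^ 2 by rw [← pow_mul], H.zz, (three_facts H.x_three).1]
        simp
      have h2 : e ^ 2 ^ n = 1 := by
        rw [he, conj_pow, show d ^ 2 ^ n = 1 from by simpa using congrArg Subtype.val hn]
        simp
      have := pow_gcd_eq_one.2 ⟨h6, h2⟩
      rw [← pow_two]
      refine orderOf_dvd_iff_pow_eq_one.1 ((orderOf_dvd_of_pow_eq_one this).trans ?_)
      have h3 : Nat.Coprime (Nat.gcd 6 (2 ^ n)) 3 :=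
        Nat.Coprime.coprime_dvd_left (Nat.gcd_dvd_right _ _) (Nat.Coprime.pow_left n (by norm_num))
      exact h3.dvd_of_dvd_mul_right (Nat.gcd_dvd_left _ _)
    have hv' : (c * g) * v * (c * g)⁻¹ = H.z := by
      rw [show (c * g) * v * (c * g)⁻¹ = c * (g * v * g⁻¹) * c⁻¹ by group, hg, H.conj_z hcC]
    rcases H.six_sq hz (hconj d hd) hsq with e | e
    · exact Or.inl (conj_eq_one_iff.1 e)
    · exact Or.inr ((MulAut.conj (c * g)).injective (e.trans hv'.symm))
  calc Nat.card D ≤ ({1, v} : Set G).ncard := by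
        rw [← SetLike.coe_sort_coe, Nat.card_coe_set_eq]
        exact Set.ncard_le_ncard hD2 (Set.toFinite _)
    _ ≤ 2 := (Set.ncard_insert_le _ _).trans (by simp)

theorem card_two_of_dvd {g : G} (hg : 3 ∣ orderOf g) {D : Subgroup G} (hD : IsPGroup 2 D)
    (hc : ∀ d ∈ D, d * g = g * d) : Nat.card D ≤ 2 := by
  obtain ⟨k, hk⟩ := exists_three_pow hg
  exact H.card_two hk hD fun d hd => ((show Commute d g from hc d hd).pow_right k).eq

/-- The involution is not alone in its centralizer. -/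
theorem false_of_unique (h : ∀ g : G, g * g = 1 → g * H.z = H.z * g → g = 1 ∨ g = H.z) : False := by
  have hiso : Cfsg.IsIsolatedInvolution H.z := by
    refine ⟨H.z_inv, fun g hc => ?_⟩
    refine (h _ ?_ hc.eq.symm).resolve_left fun e => H.z_ne (conj_eq_one_iff.1 e)
    rw [← conj_mul', H.zz]
    simp
  haveI := H.simple
  have hO : Cfsg.oddCore G = ⊥ := by
    haveI : (Cfsg.oddCore G).Normal := Cores.pPrimeCore_normal 2
    rcases IsSimpleGroup.eq_bot_or_eq_top_of_normal (Cfsg.oddCore G) inferInstance with h | h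
    · exact h
    · exfalso
      have hodd := Cores.oddCore_odd (G := G)
      rw [h, card_top] at hodd
      exact (Nat.not_even_iff_odd.2 hodd) (even_iff_two_dvd.2 (H.z_inv ▸ orderOf_dvd_natCard H.z))
  have hz := ZStar.Main.mem_center_of_isolated hO hiso
  rcases IsSimpleGroup.eq_bot_or_eq_top_of_normal (center G) inferInstance with hb | hb
  · exact H.z_ne (mem_bot.1 (hb ▸ hz))
  · exact H.na ⟨⟨fun a b => (mem_center_iff.1 (hb ▸ mem_top a) b).symm⟩⟩

/-- A Sylow 2-subgroup with `z` in its centre. -/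
theorem exists_sylow : ∃ T : Sylow 2 G, H.z ∈ T ∧ ∀ g ∈ T, g * H.z = H.z * g := by
  haveI : Fact (Nat.Prime 2) := ⟨Nat.prime_two⟩
  obtain ⟨S, hS⟩ := IsPGroup.exists_le_sylow (p := 2) (P := zpowers H.z)
    (IsPGroup.of_card (n := 1) (by rw [Nat.card_zpowers, H.z_inv, pow_one]))
  obtain ⟨v, hv, hv2, hvc⟩ := exists_central S.isPGroup' le_rfl
    (fun g hg d hd => mul_mem (mul_mem hg hd) (inv_mem hg)) (fun e => H.z_ne (by
      have := hS (mem_zpowers H.z)
      rw [e] at this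
      exact mem_bot.1 this))
  obtain ⟨g, hg⟩ := H.to_z hv2
  refine ⟨g • S, ⟨v, hv, hg⟩, ?_⟩
  rintro _ ⟨a, ha, rfl⟩
  show g * a * g⁻¹ * H.z = H.z * (g * a * g⁻¹)
  rw [← hg, ← conj_mul', ← conj_mul', hvc a ha]

/-- `T` is a Sylow 2-subgroup of `G` in which `z` is central. -/
def Central (T : Sylow 2 G) : Prop := H.z ∈ T ∧ ∀ g ∈ T, g * H.z = H.z * g

/-- `z` is the only involution in the centre of `T`. -/
def Lone (T : Sylow 2 G) : Prop := ∀ v ∈ T, orderOf v = 2 → (∀ g ∈ T, g * v = v * g) → v = H.z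

variable {H}

theorem Central.le {T : Sylow 2 G} (hT : H.Central T) : (T : Subgroup G) ≤ H.C :=
  fun g hg => H.mem_C.2 (hT.2 g hg)

/-- A 2-subgroup of the centralizer goes into `T` by an element of the centralizer. -/
theorem Central.exists_conj {T : Sylow 2 G} (hT : H.Central T) {D : Subgroup G} (hD : IsPGroup 2 D)
    (hDC : D ≤ H.C) : ∃ c ∈ H.C, ∀ d ∈ D, c * d * c⁻¹ ∈ T := by
  haveI : Fact (Nat.Prime 2) := ⟨Nat.prime_two⟩
  obtain ⟨R, hR⟩ := IsPGroup.exists_le_sylow (p := 2) (P := D.subgroupOf H.C)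
    (hD.of_equiv (subgroupOfEquivOfLe hDC).symm)
  obtain ⟨c, hc⟩ := MulAction.exists_smul_eq ↥H.C R (T.subtype hT.le)
  refine ⟨c, c.2, fun d hd => ?_⟩
  have h : c * ⟨d, hDC hd⟩ * c⁻¹ ∈ ((T.subtype hT.le : Sylow 2 ↥H.C) : Subgroup ↥H.C) := by
    rw [← hc]
    exact ⟨⟨d, hDC hd⟩, hR hd, rfl⟩
  exact h

/-- A 2-group is inside `T` after conjugating an involution that it centralises to `z`. -/
theorem Central.exists_conj_to {T : Sylow 2 G} (hT : H.Central T) {D : Subgroup G} (hD : IsPGroup 2 D)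
    {v : G} (hv : orderOf v = 2) (hDv : ∀ d ∈ D, d * v = v * d) :
    ∃ h : G, h * v * h⁻¹ = H.z ∧ ∀ d ∈ D, h * d * h⁻¹ ∈ T := by
  obtain ⟨g, hg⟩ := H.to_z hv
  obtain ⟨c, hc, hcT⟩ := hT.exists_conj (D := D.map (MulAut.conj g).toMonoidHom) (hD.map _) (by
    rintro _ ⟨d, hd, rfl⟩
    refine H.mem_C.2 ?_
    show g * d * g⁻¹ * H.z = H.z * (g * d * g⁻¹)
    rw [← hg, ← conj_mul', ← conj_mul', hDv d hd])
  refine ⟨c * g, ?_, fun d hd => ?_⟩
  · rw [← conj_conj', hg, H.conj_z hc]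
  · rw [← conj_conj']
    exact hcT _ ⟨d, hd, rfl⟩

variable (H)

/-- An involution commuting with `z` and different from it exists in `T`. -/
theorem exists_involution {T : Sylow 2 G} (hT : H.Central T) :
    ∃ s ∈ T, orderOf s = 2 ∧ s ≠ H.z := by
  by_contra hne
  push Not at hne
  refine H.false_of_unique fun g hg hgz => ?_
  by_cases h1 : g = 1
  · exact Or.inl h1
  have h2 := orderOf_eq_two hg h1
  obtain ⟨c, hc, hcT⟩ := hT.exists_conj (D := zpowers g)
    (IsPGroup.of_card (n := 1) (by rw [Nat.card_zpowers, h2, pow_one])) (zpowers_le.2 (H.mem_C.2 hgz))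
  refine Or.inr ((MulAut.conj c).injective ?_)
  exact (hne _ (hcT g (mem_zpowers g)) ((orderOf_conj' c g).trans h2)).trans (H.conj_z hc).symm

end Hyp

end Cfsg.Agent.SelfSix
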