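import Cfsg.Agent.Lib.SelfSix.FourStep
import Cfsg.Agent.S3779

/-!
# Local tools: fusion of central involutions, fixed-point-free class two, the pump, quaternion radicals
-/

set_option autoImplicit false
set_option linter.style.haveILetI false
set_option linter.unusedSectionVars false

namespace Cfsg.Agent.SelfSix

open Subgroup
open scoped commutatorElement

variable {G : Type*} [Group G] [Finite G]

/-- Two conjugate central elements of a Sylow 2-subgroup are conjugate by an element of odd order normalising it. -/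
theorem exists_odd_conj (T : Sylow 2 G) {v w : G} (hv : ∀ t ∈ T, t * v = v * t) (hw : ∀ t ∈ T, t * w = w * t)
    (hc : IsConj v w) :
    ∃ n : G, Odd (orderOf n) ∧ n ∈ normalizer ((T : Subgroup G) : Set G) ∧ n * v * n⁻¹ = w := by
  haveI : Fact (Nat.Prime 2) := ⟨Nat.prime_two⟩
  obtain ⟨g, hg⟩ := isConj_iff.1 hc
  have hmem : ∀ {a : G}, (∀ t ∈ T, t * a = a * t) → a ∈ centralizer ((T : Subgroup G) : Set G) :=
    fun {a} ha => mem_centralizer_iff.2 ha
  obtain ⟨n, hn, hn'⟩ := T.conj_eq_normalizer_conj_of_mem_centralizer v g⁻¹ (hmem hv)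
    (by rw [inv_inv, hg]; exact hmem hw)
  rw [inv_inv, hg] at hn'
  obtain ⟨a, m, hm, hnm⟩ := Nat.exists_eq_pow_mul_and_not_dvd (orderOf_pos n⁻¹).ne' 2 (by norm_num)
  have hcop : Nat.Coprime (2 ^ a) m := Nat.Coprime.pow_left a ((Nat.Prime.coprime_iff_not_dvd Nat.prime_two).2 hm)
  obtain ⟨e, he0, he1⟩ := Nat.chineseRemainder hcop 0 1
  have he0' : 2 ^ a ∣ e := Nat.modEq_zero_iff_dvd.1 he0
  refine ⟨n⁻¹ ^ e, ?_, pow_mem (inv_mem hn) _, ?_⟩
  · refine Odd.of_dvd_nat (Nat.not_even_iff_odd.1 fun h => hm (even_iff_two_dvd.1 h)) ?_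
    refine orderOf_dvd_of_pow_eq_one ?_
    rw [← pow_mul, ← orderOf_dvd_iff_pow_eq_one, hnm]
    exact mul_dvd_mul_right he0' m
  · set d := n⁻¹ with hd
    have hdc : (n⁻¹ : G) * v * n⁻¹⁻¹ = w := by rw [inv_inv]; exact hn'.symm
    have hpow : (d ^ ((e : ℤ) - 1)) ^ (2 ^ a) = 1 := by
      rw [← zpow_natCast, ← zpow_mul, ← orderOf_dvd_iff_zpow_eq_one, hnm]
      push_cast
      rw [mul_comm ((e : ℤ) - 1)]
      refine mul_dvd_mul_left _ ?_
      have := Nat.modEq_iff_dvd.1 he1.symm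
      simpa using this
    have hT : d ^ ((e : ℤ) - 1) ∈ T := by
      have hp : IsPGroup 2 (zpowers (d ^ ((e : ℤ) - 1))) := by
        obtain ⟨j, -, hj⟩ := (Nat.dvd_prime_pow Nat.prime_two).1 (orderOf_dvd_of_pow_eq_one hpow)
        exact IsPGroup.of_card (n := j) (by rw [Nat.card_zpowers, hj])
      have h := hp.inf_normalizer_sylow T
      have hmem' : d ^ ((e : ℤ) - 1) ∈ zpowers (d ^ ((e : ℤ) - 1)) ⊓ normalizer (T : Set G) :=
        ⟨mem_zpowers _, zpow_mem (inv_mem hn) _⟩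
      rw [h] at hmem'
      exact hmem'.2
    have hsplit : d ^ e = d * d ^ ((e : ℤ) - 1) := by
      rw [← zpow_natCast, ← zpow_one_add]
      congr 1
      ring
    show d ^ e * v * (d ^ e)⁻¹ = w
    rw [hsplit, ← conj_conj', eq_conj_iff.2 (hv _ hT)]
    exact hdc

/-- A homomorphism into a group of order two has kernel of index at most two. -/
theorem card_le_two_mul {B K : Subgroup G} (hKB : K ≤ B) (h : ∀ p ∈ B, ∀ q ∈ B, p ∉ K → q ∉ K → p⁻¹ * q ∈ K) :
    Nat.card B ≤ 2 * Nat.card K := by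
  by_cases hBK : B ≤ K
  · have := card_le_of_le hBK
    omega
  · obtain ⟨p, hp, hpK⟩ := SetLike.not_le_iff_exists.1 hBK
    refine (card_two_cosets hKB hp hpK fun g hg => ?_).ge
    by_cases hgK : g ∈ K
    · exact Or.inl hgK
    · exact Or.inr (h p hp g hg hpK hgK)

/-- If the commutators of `a` with `B` take at most one nontrivial value, the fixed points have index at most two. -/
theorem card_le_centralizer {B : Subgroup G} {a c : G}
    (h : ∀ p ∈ B, a * p * a⁻¹ * p⁻¹ = 1 ∨ a * p * a⁻¹ * p⁻¹ = c) :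
    Nat.card B ≤ 2 * Nat.card ↥(B ⊓ centralizer ({a} : Set G)) := by
  refine card_le_two_mul inf_le_left fun p hp q hq hpK hqK => ⟨B.mul_mem (B.inv_mem hp) hq, ?_⟩
  have key : ∀ r ∈ B, r ∉ B ⊓ centralizer ({a} : Set G) → a * r * a⁻¹ = c * r := fun r hr hrK =>
    mul_inv_eq_iff_eq_mul.1 ((h r hr).resolve_left fun e => hrK ⟨hr, mem_centralizer_singleton_iff.2
      (eq_conj_iff.1 (mul_inv_eq_one.1 e)).symm⟩)
  refine mem_centralizer_singleton_iff.2 (eq_conj_iff.1 ?_).symm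
  rw [conj_mul', conj_inv', key p hp hpK, key q hq hqK]
  group

/-- A fixed-point-free element of order three makes a 2-group of class at most two. -/
theorem class_two {P : Subgroup G} {y : G} (hy : orderOf y = 3) (hn : ∀ p ∈ P, y * p * y⁻¹ ∈ P)
    (hfpf : ∀ p ∈ P, y * p * y⁻¹ = p → p = 1) :
    ∀ a ∈ P, ∀ b ∈ P, ∀ c ∈ P, Commute c (a * b * a⁻¹ * b⁻¹) := by
  intro a ha b hb c hc
  obtain ⟨h3, h3', -, hinv⟩ := three_facts hy
  let α : MulAut ↥P :=
    { toFun := fun p => ⟨y * p * y⁻¹, hn p p.2⟩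
      invFun := fun p => ⟨y⁻¹ * p * y, by
        have := hn _ (hn p p.2)
        rw [conj_conj', ← hinv, inv_inv] at this
        exact this⟩
      left_inv := fun p => Subtype.ext (show y⁻¹ * (y * p * y⁻¹) * y = (p : G) by group)
      right_inv := fun p => Subtype.ext (show y * (y⁻¹ * p * y) * y⁻¹ = (p : G) by group)
      map_mul' := fun p q => Subtype.ext (conj_mul' y p q) }
  by_cases hP : ∀ p ∈ P, p = 1
  · rw [hP a ha, hP b hb]
    simp
  have hα3 : α ^ 3 = 1 := MulEquiv.ext fun p => Subtype.ext (by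
    show y * (y * (y * (p : G) * y⁻¹) * y⁻¹) * y⁻¹ = p
    rw [show y * (y * (y * (p : G) * y⁻¹) * y⁻¹) * y⁻¹ = (y * y * y) * (p : G) * (y * y * y)⁻¹ by group, h3']
    simp)
  have hα1 : α ≠ 1 := fun e => hP fun p hp => hfpf p hp
    (congrArg (fun f : MulAut ↥P => ((f ⟨p, hp⟩ : ↥P) : G)) e)
  have h := (S3779.result Nat.prime_three α (orderOf_eq_three hα3 hα1) fun p hp =>
    Subtype.ext (hfpf p p.2 (congrArg Subtype.val hp))).2.1 rfl
  have h1 : ⁅(⟨a, ha⟩ : ↥P), (⟨b, hb⟩ : ↥P)⁆ ∈ (⊤ : Subgroup ↥P).lowerCentralSeries 1 := by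
    rw [Subgroup.lowerCentralSeries_succ, Subgroup.lowerCentralSeries_zero]
    exact commutator_mem_commutator (mem_top _) (mem_top _)
  have h2 : ⁅⁅(⟨a, ha⟩ : ↥P), (⟨b, hb⟩ : ↥P)⁆, (⟨c, hc⟩ : ↥P)⁆ ∈ (⊤ : Subgroup ↥P).lowerCentralSeries 2 := by
    rw [Subgroup.lowerCentralSeries_succ]
    exact commutator_mem_commutator h1 (mem_top (⟨c, hc⟩ : ↥P))
  rw [h, mem_bot, commutatorElement_eq_one_iff_mul_comm] at h2
  exact (congrArg Subtype.val h2).symm

namespace Hyp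

variable (H : Hyp G)

/-- An abelian group with squares in `⟨z⟩` and more than two elements over it contains an involution. -/
theorem exists_inv_of_abelian {B : Subgroup G} (hsq : ∀ v ∈ B, v * v = 1 ∨ v * v = H.z)
    (hcomm : ∀ v ∈ B, ∀ w ∈ B, v * w = w * v) (hcard : 4 < Nat.card B) :
    ∃ u ∈ B, u * u = 1 ∧ u ≠ 1 ∧ u ≠ H.z := by
  by_contra hne
  push Not at hne
  have hone : ∀ u ∈ B, u * u = 1 → u = 1 ∨ u = H.z := fun u hu h2 => by
    by_cases h : u = 1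
    · exact Or.inl h
    · exact Or.inr (hne u hu h2 h)
  obtain ⟨d, hd, hdz⟩ : ∃ d ∈ B, d * d = H.z := by
    by_contra hno
    push Not at hno
    have hsub : (B : Set G) ⊆ {1, H.z} := fun v hv => hone v hv ((hsq v hv).resolve_right (hno v hv))
    have := (Set.ncard_le_ncard hsub (Set.toFinite _)).trans (Set.ncard_insert_le _ _)
    rw [Set.ncard_singleton, ← Nat.card_coe_set_eq] at this
    exact absurd (this.trans_lt' hcard) (by norm_num)
  have hsub : (B : Set G) ⊆ {1, H.z, d⁻¹, d⁻¹ * H.z} := by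
    intro v hv
    rcases hsq v hv with h | h
    · rcases hone v hv h with e | e <;> simp [e]
    · have h2 : (d * v) * (d * v) = 1 := by
        rw [(show Commute v d from hcomm v hv d hd).mul_mul_mul_comm, hdz, h, H.zz]
      rcases hone _ (mul_mem hd hv) h2 with e | e
      · rw [eq_inv_of_mul_eq_one_right e]; simp
      · rw [show v = d⁻¹ * H.z by rw [← e]; group]; simp
  have h4 := Set.ncard_le_ncard hsub (Set.toFinite _)
  rw [← Nat.card_coe_set_eq] at h4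
  have hle : Set.ncard ({1, H.z, d⁻¹, d⁻¹ * H.z} : Set G) ≤ 4 := by
    refine (Set.ncard_insert_le _ _).trans (Nat.succ_le_succ ((Set.ncard_insert_le _ _).trans (Nat.succ_le_succ ?_)))
    exact (Set.ncard_insert_le _ _).trans (by simp)
  exact absurd (h4.trans hle) (not_le.2 hcard)

/-- The pump: a fixed-point-free `y` cannot normalise the centralizer in `Q` of an involution `u = z^y`
central modulo `z`. -/
theorem pump {Q M : Subgroup G} {u w y : G} (hQ : IsPGroup 2 Q) (hQC : Q ≤ H.C) (hzQ : H.z ∈ Q)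
    (hQx : ∀ q ∈ Q, H.x * q * H.x⁻¹ ∈ Q) (hfix : ∀ q ∈ Q, H.x * q * H.x⁻¹ = q → q = 1 ∨ q = H.z)
    (hM : ∀ g : G, g ∈ M ↔ g ∈ Q ∧ g * u = u * g) (hcard : 2 * Nat.card M = Nat.card Q)
    (huQ : u ∈ Q) (huz : u ≠ H.z) (hu1 : u ≠ 1) (hw : w = H.x * u * H.x⁻¹) (huw : u * w = w * u)
    (hwc : ∀ q ∈ Q, q * w * q⁻¹ = w ∨ q * w * q⁻¹ = H.z * w) (hy : orderOf y = 3)
    (hyn : ∀ p ∈ M, y * p * y⁻¹ ∈ M) (hfpf : ∀ p ∈ M, y * p * y⁻¹ = p → p = 1)
    (hyz : y * H.z * y⁻¹ = u) : False := by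
  have hclass := class_two hy hyn hfpf
  have hx3 := three_facts H.x_three
  have hy3 := three_facts hy
  have hMQ : M ≤ Q := fun g hg => ((hM g).1 hg).1
  obtain ⟨hMn, hMm⟩ := index_two_facts hMQ hcard
  have huM : u ∈ M := (hM u).2 ⟨huQ, rfl⟩
  have hwM : w ∈ M := (hM w).2 ⟨hw ▸ hQx u huQ, huw.symm⟩
  have hzM : H.z ∈ M := (hM _).2 ⟨hzQ, (H.mem_C.1 (hQC huQ)).symm⟩
  have hconjx : ∀ q ∈ Q, H.x⁻¹ * q * H.x ∈ Q := by
    intro q hq
    have := hQx _ (hQx q hq)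
    rw [conj_conj', ← hx3.2.2.2, inv_inv] at this
    exact this
  have hMw : ∀ m ∈ M, H.x * m * H.x⁻¹ * w = w * (H.x * m * H.x⁻¹) := fun m hm => by
    rw [hw, ← conj_mul', ← conj_mul', ((hM m).1 hm).2]
  have hMinv : ∀ g ∈ Q, g * w = w * g → H.x⁻¹ * g * H.x ∈ M := fun g hg hgw => by
    refine (hM _).2 ⟨hconjx g hg, ?_⟩
    have h1 : H.x⁻¹ * (g * w) * H.x = H.x⁻¹ * (w * g) * H.x := by rw [hgw]
    rw [hw] at h1
    simpa [mul_assoc] using h1
  -- `M` is not invariant under `x`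
  obtain ⟨m₀, hm₀, hm₀x⟩ : ∃ m ∈ M, H.x * m * H.x⁻¹ ∉ M := by
    by_contra hne
    push Not at hne
    obtain ⟨q, hq, hqM⟩ := SetLike.not_le_iff_exists.1 (show ¬ Q ≤ M from fun h => by
      have h1 := card_le_of_le h
      have := Nat.card_pos (α := M)
      omega)
    have hx' : ∀ m ∈ M, H.x⁻¹ * m * H.x ∈ M := fun m hm => by
      have := hne _ (hne m hm)
      rw [conj_conj', ← hx3.2.2.2, inv_inv] at this
      exact this
    obtain ⟨d, hd, hfd⟩ := exists_fixed_coset Nat.prime_three (by norm_num) (n := 1) (y := H.x)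
      (by simpa using hx3.1) (hQ.to_le hMQ) hne (a := q) (hMm _ (inv_mem hq) _ (hQx q hq) (fun h => hqM (by simpa using inv_mem h))
        (fun h => hqM (by have := hx' _ h; simpa [mul_assoc] using this)))
    rcases hfix _ (mul_mem hq (hMQ hd)) hfd with e | e
    · exact hqM ((M.mul_mem_cancel_right hd).1 (e ▸ one_mem M))
    · exact hqM ((M.mul_mem_cancel_right hd).1 (e ▸ hzM))
  -- `w' = y w y⁻¹` commutes with `w`
  set w' := y * w * y⁻¹ with hw'
  have hw'M : w' ∈ M := hyn w hwM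
  have hypull : ∀ p ∈ M, y⁻¹ * p * y ∈ M := fun p hp => by
    have := hyn _ (hyn p hp)
    rw [conj_conj', ← hy3.2.2.2, inv_inv] at this
    exact this
  have hMu : ∀ r ∈ M, r * w' * r⁻¹ = w' ∨ r * w' * r⁻¹ = u * w' := by
    intro r hr
    rcases hwc _ (hMQ (hypull r hr)) with h | h
    · refine Or.inl ?_
      calc r * w' * r⁻¹ = y * ((y⁻¹ * r * y) * w * (y⁻¹ * r * y)⁻¹) * y⁻¹ := by rw [hw']; group
        _ = w' := by rw [h]
    · refine Or.inr ?_
      calc r * w' * r⁻¹ = y * ((y⁻¹ * r * y) * w * (y⁻¹ * r * y)⁻¹) * y⁻¹ := by rw [hw']; group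
        _ = u * w' := by rw [h, conj_mul', hyz]
  have hcw : w * w' = w' * w := by
    rcases hMu w hwM with h | h
    · exact eq_conj_iff.1 h
    · exfalso
      rcases hwc w' (hMQ hw'M) with e | e
      · rw [eq_conj_iff.2 (eq_conj_iff.1 e).symm] at h
        exact hu1 (mul_eq_right.1 h.symm)
      · have h' : w' * w * w'⁻¹ * w⁻¹ = H.z := by rw [e, mul_inv_cancel_right]
        have h'' : w' * w * w'⁻¹ * w⁻¹ = u⁻¹ := by
          rw [show w' * w * w'⁻¹ * w⁻¹ = (w * w' * w⁻¹ * w'⁻¹)⁻¹ by group, h, mul_inv_cancel_right]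
        have hu : u = H.z⁻¹ := by rw [← h', h'', inv_inv]
        rw [inv_eq_of_mul_eq_one_right H.zz] at hu
        exact huz hu
  -- the common part centralises `w'`
  set R : Subgroup G := M ⊓ centralizer ({w} : Set G) with hR
  have hmemR : ∀ g : G, g ∈ R ↔ g ∈ M ∧ g * w = w * g := fun g => by
    rw [hR, mem_inf, mem_centralizer_singleton_iff]
  have hRw' : ∀ r ∈ R, r * w' = w' * r := by
    intro r hr
    obtain ⟨hrM, hrw⟩ := (hmemR r).1 hr
    refine eq_conj_iff.1 ((hMu r hrM).resolve_right fun h => ?_)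
    have hcomm : u = r * w' * r⁻¹ * w'⁻¹ := by rw [h, mul_inv_cancel_right]
    -- then `u` would be central in the centralizer of `w`
    have hc : Commute m₀ (H.x⁻¹ * u * H.x) := by
      have h1 := hclass _ (hMinv r (hMQ hrM) hrw) _ (hMinv w' (hMQ hw'M) hcw.symm) m₀ hm₀
      rwa [show H.x⁻¹ * r * H.x * (H.x⁻¹ * w' * H.x) * (H.x⁻¹ * r * H.x)⁻¹ * (H.x⁻¹ * w' * H.x)⁻¹ =
        H.x⁻¹ * (r * w' * r⁻¹ * w'⁻¹) * H.x by group, ← hcomm] at h1
    refine hm₀x ((hM _).2 ⟨hQx _ (hMQ hm₀), ?_⟩)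
    have h2 := (hc.map (MulAut.conj H.x).toMonoidHom).eq
    simp only [MulEquiv.coe_toMonoidHom, MulAut.conj_apply] at h2
    rwa [show H.x * (H.x⁻¹ * u * H.x) * H.x⁻¹ = u by group] at h2
  have hRy : ∀ r ∈ R, y⁻¹ * r * y ∈ R := by
    intro r hr
    refine (hmemR _).2 ⟨hypull r ((hmemR r).1 hr).1, ?_⟩
    have h1 : y⁻¹ * (r * w') * y = y⁻¹ * (w' * r) * y := by rw [hRw' r hr]
    rw [hw'] at h1
    simpa [mul_assoc] using h1
  have hRy' : ∀ r ∈ R, y * r * y⁻¹ ∈ R := fun r hr => by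
    have := hRy _ (hRy r hr)
    rwa [show y⁻¹ * (y⁻¹ * r * y) * y = (y * y)⁻¹ * r * (y * y) by group, ← hy3.2.2.2, inv_inv] at this
  -- `M` is the union of two cosets of `R`
  obtain ⟨m₁, hm₁, hm₁R⟩ : ∃ m ∈ M, m ∉ R := by
    by_contra hne
    push Not at hne
    refine hm₀x ?_
    by_contra hcon
    have hall : ∀ m ∈ M, H.x⁻¹ * m * H.x ∈ M := fun m hm => hMinv m (hMQ hm) ((hmemR m).1 (hne m hm)).2
    refine hcon ?_
    have := hall _ (hall m₀ hm₀)
    rwa [show H.x⁻¹ * (H.x⁻¹ * m₀ * H.x) * H.x = (H.x * H.x)⁻¹ * m₀ * (H.x * H.x) by group, ← hx3.2.2.2,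
      inv_inv] at this
  have hflip : ∀ m ∈ M, m ∉ R → m * w * m⁻¹ = H.z * w := fun m hm hmR =>
    (hwc m (hMQ hm)).resolve_left fun h => hmR ((hmemR m).2 ⟨hm, eq_conj_iff.1 h⟩)
  have hdiff : ∀ p ∈ M, ∀ q ∈ M, p ∉ R → q ∉ R → p⁻¹ * q ∈ R := by
    intro p hp q hq hpR hqR
    refine (hmemR _).2 ⟨mul_mem (inv_mem hp) hq, eq_conj_iff.1 ?_⟩
    rw [← conj_conj', hflip q hq hqR, ← hflip p hp hpR]
    group
  obtain ⟨d, hd, hfd⟩ := exists_fixed_coset Nat.prime_three (by norm_num) (n := 1) (y := y)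
    (by simpa using hy3.1) (hQ.to_le (inf_le_left.trans hMQ)) hRy' (a := m₁)
    (hdiff m₁ hm₁ _ (hyn m₁ hm₁) hm₁R fun h => hm₁R (by
      have := hRy _ h
      rwa [show y⁻¹ * (y * m₁ * y⁻¹) * y = m₁ by group] at this))
  have he := hfpf _ (mul_mem hm₁ (inf_le_left (a := M) hd)) hfd
  exact hm₁R ((R.mul_mem_cancel_right hd).1 (he ▸ one_mem R))

end Hyp

end Cfsg.Agent.SelfSix
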