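import Cfsg.Agent.Lib.SelfSix.Bar
import Cfsg.Agent.Lib.SelfSix.Local

/-!
# The nilpotent radical `Q × W`: basic facts
-/

set_option autoImplicit false
set_option linter.style.haveILetI false
set_option linter.unusedSectionVars false

namespace Cfsg.Agent.SelfSix

open Subgroup

variable {G : Type*} [Group G] [Finite G]

/-- The central elements of exponent two. -/
def omegaCenter (T : Subgroup G) : Subgroup G where
  carrier := {v | v ∈ T ∧ v * v = 1 ∧ ∀ g ∈ T, Commute g v}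
  one_mem' := ⟨one_mem _, one_mul _, fun _ _ => Commute.one_right _⟩
  mul_mem' := by
    rintro v w ⟨hv, hv2, hvc⟩ ⟨hw, hw2, hwc⟩
    exact ⟨mul_mem hv hw, by rw [(show Commute w v from hvc w hw).mul_mul_mul_comm, hv2, hw2, one_mul],
      fun g hg => (hvc g hg).mul_right (hwc g hg)⟩
  inv_mem' := by
    rintro v ⟨hv, hv2, hvc⟩
    exact ⟨inv_mem hv, by rw [← mul_inv_rev, hv2, inv_one], fun g hg => (hvc g hg).inv_right⟩

theorem mem_omegaCenter {T : Subgroup G} {v : G} :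
    v ∈ omegaCenter T ↔ v ∈ T ∧ v * v = 1 ∧ ∀ g ∈ T, Commute g v := Iff.rfl

theorem omegaCenter_le (T : Subgroup G) : omegaCenter T ≤ T := fun _ h => h.1

/-- An element normalising a subgroup normalises the central elements of exponent two. -/
theorem omegaCenter_conj {T : Subgroup G} {n : G} (hn : ∀ g ∈ T, n * g * n⁻¹ ∈ T) {v : G}
    (hv : v ∈ omegaCenter T) : n * v * n⁻¹ ∈ omegaCenter T := by
  obtain ⟨hvT, hv2, hvc⟩ := hv
  refine ⟨hn v hvT, by rw [← conj_mul', hv2]; simp, fun g hg => ?_⟩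
  obtain ⟨⟨g', hg'⟩, e⟩ := Finite.surjective_of_injective (f := fun a : T => (⟨n * a * n⁻¹, hn a a.2⟩ : T))
    (fun a b hab => Subtype.ext ((MulAut.conj n).injective (congrArg Subtype.val hab))) ⟨g, hg⟩
  have e' : n * g' * n⁻¹ = g := congrArg Subtype.val e
  rw [← e']
  exact (hvc g' hg').map (MulAut.conj n).toMonoidHom

theorem odd_orderOf_eq_one_of_two_pow {g : G} (hg : Odd (orderOf g)) {k : ℕ} (h : g ^ 2 ^ k = 1) : g = 1 := by
  rw [← orderOf_eq_one_iff]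
  obtain ⟨j, -, hj⟩ := (Nat.dvd_prime_pow Nat.prime_two).1 (orderOf_dvd_of_pow_eq_one h)
  rcases j with _ | j
  · exact hj.trans (pow_zero 2)
  · exact absurd (hj ▸ hg) (by simp [parity_simps])

namespace Hyp

variable {H : Hyp G}

/-- Conjugation in the centralizer fixes the powers of `z`. -/
theorem conj_zpowers {g : G} (hg : g ∈ H.C) {d : G} (hd : d ∈ zpowers H.z) : g * d * g⁻¹ = d := by
  rcases H.mem_zpowers_z.1 hd with rfl | rfl
  · simp
  · exact H.conj_z hg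

namespace CaseA

variable (A : H.CaseA)

theorem ker_iff {g : G} (hg : g ∈ H.C) : A.f ⟨g, hg⟩ = 1 ↔ ∃ q ∈ A.Q, ∃ w ∈ A.W, g = q * w :=
  A.ker ⟨g, hg⟩

theorem W_comm {w q : G} (hw : w ∈ A.W) (hq : q ∈ A.Q) : Commute w q := (A.comm q hq w hw).symm

theorem f_three : orderOf (A.f ⟨H.x, H.x_mem⟩) = 3 := by
  refine orderOf_eq_three ?_ A.fx
  rw [← map_pow, show (⟨H.x, H.x_mem⟩ : ↥H.C) ^ 3 = 1 from Subtype.ext (by simpa using (three_facts H.x_three).1),
    map_one]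

theorem W_orderOf {w : G} (hw : w ∈ A.W) : Odd (orderOf w) :=
  A.W_odd.of_dvd_nat (Subgroup.orderOf_dvd_natCard _ hw)

/-- A 2-element of the kernel lies in `Q`. -/
theorem mem_Q_of_two {g : G} (hg : g ∈ H.C) (h1 : A.f ⟨g, hg⟩ = 1) {k : ℕ} (hk : g ^ 2 ^ k = 1) : g ∈ A.Q := by
  obtain ⟨q, hq, w, hw, rfl⟩ := (A.ker_iff hg).1 h1
  obtain ⟨n, hn⟩ := A.hQ ⟨q, hq⟩
  have hqn : q ^ 2 ^ n = 1 := by simpa using congrArg Subtype.val hn
  have h2 : w ^ 2 ^ (n + k) = 1 := by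
    have h3 : (q * w) ^ 2 ^ (n + k) = 1 := by rw [add_comm, pow_add, pow_mul, hk, one_pow]
    rwa [(show Commute q w from A.comm q hq w hw).mul_pow, pow_add, pow_mul q, hqn, one_pow, one_mul,
      ← pow_add] at h3
  rw [odd_orderOf_eq_one_of_two_pow (A.W_orderOf hw) h2, mul_one]
  exact hq

/-- An odd element of the kernel lies in `W`. -/
theorem mem_W_of_odd {g : G} (hg : g ∈ H.C) (h1 : A.f ⟨g, hg⟩ = 1) (ho : Odd (orderOf g)) : g ∈ A.W := by
  obtain ⟨q, hq, w, hw, rfl⟩ := (A.ker_iff hg).1 h1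
  obtain ⟨n, hn⟩ := A.hQ ⟨q, hq⟩
  have hqn : q ^ 2 ^ n = 1 := by simpa using congrArg Subtype.val hn
  have hcop : (orderOf q).Coprime (orderOf w) := by
    refine Nat.Coprime.coprime_dvd_left (orderOf_dvd_of_pow_eq_one hqn)
      (Nat.Coprime.pow_left n (Nat.coprime_two_left.2 (A.W_orderOf hw)))
  rw [(show Commute q w from A.comm q hq w hw).orderOf_mul_eq_mul_orderOf_of_coprime hcop] at ho
  rw [odd_orderOf_eq_one_of_two_pow (Nat.odd_mul.1 ho).1 hqn, one_mul]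
  exact hw

/-- An element of odd prime power order other than three lies in `W`. -/
theorem mem_W_of_prime_pow {g : G} (hg : g ∈ H.C) {p k : ℕ} (hp : p.Prime) (h2 : p ≠ 2) (h3 : p ≠ 3)
    (hk : g ^ p ^ k = 1) : g ∈ A.W := by
  have hd := orderOf_dvd_of_pow_eq_one hk
  refine A.mem_W_of_odd hg ?_ ((hp.odd_of_ne_two h2).pow.of_dvd_nat hd)
  rw [← orderOf_eq_one_iff]
  have hd1 : orderOf (A.f ⟨g, hg⟩) ∣ p ^ k :=
    (orderOf_map_dvd _ _).trans (by rw [← orderOf_coe]; exact hd)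
  have hd2 : orderOf (A.f ⟨g, hg⟩) ∣ 6 :=
    (_root_.orderOf_dvd_natCard _).trans (by rw [Nat.card_eq_fintype_card, Fintype.card_perm, Fintype.card_fin]; rfl)
  refine Nat.eq_one_of_dvd_coprimes ?_ hd1 hd2
  refine Nat.Coprime.pow_left k ((Nat.Prime.coprime_iff_not_dvd hp).2 fun h => ?_)
  have := Nat.le_of_dvd (by norm_num) h
  interval_cases p <;> first | omega | norm_num at hp

/-- The element of order three fixes only `1`, `z` in `Q`. -/
theorem fixed_Q {q : G} (hq : q ∈ A.Q) (h : H.x * q * H.x⁻¹ = q) : q = 1 ∨ q = H.z := by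
  set D := A.Q ⊓ centralizer ({H.x} : Set G)
  have hle : Nat.card D ≤ 2 :=
    H.card_two H.x_three (A.hQ.to_le inf_le_left) fun d hd => mem_centralizer_singleton_iff.1 hd.2
  have hD : zpowers H.z = D := by
    refine eq_of_le_of_card_ge (zpowers_le.2 ⟨A.zQ, mem_centralizer_singleton_iff.2 H.zx⟩) ?_
    rwa [Nat.card_zpowers, H.z_inv]
  have : q ∈ D := ⟨hq, mem_centralizer_singleton_iff.2 (eq_conj_iff.1 h).symm⟩
  rw [← hD] at this
  exact H.mem_zpowers_z.1 this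

/-- The same modulo `z`. -/
theorem fixed_Q_mod {q : G} (hq : q ∈ A.Q) (h : H.x * q * H.x⁻¹ * q⁻¹ ∈ zpowers H.z) : q = 1 ∨ q = H.z := by
  rcases H.mem_zpowers_z.1 h with e | e
  · exact A.fixed_Q hq (mul_inv_eq_one.1 e)
  · exfalso
    have hqz : q * H.z = H.z * q := H.mem_C.1 (A.QC hq)
    have e1 : H.x * q * H.x⁻¹ = q * H.z := (mul_inv_eq_iff_eq_mul.1 e).trans hqz.symm
    have e2 : (H.x * H.x) * q * (H.x * H.x)⁻¹ = q := by
      rw [← conj_conj', e1, conj_mul', e1, H.x_conj_z, mul_assoc, H.zz, mul_one]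
    have e3 : H.x * q * H.x⁻¹ = q := by
      conv_lhs => rw [← e2]
      rw [conj_conj', ← mul_assoc, (three_facts H.x_three).2.1]
      simp
    exact H.z_ne (mul_eq_left.1 (e1.symm.trans e3))

/-- The element of order three fixes nothing in `W`. -/
theorem fixed_W {w : G} (hw : w ∈ A.W) (h : H.x * w * H.x⁻¹ = w) : w = 1 := by
  have hd : orderOf w ∣ Nat.card A.W := Subgroup.orderOf_dvd_natCard _ hw
  have hodd := A.W_orderOf hw
  have hm := H.six_pow (H.mem_C.1 (A.WC hw)) (eq_conj_iff.1 h).symm (pow_orderOf_eq_one w)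
    (fun h2 => (Nat.not_even_iff_odd.2 hodd) (even_iff_two_dvd.2 h2))
  have h3 : orderOf w ∣ 3 := H.x_three ▸ orderOf_dvd_of_mem_zpowers hm
  rcases (Nat.dvd_prime Nat.prime_three).1 h3 with e | e
  · exact orderOf_eq_one_iff.1 e
  · exact absurd (e ▸ hd) A.W_three

/-- The size of an invariant subgroup of `Q` over `z`. -/
theorem card_mod {B : Subgroup G} (hBQ : B ≤ A.Q) (hzB : H.z ∈ B) (hBx : ∀ v ∈ B, H.x * v * H.x⁻¹ ∈ B) :
    Nat.card B % 3 = 2 := by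
  have h := fixed_mod_subgroup Nat.prime_three (n := 1) (y := H.x) (by simpa using (three_facts H.x_three).1) hBx
  have e : (B ⊓ centralizer ({H.x} : Set G) : Subgroup G) = zpowers H.z := by
    refine le_antisymm (fun v hv => H.mem_zpowers_z.2 (A.fixed_Q (hBQ hv.1)
      (eq_conj_iff.2 (mem_centralizer_singleton_iff.1 hv.2).symm)))
      (zpowers_le.2 ⟨hzB, mem_centralizer_singleton_iff.2 H.zx⟩)
  rw [e, Nat.card_zpowers, H.z_inv] at h
  exact h

theorem card_Q_mod : Nat.card A.Q % 3 = 2 := A.card_mod le_rfl A.zQ fun v hv => A.Qn _ H.x_mem v hv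

/-- A central Sylow subgroup contains `Q`. -/
theorem Q_le {T : Sylow 2 G} (hT : H.Central T) : A.Q ≤ (T : Subgroup G) := by
  obtain ⟨c, hc, hcT⟩ := hT.exists_conj A.hQ A.QC
  intro q hq
  have := hcT _ (A.Qn _ (inv_mem hc) q hq)
  rwa [conj_conj', mul_inv_cancel, inv_one, mul_one, one_mul] at this

theorem card_sylow {T : Sylow 2 G} (hT : H.Central T) :
    (Nat.card A.f.range = 3 → Nat.card T = Nat.card A.Q) ∧
      (Nat.card A.f.range = 6 → Nat.card T = 2 * Nat.card A.Q) := by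
  haveI : Fact (Nat.Prime 2) := ⟨Nat.prime_two⟩
  obtain ⟨n, hn⟩ := two_group_card A.hQ
  have hW : ¬ 2 ∣ Nat.card A.W := fun h => (Nat.not_even_iff_odd.2 A.W_odd) (even_iff_two_dvd.2 h)
  have h := (T.subtype hT.le).card_eq_multiplicity
  rw [A.card, hn] at h
  have hT' : Nat.card T = Nat.card ↥((T : Subgroup G).subgroupOf H.C) :=
    (Nat.card_congr (subgroupOfEquivOfLe hT.le).toEquiv).symm
  have key : ∀ r e : ℕ, Nat.card A.f.range = r → r = 2 ^ e * 3 → Nat.card T = 2 ^ e * 2 ^ n := by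
    intro r e hr hre
    rw [hT', ← pow_add]
    refine h.trans ?_
    rw [hr, hre, show 2 ^ e * 3 * (2 ^ n * Nat.card A.W) = 2 ^ (e + n) * (3 * Nat.card A.W) by ring,
      Nat.factorization_mul (by positivity) (mul_ne_zero (by norm_num) Nat.card_pos.ne'), Finsupp.coe_add,
      Pi.add_apply, Nat.Prime.factorization_pow Nat.prime_two, Nat.factorization_eq_zero_of_not_dvd fun h2 =>
        (Nat.Prime.dvd_mul Nat.prime_two).1 h2 |>.elim (by norm_num) hW]
    simp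
  exact ⟨fun hr => by rw [key 3 0 hr (by norm_num), pow_zero, one_mul, hn],
    fun hr => by rw [key 6 1 hr (by norm_num), pow_one, hn]⟩

/-- The elements of `Q` moved by `B` and `Q` only modulo `z`, with squares there. -/
def Y (B : Subgroup G) : Subgroup G where
  carrier := {d | d ∈ A.Q ∧ d * d ∈ zpowers H.z ∧ ∀ g, g ∈ B ∨ g ∈ A.Q → g * d * g⁻¹ * d⁻¹ ∈ zpowers H.z}
  one_mem' := ⟨one_mem _, by simp, fun g _ => by simp⟩
  mul_mem' := by
    rintro d e ⟨hd, hd2, hdc⟩ ⟨he, he2, hec⟩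
    refine ⟨mul_mem hd he, ?_, fun g hg => ?_⟩
    · have e1 : d * e * (d * e) = (d * (e * d * e⁻¹ * d⁻¹) * d⁻¹) * (d * d) * (e * e) := by group
      rw [e1, conj_zpowers (A.QC hd) (hdc e (Or.inr he))]
      exact mul_mem (mul_mem (hdc e (Or.inr he)) hd2) he2
    · have e1 : g * (d * e) * g⁻¹ * (d * e)⁻¹ = (g * d * g⁻¹ * d⁻¹) * (d * (g * e * g⁻¹ * e⁻¹) * d⁻¹) := by group
      rw [e1, conj_zpowers (A.QC hd) (hec g hg)]
      exact mul_mem (hdc g hg) (hec g hg)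
  inv_mem' := by
    rintro d ⟨hd, hd2, hdc⟩
    refine ⟨inv_mem hd, by rw [← mul_inv_rev]; exact inv_mem hd2, fun g hg => ?_⟩
    rw [show g * d⁻¹ * g⁻¹ * d⁻¹⁻¹ = (d⁻¹ * (g * d * g⁻¹ * d⁻¹) * d⁻¹⁻¹)⁻¹ by group,
      conj_zpowers (A.QC (inv_mem hd)) (hdc g hg)]
    exact inv_mem (hdc g hg)

variable {B : Subgroup G}

theorem mem_Y {d : G} : d ∈ A.Y B ↔ d ∈ A.Q ∧ d * d ∈ zpowers H.z ∧
    ∀ g, g ∈ B ∨ g ∈ A.Q → g * d * g⁻¹ * d⁻¹ ∈ zpowers H.z := Iff.rfl

theorem Y_le : A.Y B ≤ A.Q := fun _ h => h.1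

theorem z_Y (hB : B ≤ H.C) : H.z ∈ A.Y B :=
  ⟨A.zQ, by rw [H.zz]; exact one_mem _, fun g hg => by
    rw [H.conj_z (hg.elim (fun h => hB h) fun h => A.QC h), mul_inv_cancel]
    exact one_mem _⟩

theorem Y_sq {d : G} (hd : d ∈ A.Y B) : d * d = 1 ∨ d * d = H.z := H.mem_zpowers_z.1 hd.2.1

theorem Y_act {d g : G} (hd : d ∈ A.Y B) (hg : g ∈ B ∨ g ∈ A.Q) : g * d * g⁻¹ = d ∨ g * d * g⁻¹ = H.z * d :=
  (H.mem_zpowers_z.1 (hd.2.2 g hg)).imp mul_inv_eq_one.1 mul_inv_eq_iff_eq_mul.1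

theorem Y_conj (hB : B ≤ H.C) {d g : G} (hd : d ∈ A.Y B) (hg : g ∈ B ∨ g ∈ A.Q) : g * d * g⁻¹ ∈ A.Y B := by
  rcases A.Y_act hd hg with e | e <;> rw [e]
  exacts [hd, mul_mem (A.z_Y hB) hd]

/-- Invariance under an element of the centralizer normalising `B`. -/
theorem Y_x {c : G} (hc : c ∈ H.C) (hB : ∀ g ∈ B, c⁻¹ * g * c ∈ B) {d : G} (hd : d ∈ A.Y B) :
    c * d * c⁻¹ ∈ A.Y B := by
  refine ⟨A.Qn c hc d hd.1, ?_, fun g hg => ?_⟩
  · rw [← conj_mul', conj_zpowers hc hd.2.1]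
    exact hd.2.1
  · have hg' : c⁻¹ * g * c ∈ B ∨ c⁻¹ * g * c ∈ A.Q := hg.imp (hB g) fun h => by
      have := A.Qn _ (inv_mem hc) g h
      rwa [inv_inv] at this
    rw [show g * (c * d * c⁻¹) * g⁻¹ * (c * d * c⁻¹)⁻¹ =
      c * ((c⁻¹ * g * c) * d * (c⁻¹ * g * c)⁻¹ * d⁻¹) * c⁻¹ by group, conj_zpowers hc (hd.2.2 _ hg')]
    exact hd.2.2 _ hg'

/-- An involution moved only modulo `z` commutes with its image under the element of order three. -/
theorem twist_comm {u : G} (hu : u ∈ A.Q) (hu2 : u * u = 1)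
    (hact : ∀ g ∈ A.Q, g * u * g⁻¹ = u ∨ g * u * g⁻¹ = H.z * u) :
    u * (H.x * u * H.x⁻¹) = H.x * u * H.x⁻¹ * u := by
  set w := H.x * u * H.x⁻¹ with hw
  set v := H.x * w * H.x⁻¹ with hv
  have hwQ : w ∈ A.Q := A.Qn _ H.x_mem u hu
  have hvQ : v ∈ A.Q := A.Qn _ H.x_mem w hwQ
  have hxv : H.x * v * H.x⁻¹ = u := by
    rw [hv, hw, conj_conj', conj_conj', (three_facts H.x_three).2.1]; simp
  have huw : u * w = w * u ∨ u * w = w * u * H.z := by
    rcases hact w hwQ with e | e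
    · exact Or.inl (eq_conj_iff.1 e).symm
    · refine Or.inr ?_
      have e1 : w * u = H.z * u * w := mul_inv_eq_iff_eq_mul.1 e
      have hc : w * u * H.z = H.z * (w * u) := H.mem_C.1 (A.QC (mul_mem hwQ hu))
      rw [hc, e1, mul_assoc H.z u w, ← mul_assoc H.z H.z, H.zz, one_mul]
  have hw2 : w * w = 1 := by rw [hw, ← conj_mul', hu2]; simp
  refine three_commute ?_ H.zz H.x_conj_z hu2 hw2 (by rw [hv, ← conj_mul', hw2]; simp) hw.symm hv.symm hxv huw
    fun b hb hxb => ?_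
  · intro a ha
    simp only [Set.mem_insert_iff, Set.mem_singleton_iff] at ha
    rcases ha with rfl | rfl | rfl
    exacts [(H.mem_C.1 (A.QC hu)).symm, (H.mem_C.1 (A.QC hwQ)).symm, (H.mem_C.1 (A.QC hvQ)).symm]
  · exact A.fixed_Q (hb ▸ mul_mem (mul_mem hu hwQ) hvQ) hxb

end CaseA

end Hyp

end Cfsg.Agent.SelfSix
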