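import Cfsg.Agent.Lib.SelfSix.CaseABase
import Mathlib.GroupTheory.Perm.Basic

/-!
# The quotient `S₃`: basic facts
-/

set_option autoImplicit false
set_option linter.style.haveILetI false
set_option linter.unusedSectionVars false

namespace Cfsg.Agent.SelfSix

open Subgroup

namespace Three

set_option synthInstance.maxSize 2000
set_option synthInstance.maxHeartbeats 100000

theorem pair : ∀ a r : Equiv.Perm (Fin 3), a * a = 1 → a ≠ 1 → r ^ 3 = 1 → r ≠ 1 →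
    (a * (r * a * r⁻¹)) ^ 3 = 1 ∧ a * (r * a * r⁻¹) ≠ 1 := by decide +kernel

theorem inverts : ∀ a r : Equiv.Perm (Fin 3), a * a = 1 → a ≠ 1 → r ^ 3 = 1 → a * r * a⁻¹ = r⁻¹ ∨ r = 1 := by
  decide +kernel

theorem cent : ∀ r g : Equiv.Perm (Fin 3), r ^ 3 = 1 → r ≠ 1 → g * r = r * g → g = 1 ∨ g = r ∨ g = r * r := by
  decide +kernel

theorem two_or_three : ∀ g : Equiv.Perm (Fin 3), g * g = 1 ∨ g ^ 3 = 1 := by decide +kernel

theorem decomp : ∀ a r g : Equiv.Perm (Fin 3), a * a = 1 → a ≠ 1 → r ^ 3 = 1 → r ≠ 1 →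
    ∃ i < 2, ∃ j < 3, g = r ^ j * a ^ i := by decide +kernel

theorem card : Nat.card (Equiv.Perm (Fin 3)) = 6 := by
  rw [Nat.card_eq_fintype_card, Fintype.card_perm, Fintype.card_fin]; rfl

end Three

variable {G : Type*} [Group G] [Finite G]

namespace Hyp

variable {H : Hyp G}

namespace CaseA

variable (A : H.CaseA)

theorem f_x_cube : A.f ⟨H.x, H.x_mem⟩ ^ 3 = 1 := by
  have h := pow_orderOf_eq_one (A.f ⟨H.x, H.x_mem⟩)
  rwa [A.f_three] at h

theorem f_two {g : G} (hg : g ∈ H.C) {k : ℕ} (hk : g ^ 2 ^ k = 1) : A.f ⟨g, hg⟩ * A.f ⟨g, hg⟩ = 1 := by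
  rw [← pow_two]
  refine orderOf_dvd_iff_pow_eq_one.1 ?_
  have h1 : orderOf (A.f ⟨g, hg⟩) ∣ 2 ^ k :=
    (orderOf_map_dvd A.f _).trans (by rw [← orderOf_coe]; exact orderOf_dvd_of_pow_eq_one hk)
  have h2 : orderOf (A.f ⟨g, hg⟩) ∣ 2 * 3 := (_root_.orderOf_dvd_natCard _).trans (dvd_of_eq Three.card)
  exact (Nat.Coprime.coprime_dvd_left h1 (Nat.Coprime.pow_left k (by norm_num))).dvd_of_dvd_mul_right h2

variable (hr : Nat.card A.f.range = 6) {T : Sylow 2 G} (hT : H.Central T)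
include hr hT

theorem f_surj : Function.Surjective A.f :=
  MonoidHom.range_eq_top.1 (eq_top_of_card_eq _ (by rw [hr, Three.card]))

theorem card_T : 2 * Nat.card A.Q = Nat.card T := ((A.card_sylow hT).2 hr).symm

theorem T_facts : (∀ g ∈ (T : Subgroup G), ∀ q ∈ A.Q, g * q * g⁻¹ ∈ A.Q) ∧
    (∀ a ∈ (T : Subgroup G), ∀ b ∈ (T : Subgroup G), a ∉ A.Q → b ∉ A.Q → a * b ∈ A.Q) :=
  index_two_facts (A.Q_le hT) (A.card_T hr hT)

theorem exists_out : ∃ g ∈ (T : Subgroup G), g ∉ A.Q := by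
  by_contra hne
  push Not at hne
  have h1 := card_le_of_le (show (T : Subgroup G) ≤ A.Q from hne)
  have h2 := A.card_T hr hT
  have := Nat.card_pos (α := A.Q)
  omega

theorem outside {g : G} (hg : g ∈ (T : Subgroup G)) (hgQ : g ∉ A.Q) :
    A.f ⟨g, hT.le hg⟩ * A.f ⟨g, hT.le hg⟩ = 1 ∧ A.f ⟨g, hT.le hg⟩ ≠ 1 := by
  obtain ⟨k, hk⟩ := T.isPGroup' ⟨g, hg⟩
  have hk' : g ^ 2 ^ k = 1 := by simpa using congrArg Subtype.val hk
  exact ⟨A.f_two (hT.le hg) hk', fun h => hgQ (A.mem_Q_of_two (hT.le hg) h hk')⟩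

/-- An element outside `Q` and its image under `x` make an element of order divisible by three. -/
theorem three_dvd {g : G} (hg : g ∈ (T : Subgroup G)) (hgQ : g ∉ A.Q) :
    3 ∣ orderOf (g * (H.x * g * H.x⁻¹)) := by
  obtain ⟨h1, h2⟩ := A.outside hr hT hg hgQ
  set gC : ↥H.C := ⟨g, hT.le hg⟩
  set xC : ↥H.C := ⟨H.x, H.x_mem⟩
  obtain ⟨e1, e2⟩ := Three.pair _ (A.f xC) h1 h2 A.f_x_cube A.fx
  have h3 : orderOf (A.f (gC * (xC * gC * xC⁻¹))) = 3 := by
    rw [map_mul, map_mul, map_mul, map_inv]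
    exact orderOf_eq_three e1 e2
  exact h3 ▸ (orderOf_map_dvd A.f _).trans (orderOf_coe (gC * (xC * gC * xC⁻¹))).symm.dvd

/-- A 2-group centralised by an element outside `Q` and its image under `x` is small. -/
theorem small {g : G} (hg : g ∈ (T : Subgroup G)) (hgQ : g ∉ A.Q) {D : Subgroup G} (hD : IsPGroup 2 D)
    (h1 : ∀ d ∈ D, d * g = g * d) (h2 : ∀ d ∈ D, d * (H.x * g * H.x⁻¹) = H.x * g * H.x⁻¹ * d) :
    Nat.card D ≤ 2 :=
  H.card_two_of_dvd (A.three_dvd hr hT hg hgQ) hD fun d hd =>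
    ((show Commute d g from h1 d hd).mul_right (h2 d hd)).eq

/-- An element outside `Q` does not centralise a larger invariant subgroup. -/
theorem small_invariant {g : G} (hg : g ∈ (T : Subgroup G)) (hgQ : g ∉ A.Q) {D : Subgroup G}
    (hD : IsPGroup 2 D) (hDx : ∀ d ∈ D, H.x * d * H.x⁻¹ ∈ D) (h1 : ∀ d ∈ D, d * g = g * d) :
    Nat.card D ≤ 2 := by
  refine A.small hr hT hg hgQ hD h1 fun d hd => ?_
  have hd' : H.x⁻¹ * d * H.x ∈ D := by
    have := hDx _ (hDx d hd)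
    rwa [conj_conj', ← (three_facts H.x_three).2.2.2, inv_inv] at this
  have h3 := (show Commute (H.x⁻¹ * d * H.x) g from h1 _ hd').map (MulAut.conj H.x).toMonoidHom
  simp only [MulEquiv.coe_toMonoidHom, MulAut.conj_apply] at h3
  rw [show H.x * (H.x⁻¹ * d * H.x) * H.x⁻¹ = d by group] at h3
  exact h3.eq

theorem central_mem (h2 : 2 < Nat.card A.Q) {a : G} (ha : a ∈ (T : Subgroup G))
    (hac : ∀ g ∈ (T : Subgroup G), g * a = a * g) : a ∈ A.Q := by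
  by_contra haQ
  have := A.small_invariant hr hT ha haQ A.hQ (fun q hq => A.Qn _ H.x_mem q hq)
    fun q hq => hac q (A.Q_le hT hq)
  omega

/-- The elements centralising the element of order three modulo the kernel. -/
theorem f_cent {g : G} (hg : g ∈ H.C) (h : A.f ⟨g, hg⟩ * A.f ⟨H.x, H.x_mem⟩ = A.f ⟨H.x, H.x_mem⟩ * A.f ⟨g, hg⟩) :
    ∃ i : ℕ, A.f ⟨g, hg⟩ = A.f ⟨H.x, H.x_mem⟩ ^ i := by
  rcases Three.cent _ _ A.f_x_cube A.fx h with e | e | e
  exacts [⟨0, by rw [e, pow_zero]⟩, ⟨1, by rw [e, pow_one]⟩, ⟨2, by rw [e, pow_two]⟩]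

end CaseA

end Hyp

end Cfsg.Agent.SelfSix
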