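import Cfsg.Agent.Lib.SelfSix.CaseASixMoved
import Cfsg.Agent.S2751
import Cfsg.Agent.S3331

/-!
# The quotient `S₃`: the Sylow subgroup has order at most `2⁷`

Either the amalgam has no common normal subgroup, or a minimal common normal elementary subgroup has
order eight and is its own centralizer.
-/

set_option autoImplicit false
set_option linter.style.haveILetI false
set_option linter.unusedSectionVars false

namespace Cfsg.Agent.SelfSix

open Subgroup
open scoped MatrixGroups IsMulCommutative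

namespace Frob

/-- A transvection of `SL₂(7)`. -/
def shear : SL(2, ZMod 7) := ⟨!![1, 1; 0, 1], by simp [Matrix.det_fin_two]⟩

/-- A diagonal element of order three of `SL₂(7)`. -/
def diag : SL(2, ZMod 7) := ⟨!![2, 0; 0, 4], by simp [Matrix.det_fin_two]; rfl⟩

theorem facts : shear ^ 7 = 1 ∧ diag ^ 3 = 1 ∧ diag * shear * diag⁻¹ = shear ^ 4 ∧ diag * shear ≠ shear * diag ∧
    ∀ i < 7, (shear ^ i * diag) ^ 3 = 1 := by
  decide +kernel

/-- A Frobenius group of order 21 in `PSL₂(7)`. -/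
theorem frobenius : ∃ k s : Matrix.ProjectiveSpecialLinearGroup (Fin 2) (ZMod 7),
    orderOf k = 7 ∧ orderOf s = 3 ∧ s * k * s⁻¹ = k ^ 4 ∧ ∀ i < 7, (k ^ i * s) ^ 3 = 1 := by
  haveI : Fact (Nat.Prime 7) := ⟨by norm_num⟩
  haveI : Fact (Nat.Prime 3) := ⟨by norm_num⟩
  obtain ⟨h1, h2, h3, h4, h5⟩ := facts
  set π : SL(2, ZMod 7) →* Matrix.ProjectiveSpecialLinearGroup (Fin 2) (ZMod 7) :=
    QuotientGroup.mk' (Subgroup.center SL(2, ZMod 7))
  have hne : ∀ a b : SL(2, ZMod 7), π a = 1 → a * b = b * a := fun a b ha =>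
    ((mem_center_iff.1 ((QuotientGroup.eq_one_iff (N := Subgroup.center SL(2, ZMod 7)) a).1 ha)) b).symm
  refine ⟨π shear, π diag, orderOf_eq_prime (by rw [← map_pow, h1, map_one]) fun h => h4 (hne _ diag h).symm,
    orderOf_eq_prime (by rw [← map_pow, h2, map_one]) fun h => h4 (hne _ shear h),
    by rw [← map_pow, ← map_inv, ← map_mul, ← map_mul, h3], fun i hi => by
      rw [← map_pow, ← map_mul, ← map_pow, h5 i hi, map_one]⟩

end Frob

/-- In an elementary abelian group a set of `n` elements lies in a subgroup of order at most `2ⁿ`. -/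
theorem exists_small_span {V : Type*} [CommGroup V] [Finite V] (hV : ∀ v : V, v * v = 1) (s : Finset V) :
    ∃ K : Subgroup V, (∀ a ∈ s, a ∈ K) ∧ Nat.card K ≤ 2 ^ s.card := by
  classical
  induction s using Finset.induction_on with
  | empty => exact ⟨⊥, by simp, by simp⟩
  | @insert a s ha ih =>
    obtain ⟨K, hK, hKc⟩ := ih
    refine ⟨zpowers a ⊔ K, fun b hb => ?_, ?_⟩
    · rcases Finset.mem_insert.1 hb with rfl | hb
      · exact mem_sup_left (mem_zpowers _)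
      · exact mem_sup_right (hK b hb)
    · rw [Finset.card_insert_of_notMem ha, pow_succ']
      refine (Nat.le_of_dvd (Nat.mul_pos Nat.card_pos Nat.card_pos) (Cores.card_sup_dvd_mul _ _)).trans ?_
      refine Nat.mul_le_mul ?_ hKc
      rw [Nat.card_zpowers]
      exact Nat.le_of_dvd (by norm_num) (orderOf_dvd_of_pow_eq_one (by rw [pow_two]; exact hV a))

variable {G : Type*} [Group G] [Finite G]

/-- A nilpotent normal subgroup without normal 2-subgroups of the whole group is odd. -/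
theorem odd_of_nilpotent_normal {X : Type*} [Group X] [Finite X] (N : Subgroup X) [N.Normal]
    [Group.IsNilpotent N] (h : ∀ M : Subgroup X, M.Normal → IsPGroup 2 M → M = ⊥) : ¬ 2 ∣ Nat.card N := by
  haveI : Fact (Nat.Prime 2) := ⟨Nat.prime_two⟩
  intro hdvd
  let S : Sylow 2 ↥N := default
  haveI hSn : (S : Subgroup ↥N).Normal := Sylow.normal_of_normalizerCondition Group.normalizerCondition_of_isNilpotent S
  haveI : (S : Subgroup ↥N).Characteristic := S.characteristic_of_normal hSn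
  have h1 := h _ (Cores.normal_map_subtype N (S : Subgroup ↥N)) (S.isPGroup'.map _)
  have h2 : (S : Subgroup ↥N) ≠ ⊥ := S.ne_bot_of_dvd_card hdvd
  exact h2 ((map_eq_bot_iff_of_injective _ N.subtype_injective).1 h1)

namespace Hyp

variable {H : Hyp G}

namespace CaseA

namespace Moved

variable {A : H.CaseA} (hr : Nat.card A.f.range = 6) {T : Sylow 2 G} (hT : H.Central T)
include hr hT
variable (D : A.Moved T)
include D

set_option maxHeartbeats 1600000 in
theorem card_T_le (h2 : 2 < Nat.card A.Q) : Nat.card T ≤ 2 ^ 7 := by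
  classical
  haveI : Fact (Nat.Prime 2) := ⟨Nat.prime_two⟩
  haveI : Fact (Nat.Prime 7) := ⟨by norm_num⟩
  have hPT : D.P ≤ (T : Subgroup G) := D.P_le hr hT
  obtain ⟨f₂, hf₂, hk₂⟩ := D.exists_quot hr hT h2
  obtain ⟨hcore₁, hquot₁⟩ := pCore_eq_ker A.f (A.f_surj hr hT) (by
    rw [D.f_ker hr hT h2]; exact A.hQ.of_equiv (subgroupOfEquivOfLe A.QC).symm)
  obtain ⟨hcore₂, hquot₂⟩ := pCore_eq_ker f₂ hf₂ (by
    rw [hk₂]; exact (T.isPGroup'.to_le hPT).of_equiv (subgroupOfEquivOfLe (hPT.trans (D.T_M2 hr hT))).symm)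
  rw [D.f_ker hr hT h2] at hcore₁
  rw [hk₂] at hcore₂
  have hinf := D.inf_eq hr hT h2
  by_cases hc : ∀ N : Subgroup G, N ≤ H.C ⊓ D.M2 → (N.subgroupOf H.C).Normal → (N.subgroupOf D.M2).Normal → N = ⊥
  · have h := S2751.result H.C D.M2 ⟨T.subtype hT.le, by rw [hinf]; rfl⟩
      ⟨T.subtype (D.T_M2 hr hT), by rw [hinf]; rfl⟩ hquot₁ hquot₂ hc
    rwa [hinf] at h
  push Not at hc
  obtain ⟨N, hNle, hN1, hN2, hNne⟩ := hc
  rw [hinf] at hNle
  have hNQ : N ≤ A.Q := fun g hg => by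
    have h1 : N.subgroupOf H.C ≤ Cfsg.pCore 2 ↥H.C :=
      Cores.le_pCore (hN := hN1) ((T.isPGroup'.to_le hNle).of_equiv (subgroupOfEquivOfLe (hNle.trans hT.le)).symm)
    rw [hcore₁] at h1
    exact h1 (x := ⟨g, hT.le (hNle hg)⟩) hg
  have hNP : N ≤ D.P := fun g hg => by
    have h1 : N.subgroupOf D.M2 ≤ Cfsg.pCore 2 ↥D.M2 :=
      Cores.le_pCore (hN := hN2)
        ((T.isPGroup'.to_le hNle).of_equiv (subgroupOfEquivOfLe (hNle.trans (D.T_M2 hr hT))).symm)
    rw [hcore₂] at h1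
    exact h1 (x := ⟨g, D.T_M2 hr hT (hNle hg)⟩) hg
  have hL := A.six_lone hr hT h2
  -- common invariant subgroups contain `z`
  let Inv : Subgroup G → Prop := fun K => ∀ g, g ∈ H.C ∨ g ∈ D.M2 → ∀ d ∈ K, g * d * g⁻¹ ∈ K
  have hzmem : ∀ K : Subgroup G, K ≤ (T : Subgroup G) → K ≠ ⊥ → Inv K → H.z ∈ K := by
    intro K hKT hK hI
    obtain ⟨d, hd, hd2, hdc⟩ := exists_central T.isPGroup' hKT (fun g hg d hd => hI g (Or.inl (hT.le hg)) d hd) hK
    exact hL d (hKT hd) hd2 hdc ▸ hd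
  have hNI : Inv N := by
    rintro g (hg | hg) d hd
    · exact hN1.conj_mem ⟨d, hT.le (hNle hd)⟩ hd ⟨g, hg⟩
    · exact hN2.conj_mem ⟨d, D.T_M2 hr hT (hNle hd)⟩ hd ⟨g, hg⟩
  let Fam : Subgroup G → Prop := fun K => K ≤ N ∧ K ≠ ⊥ ∧ (∀ a ∈ K, a * a = 1 ∧ ∀ b ∈ K, Commute a b) ∧ Inv K
  have hΩ : Fam (omegaCenter N) := by
    have hzN := hzmem N hNle hNne hNI
    refine ⟨omegaCenter_le _, fun h => H.z_ne (mem_bot.1 (h ▸ (⟨hzN, H.zz, fun g hg => hT.2 g (hNle hg)⟩ :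
      H.z ∈ omegaCenter N))), fun a ha => ⟨ha.2.1, fun b hb => (ha.2.2 b hb.1).symm⟩, fun g hg d hd =>
      omegaCenter_conj (fun n hn => hNI g hg n hn) hd⟩
  have hex : ∃ n, ∃ K, Fam K ∧ Nat.card K = n := ⟨_, _, hΩ, rfl⟩
  obtain ⟨A0, hA0, hA0card⟩ := Nat.find_spec hex
  have hmin : ∀ K, Fam K → K ≤ A0 → K = A0 := fun K hK hle =>
    eq_of_le_of_card_ge hle (hA0card ▸ Nat.find_le ⟨K, hK, rfl⟩)
  obtain ⟨hA0N, hA0ne, hA0el, hA0I⟩ := hA0
  have hA0T : A0 ≤ (T : Subgroup G) := hA0N.trans hNle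
  have hA0Q : A0 ≤ A.Q := hA0N.trans hNQ
  have hzA0 : H.z ∈ A0 := hzmem A0 hA0T hA0ne hA0I
  have huA0 : D.u ∈ A0 := D.y_z ▸ hA0I D.y (Or.inr (D.y_M2 hr hT)) _ hzA0
  -- the normalizer and centralizer
  set H0 := normalizer (A0 : Set G) with hH0
  have hH0mem : ∀ g, g ∈ H.C ∨ g ∈ D.M2 → g ∈ H0 := fun g hg => by
    have hg' : g⁻¹ ∈ H.C ∨ g⁻¹ ∈ D.M2 := hg.imp (fun h => inv_mem h) (fun h => inv_mem h)
    refine mem_normalizer_iff.2 fun v => ⟨fun hv => hA0I g hg v hv, fun hv => ?_⟩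
    have := hA0I _ hg' _ hv
    rwa [conj_conj', inv_mul_cancel, inv_one, mul_one, one_mul] at this
  have hH0A : ∀ n ∈ H0, ∀ a ∈ A0, n * a * n⁻¹ ∈ A0 := fun n hn a ha => (mem_normalizer_iff.1 hn a).1 ha
  set B := centralizer (A0 : Set G) with hB
  have hBP : B ≤ D.P := fun g hg => D.cent_mem hr hT h2
    (H.mem_C.2 (mem_centralizer_iff.1 hg _ hzA0).symm) (mem_centralizer_iff.1 hg _ huA0).symm
  have hA0B : A0 ≤ B := fun a ha => mem_centralizer_iff.2 fun b hb => ((hA0el b hb).2 a ha).eq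
  have hBn : ∀ g ∈ H0, ∀ b ∈ B, g * b * g⁻¹ ∈ B := fun g hg b hb => mem_centralizer_iff.2 fun a ha => by
    have h1 := (show Commute (g⁻¹ * a * g⁻¹⁻¹) b from mem_centralizer_iff.1 hb _ (hH0A _ (inv_mem hg) a ha)).map
      (MulAut.conj g).toMonoidHom
    simp only [MulEquiv.coe_toMonoidHom, MulAut.conj_apply] at h1
    rw [show g * (g⁻¹ * a * g⁻¹⁻¹) * g⁻¹ = a by group] at h1
    exact h1.eq
  have hBC : B ≤ H.C := fun g hg => hT.le (hPT (hBP hg))
  have hBQ : B ≤ A.Q := fun g hg => by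
    haveI : (B.subgroupOf H.C).Normal := ⟨fun b hb c => hBn c (hH0mem c (Or.inl c.2)) b hb⟩
    have h1 : B.subgroupOf H.C ≤ Cfsg.pCore 2 ↥H.C :=
      Cores.le_pCore ((T.isPGroup'.to_le (hBP.trans hPT)).of_equiv (subgroupOfEquivOfLe hBC).symm)
    rw [hcore₁] at h1
    exact h1 (x := ⟨g, hBC hg⟩) hg
  have hBM : B ≤ D.M0 := le_inf hBP hBQ
  have hBp : IsPGroup 2 B := A.hQ.to_le hBQ
  set ρ := conjAct H0 A0 hH0A with hρ
  set ρ' := ρ.rangeRestrict with hρ'
  have hρker : ∀ n : ↥H0, ρ' n = 1 ↔ (n : G) ∈ B := fun n => by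
    refine ⟨fun h => mem_centralizer_iff.2 fun a ha => ?_, fun h => Subtype.ext (MulEquiv.ext fun a => Subtype.ext
      (eq_conj_iff.2 (mem_centralizer_iff.1 h a a.2).symm))⟩
    have h1 : (n : G) * a * (n : G)⁻¹ = a :=
      congrArg (fun b : ↥ρ.range => (((b : MulAut ↥A0) ⟨a, ha⟩ : ↥A0) : G)) h
    exact (eq_conj_iff.1 h1).symm
  set xN : ↥H0 := ⟨H.x, hH0mem _ (Or.inl H.x_mem)⟩ with hxN
  set ξ := ρ' xN with hξ
  have hxB : H.x ∉ B := fun h => by
    have hd : orderOf H.x ∣ Nat.card A.Q := Subgroup.orderOf_dvd_natCard _ (hBQ h)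
    rw [H.x_three] at hd
    exact not_dvd_card A.hQ Nat.prime_three (by norm_num) hd
  have hξ3 : orderOf ξ = 3 := orderOf_eq_three (by
    rw [hξ, ← map_pow, show xN ^ 3 = 1 from Subtype.ext (by simpa [hxN] using (three_facts H.x_three).1), map_one])
    fun h => hxB ((hρker xN).1 h)
  have hfixcoset : ∀ q ∈ A.Q, H.x * q * H.x⁻¹ ∈ A.Q → q⁻¹ * (H.x * q * H.x⁻¹) ∈ B → q ∈ B := by
    intro q hq _ hqB
    obtain ⟨d, hd, hfd⟩ := exists_fixed_coset Nat.prime_three (by norm_num) (n := 1) (y := H.x)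
      (by simpa using (three_facts H.x_three).1) hBp (fun b hb => hBn _ (hH0mem _ (Or.inl H.x_mem)) b hb) hqB
    rcases A.fixed_Q (mul_mem hq (hBQ hd)) hfd with e | e
    · exact (B.mul_mem_cancel_right hd).1 (e ▸ one_mem B)
    · exact (B.mul_mem_cancel_right hd).1 (e ▸ hA0B hzA0)
  have hcen : centralizer ((zpowers ξ : Subgroup ↥ρ.range) : Set ↥ρ.range) = zpowers ξ := by
    refine le_antisymm (fun a ha => ?_) fun a ha b hb => ?_
    · obtain ⟨n, rfl⟩ := ρ.rangeRestrict_surjective a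
      have hc : ξ * ρ' n = ρ' n * ξ := mem_centralizer_iff.1 ha ξ (mem_zpowers _)
      have hz := congrArg (fun b : ↥ρ.range => (((b : MulAut ↥A0) ⟨H.z, hzA0⟩ : ↥A0) : G)) hc
      have hz' : H.x * ((n : G) * H.z * (n : G)⁻¹) * H.x⁻¹ = (n : G) * (H.x * H.z * H.x⁻¹) * (n : G)⁻¹ := hz
      rw [H.x_conj_z] at hz'
      have hnz := (A.fixed_Q (hA0Q (hH0A n n.2 _ hzA0)) hz').resolve_left fun e => H.z_ne (conj_eq_one_iff.1 e)
      have hnC : (n : G) ∈ H.C := H.mem_C.2 (eq_conj_iff.1 hnz)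
      set c := n * xN * n⁻¹ * xN⁻¹ with hc'
      have hcB : (c : G) ∈ B := (hρker c).1 (by
        rw [hc', map_mul, map_mul, map_mul, map_inv, map_inv, ← hξ, ← hc]
        group)
      set nC : ↥H.C := ⟨n, hnC⟩
      set xC : ↥H.C := ⟨H.x, H.x_mem⟩
      have hfc : A.f (nC * xC * nC⁻¹ * xC⁻¹) = 1 :=
        (A.ker _).2 ⟨_, hBQ hcB, 1, one_mem _, (mul_one _).symm⟩
      rw [map_mul, map_mul, map_mul, map_inv, map_inv, mul_inv_eq_one, mul_inv_eq_iff_eq_mul] at hfc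
      obtain ⟨i, hi⟩ := A.f_cent hr hT hnC hfc
      set q := xN ^ (-(i : ℤ)) * n with hq
      have hqC : (q : G) ∈ H.C := H.C.mul_mem (by simpa [hxN] using zpow_mem (inv_mem H.x_mem) (i : ℤ)) hnC
      have hqQ : (q : G) ∈ A.Q := D.mem_Q_of_ker hr hT h2 hqC (by
        rw [show (⟨(q : G), hqC⟩ : ↥H.C) = xC ^ (-(i : ℤ)) * nC from Subtype.ext (by simp [hq, hxN, xC, nC]),
          map_mul, map_zpow, hi, zpow_neg, zpow_natCast, inv_mul_cancel])
      have hρq : ξ * ρ' q = ρ' q * ξ := by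
        have hcomm : Commute ξ (ρ' n) := hc
        rw [hq, map_mul, map_zpow, ← hξ]
        exact (((Commute.refl ξ).zpow_right _).mul_right hcomm).eq
      have hqB : (q : G)⁻¹ * (H.x * q * H.x⁻¹) ∈ B := (hρker (q⁻¹ * (xN * q * xN⁻¹))).1 (by
        rw [map_mul, map_mul, map_mul, map_inv, map_inv, ← hξ, hρq]
        group)
      have h1 := (hρker q).2 (hfixcoset _ hqQ (A.Qn _ H.x_mem _ hqQ) hqB)
      rw [hq, map_mul, map_zpow, zpow_neg, inv_mul_eq_one] at h1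
      exact ⟨i, h1⟩
    · obtain ⟨k, rfl⟩ := mem_zpowers_iff.1 ha
      obtain ⟨m, rfl⟩ := mem_zpowers_iff.1 hb
      exact ((Commute.refl _).zpow_zpow m k).eq
  -- no normal 2-subgroup in the image
  have hO2 : ∀ M : Subgroup ↥ρ.range, M.Normal → IsPGroup 2 M → M = ⊥ := by
    intro M hM hMp
    set K0 := M.comap ρ' with hK0
    have hkp : IsPGroup 2 ρ'.ker :=
      fun g => by
        obtain ⟨k, hk⟩ := hBp ⟨_, (hρker g.1).1 g.2⟩
        exact ⟨k, Subtype.ext (Subtype.ext (by simpa using congrArg Subtype.val hk))⟩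
    have hK0p : IsPGroup 2 K0 := hMp.comap_of_ker_isPGroup ρ' hkp
    set K := K0.map H0.subtype with hK
    have hA0K : A0 ≤ K := fun a ha => ⟨⟨a, le_normalizer ha⟩, by
      show ρ' ⟨a, le_normalizer ha⟩ ∈ M
      rw [(hρker _).2 (hA0B ha)]
      exact one_mem M, rfl⟩
    obtain ⟨d, hd, hd2, hdc⟩ := exists_central (hK0p.map _) hA0K
      (fun g hg a ha => by obtain ⟨g', -, rfl⟩ := hg; exact hH0A g' g'.2 a ha) hA0ne
    have hF : Fam (A0 ⊓ centralizer (K : Set G)) := by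
      refine ⟨inf_le_left.trans hA0N, fun h => (two_sq hd2).2.1 (mem_bot.1 (h ▸ ⟨hd, mem_centralizer_iff.2 hdc⟩)),
        fun a ha => ⟨(hA0el a ha.1).1, fun b hb => (hA0el a ha.1).2 b hb.1⟩, fun g hg a ha =>
        ⟨hA0I g hg a ha.1, mem_centralizer_iff.2 ?_⟩⟩
      rintro _ ⟨k, hk, rfl⟩
      have hk' : (⟨g, hH0mem g hg⟩⁻¹ * k * ⟨g, hH0mem g hg⟩ : ↥H0) ∈ K0 := by
        show ρ' _ ∈ M
        rw [map_mul, map_mul, map_inv]
        have := hM.conj_mem _ (show ρ' k ∈ M from hk) (ρ' ⟨g, hH0mem g hg⟩)⁻¹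
        rwa [inv_inv] at this
      have h1 := (show Commute _ a from mem_centralizer_iff.1 ha.2 _ ⟨_, hk', rfl⟩).map (MulAut.conj g).toMonoidHom
      simp only [MulEquiv.coe_toMonoidHom, MulAut.conj_apply, Subgroup.coe_subtype, coe_mul, coe_inv] at h1
      rw [show g * (g⁻¹ * (k : G) * g) * g⁻¹ = k by group] at h1
      exact h1.eq
    refine eq_bot_iff.2 fun m hm => ?_
    obtain ⟨n, rfl⟩ := ρ.rangeRestrict_surjective m
    refine mem_bot.2 ((hρker n).2 (mem_centralizer_iff.2 fun a ha => ?_))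
    have ha' : a ∈ A0 ⊓ centralizer (K : Set G) := by rw [hmin _ hF inf_le_left]; exact ha
    exact (mem_centralizer_iff.1 ha'.2 (n : G) ⟨n, hm, rfl⟩).symm
  -- the image of the Sylow subgroup
  set σT := ρ'.comp (Subgroup.inclusion fun g hg => hH0mem g (Or.inl (hT.le hg)) : ↥(T : Subgroup G) →* ↥H0) with hσT
  obtain ⟨j, hTj, hj⟩ : ∃ j, Nat.card T = Nat.card B * 2 ^ j ∧ 2 ^ j ∣ Nat.card ↥ρ.range := by
    obtain ⟨j, hj⟩ := two_group_card (IsPGroup.of_surjective T.isPGroup' σT.rangeRestrict σT.rangeRestrict_surjective)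
    refine ⟨j, ?_, hj ▸ card_subgroup_dvd_card _⟩
    have h := card_mul_index σT.ker
    rw [index_ker, hj] at h
    have hk : σT.ker = B.subgroupOf (T : Subgroup G) := by
      ext g
      exact hρker _
    rw [hk, Nat.card_congr (subgroupOfEquivOfLe (hBP.trans hPT)).toEquiv] at h
    exact h.symm
  have hT4 : Nat.card T = 4 * Nat.card D.M0 := by
    have := A.card_T hr hT
    have := D.card_M0 hr hT h2
    omega
  have hj3 : ¬ 2 ^ j ≤ 4 := by
    intro hle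
    have hBM' : B = D.M0 := eq_of_le_of_card_ge hBM (by
      have h1 : Nat.card B * 2 ^ j ≤ Nat.card B * 4 := Nat.mul_le_mul le_rfl hle
      omega)
    obtain ⟨q, hq, hqM⟩ := SetLike.not_le_iff_exists.1 (show ¬ A.Q ≤ D.M0 from fun h => by
      have := card_le_of_le h
      have := D.card_M0 hr hT h2
      omega)
    have hm := (index_two_facts (D.M0_le hr hT) (D.card_M0 hr hT h2)).2
    have hxq : H.x * q * H.x⁻¹ ∈ A.Q := A.Qn _ H.x_mem q hq
    refine hqM (hBM (hfixcoset q hq hxq (hBM' ▸ hm _ (inv_mem hq) _ hxq (fun h => hqM (inv_mem_iff.1 h)) fun h => ?_)))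
    rw [← hBM'] at h
    have h' := hBn _ (hH0mem _ (Or.inl (inv_mem H.x_mem))) _ h
    rw [conj_conj', inv_mul_cancel, inv_one, mul_one, one_mul, hBM'] at h'
    exact hqM h'
  rcases S3331.result (zpowers ξ) (by rw [Nat.card_zpowers, hξ3]) hcen with
    ⟨M, hMn, hMnil, -, hq⟩ | ⟨M, hMn, -, hMel, ⟨e⟩⟩ | ⟨⟨e⟩⟩
  · exfalso
    haveI := hMn
    haveI := hMnil
    have hodd := odd_of_nilpotent_normal M hO2
    have hi : M.index = 3 ∨ M.index = 6 := by
      rw [index_eq_card]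
      exact hq.imp id fun ⟨e⟩ => (Nat.card_congr e.toEquiv).trans Three.card
    rw [← card_mul_index M] at hj
    have hd : 2 ^ j ∣ M.index := (Nat.Coprime.pow_left j
      ((Nat.Prime.coprime_iff_not_dvd Nat.prime_two).2 hodd)).dvd_of_dvd_mul_left hj
    refine hj3 ?_
    rcases j with _ | _ | _ | j
    · norm_num
    · norm_num
    · norm_num
    · exfalso
      have h8 : 8 ∣ M.index := (pow_dvd_pow 2 (show 3 ≤ j + 3 by omega)).trans hd
      rcases hi with h | h <;> rw [h] at h8 <;> norm_num at h8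
  · exfalso
    haveI := hMn
    have hM1 : M = ⊥ := hO2 M hMn fun g => ⟨1, Subtype.ext (by simpa using hMel g g.2)⟩
    have h60 : Nat.card ↥ρ.range = 60 := by
      rw [← card_mul_index M, index_eq_card, Nat.card_congr e.toEquiv, Five.card, hM1, card_bot, one_mul]
    refine hj3 (Nat.le_of_dvd (by norm_num) ?_)
    rw [h60, show 60 = 4 * 15 by norm_num] at hj
    exact (Nat.Coprime.pow_left j (by norm_num)).dvd_of_dvd_mul_right hj
  -- the quotient `PSL₂(7)`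
  have h168 : Nat.card ↥ρ.range = 168 := by rw [Nat.card_congr e.toEquiv, card_psl_seven]
  have hj8 : 2 ^ j = 8 := by
    have h8 : 2 ^ j ∣ 2 ^ 3 := by
      rw [h168, show 168 = 2 ^ 3 * 21 by norm_num] at hj
      exact (Nat.Coprime.pow_left j (by norm_num)).dvd_of_dvd_mul_right hj
    obtain ⟨i, hi, hij⟩ := (Nat.dvd_prime_pow Nat.prime_two).1 h8
    rw [hij] at hj3 ⊢
    interval_cases i <;> simp_all
  rw [hj8] at hTj
  -- seven elements generate `A0`
  have hseven : ∀ (g : G) (k : ℕ), g ^ 7 ^ k = 1 → g ≠ 1 → ∀ v : G, orderOf v = 2 → ¬ Commute g v := by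
    intro g k hk hg1 v hv hgv
    obtain ⟨c, hc⟩ := H.to_z hv
    have hcC : c * g * c⁻¹ ∈ H.C := H.mem_C.2 (by
      rw [← hc, ← conj_mul', ← conj_mul', hgv.eq])
    obtain ⟨n, hn⟩ := two_group_card T.isPGroup'
    have hd := Subgroup.orderOf_dvd_natCard _ hcC
    rw [orderOf_conj', D.card_C hr hT h2, hn] at hd
    refine hg1 (orderOf_eq_one_iff.1 (Nat.eq_one_of_dvd_coprimes ?_ (orderOf_dvd_of_pow_eq_one hk) hd))
    exact Nat.Coprime.pow_left k (Nat.Coprime.mul_right (by norm_num) (Nat.Coprime.pow_right n (by norm_num)))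
  obtain ⟨ke, se, hke, hse, hconj, hcube⟩ := Frob.frobenius
  set kb := e.symm ke with hkb
  set sb := e.symm se with hsb
  have hkb7 : orderOf kb = 7 := by rw [hkb, MulEquiv.orderOf_eq, hke]
  obtain ⟨g7, ⟨k7, hk7⟩, hg7, hg7z⟩ := exists_prime_pow_lift ρ' (by norm_num : Nat.Prime 7)
    (y := kb) (ρ.rangeRestrict_surjective kb) hkb7
  have hk7G : (g7 : G) ^ 7 ^ k7 = 1 := by simpa using congrArg Subtype.val hk7
  have hg71 : (g7 : G) ≠ 1 := fun h => hg7 (by rw [show g7 = 1 from Subtype.ext h, map_one])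
  have hfix7 : ∀ E : Subgroup G, IsPGroup 2 E → (∀ a ∈ E, (g7 : G) * a * (g7 : G)⁻¹ ∈ E) →
      ∀ a ∈ E, (g7 : G) * a * (g7 : G)⁻¹ = a → a = 1 := by
    intro E hE hEn a ha hfix
    by_contra ha1
    obtain ⟨d, hd, hd2, -⟩ := exists_central (T := E ⊓ centralizer ({(g7 : G)} : Set G)) (D := E ⊓ centralizer ({(g7 : G)} : Set G))
      (hE.to_le inf_le_left) le_rfl (fun g hg d hd => mul_mem (mul_mem hg hd) (inv_mem hg))
      (fun h => ha1 (mem_bot.1 (h ▸ ⟨ha, mem_centralizer_singleton_iff.2 (eq_conj_iff.1 hfix).symm⟩)))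
    exact hseven _ k7 hk7G hg71 d hd2 (mem_centralizer_singleton_iff.1 hd.2).symm
  have hA07 : Nat.card A0 % 7 = 1 := by
    have h := fixed_mod_subgroup (by norm_num : Nat.Prime 7) hk7G (D := A0) (hH0A _ g7.2)
    have e1 : A0 ⊓ centralizer ({(g7 : G)} : Set G) = ⊥ := eq_bot_iff.2 fun a ha =>
      mem_bot.2 (hfix7 A0 (T.isPGroup'.to_le hA0T) (hH0A _ g7.2) a ha.1
        (eq_conj_iff.2 (mem_centralizer_singleton_iff.1 ha.2).symm))
    rw [e1, card_bot] at h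
    exact h
  have hA0small : Nat.card A0 ≤ 2 ^ 7 := by
    have hidx : (H.C.subgroupOf H0).index = 7 := by
      have h1 := card_mul_index (H.C.subgroupOf H0)
      rw [Nat.card_congr (subgroupOfEquivOfLe fun g hg => hH0mem g (Or.inl hg)).toEquiv, D.card_C hr hT h2] at h1
      have h2' := card_mul_index ρ'.ker
      rw [index_ker, MonoidHom.range_eq_top.2 ρ.rangeRestrict_surjective, card_top, h168] at h2'
      have hk : Nat.card ρ'.ker = Nat.card B := by
        rw [show ρ'.ker = B.subgroupOf H0 from Subgroup.ext hρker,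
          Nat.card_congr (subgroupOfEquivOfLe fun g hg => hH0mem g (Or.inl (hBC hg))).toEquiv]
      rw [hk, ← h1, hTj] at h2'
      have hpos : 0 < Nat.card B := Nat.card_pos
      nlinarith
    haveI : IsMulCommutative ↥A0 := ⟨⟨fun a b => Subtype.ext ((hA0el a a.2).2 b b.2).eq⟩⟩
    haveI : Fintype (↥H0 ⧸ H.C.subgroupOf H0) := Fintype.ofFinite _
    let orb : ↥H0 ⧸ H.C.subgroupOf H0 → ↥A0 := fun q => ρ q.out ⟨H.z, hzA0⟩
    obtain ⟨K, hK, hKc⟩ := exists_small_span (V := ↥A0) (fun a => Subtype.ext (hA0el a a.2).1)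
      (Finset.univ.image orb)
    have horb : ∀ g : ↥H0, ρ g ⟨H.z, hzA0⟩ ∈ K := by
      intro g
      have h1 : orb (QuotientGroup.mk g) ∈ K := hK _ (Finset.mem_image_of_mem _ (Finset.mem_univ _))
      obtain ⟨c, hc⟩ := QuotientGroup.mk_out_eq_mul (H.C.subgroupOf H0) g
      have e1 : orb (QuotientGroup.mk g) = ρ g ⟨H.z, hzA0⟩ := by
        show ρ (QuotientGroup.mk g).out _ = _
        rw [hc, map_mul, MulAut.mul_apply]
        congr 1
        exact Subtype.ext (H.conj_z c.2)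
      rwa [e1] at h1
    set Z := closure (Set.range fun g : ↥H0 => (g : G) * H.z * (g : G)⁻¹) with hZ
    have hZA : Z ≤ A0 := (closure_le _).2 (by rintro _ ⟨g, rfl⟩; exact hH0A g g.2 _ hzA0)
    have hzZ : H.z ∈ Z := subset_closure ⟨1, by simp⟩
    have hZF : Fam Z := by
      refine ⟨hZA.trans hA0N, fun h => H.z_ne (mem_bot.1 (h ▸ hzZ)),
        fun a ha => ⟨(hA0el a (hZA ha)).1, fun b hb => (hA0el a (hZA ha)).2 b (hZA hb)⟩, fun g hg d hd => ?_⟩
      induction hd using closure_induction with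
      | mem a ha =>
        obtain ⟨g', rfl⟩ := ha
        refine subset_closure ⟨⟨g, hH0mem g hg⟩ * g', ?_⟩
        show (g * (g' : G)) * H.z * (g * (g' : G))⁻¹ = _
        rw [conj_conj']
      | one => simp
      | mul a b _ _ iha ihb => rw [conj_mul']; exact mul_mem iha ihb
      | inv a _ iha => rw [conj_inv']; exact inv_mem iha
    have hle : A0 ≤ K.map A0.subtype := by
      refine (le_of_eq (hmin Z hZF hZA).symm).trans ((closure_le _).2 ?_)
      rintro _ ⟨g, rfl⟩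
      exact ⟨_, horb g, rfl⟩
    refine (card_le_of_le hle).trans ?_
    rw [Subgroup.card_subtype]
    refine hKc.trans (Nat.pow_le_pow_right (by norm_num) (Finset.card_image_le.trans ?_))
    rw [Finset.card_univ, ← Nat.card_eq_fintype_card, ← index_eq_card, hidx]
  have hA08 : Nat.card A0 = 8 := by
    obtain ⟨k, hk⟩ := two_group_card (T.isPGroup'.to_le hA0T)
    have h3 := A.card_mod hA0Q hzA0 (fun v hv => hA0I _ (Or.inl H.x_mem) v hv)
    have h4 : 2 < Nat.card A0 := by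
      have hsub : ({1, H.z, D.u} : Set G) ⊆ (A0 : Set G) := by
        rintro a (rfl | rfl | rfl)
        exacts [one_mem _, hzA0, huA0]
      have h := Set.ncard_le_ncard hsub (Set.toFinite _)
      rw [Set.ncard_eq_three.2 ⟨1, H.z, D.u, H.z_ne.symm, D.u_one.symm, D.u_z.symm, rfl⟩,
        ← Nat.card_coe_set_eq] at h
      exact h
    rw [hk] at hA07 hA0small h3 h4 ⊢
    have hk7' : k ≤ 7 := (Nat.pow_le_pow_iff_right (le_refl 2)).1 hA0small
    interval_cases k <;> first | omega | simp_all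
  -- the layer over `A0` in its centralizer
  have hA0c : ∀ a ∈ A0, ∀ b ∈ B, Commute b a := fun a ha b hb => (mem_centralizer_iff.1 hb a ha).symm
  let S : Subgroup G :=
    { carrier := {a | a ∈ B ∧ a * a ∈ A0 ∧ ∀ g ∈ B, g * a * g⁻¹ * a⁻¹ ∈ A0}
      one_mem' := ⟨one_mem _, by simp, fun g _ => by simp⟩
      mul_mem' := by
        rintro d e ⟨hd, hd2, hdc⟩ ⟨he, he2, hec⟩
        refine ⟨mul_mem hd he, ?_, fun g hg => ?_⟩
        · have e1 : d * e * (d * e) = (d * (e * d * e⁻¹ * d⁻¹) * d⁻¹) * (d * d) * (e * e) := by group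
          rw [e1, eq_conj_iff.2 (hA0c _ (hdc e he) d hd).eq]
          exact mul_mem (mul_mem (hdc e he) hd2) he2
        · have e1 : g * (d * e) * g⁻¹ * (d * e)⁻¹ = (g * d * g⁻¹ * d⁻¹) * (d * (g * e * g⁻¹ * e⁻¹) * d⁻¹) := by group
          rw [e1, eq_conj_iff.2 (hA0c _ (hec g hg) d hd).eq]
          exact mul_mem (hdc g hg) (hec g hg)
      inv_mem' := by
        rintro d ⟨hd, hd2, hdc⟩
        refine ⟨inv_mem hd, by rw [← mul_inv_rev]; exact inv_mem hd2, fun g hg => ?_⟩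
        rw [show g * d⁻¹ * g⁻¹ * d⁻¹⁻¹ = (d⁻¹ * (g * d * g⁻¹ * d⁻¹) * d⁻¹⁻¹)⁻¹ by group,
          eq_conj_iff.2 (hA0c _ (hdc g hg) d⁻¹ (inv_mem hd)).eq]
        exact inv_mem (hdc g hg) }
  have hA0S : A0 ≤ S := fun a ha => ⟨hA0B ha, by rw [(hA0el a ha).1]; exact one_mem _, fun g hg => by
    rw [eq_conj_iff.2 (hA0c a ha g hg).eq, mul_inv_cancel]; exact one_mem _⟩
  have hH0S : ∀ n ∈ H0, ∀ a ∈ S, n * a * n⁻¹ ∈ S := by
    rintro n hn a ⟨ha, ha2, hac⟩
    refine ⟨hBn n hn a ha, by rw [← conj_mul']; exact hH0A n hn _ ha2, fun g hg => ?_⟩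
    have hg' : n⁻¹ * g * n⁻¹⁻¹ ∈ B := hBn _ (inv_mem hn) g hg
    rw [show g * (n * a * n⁻¹) * g⁻¹ * (n * a * n⁻¹)⁻¹ =
      n * ((n⁻¹ * g * n⁻¹⁻¹) * a * (n⁻¹ * g * n⁻¹⁻¹)⁻¹ * a⁻¹) * n⁻¹ by group]
    exact hH0A n hn _ (hac _ hg')
  haveI : (A0.subgroupOf S).Normal := ⟨fun e he g => by
    show (g : G) * e * (g : G)⁻¹ ∈ A0
    rw [show (g : G) * (e : G) * (g : G)⁻¹ = e from eq_conj_iff.2 (hA0c _ he _ g.2.1).eq]
    exact he⟩
  haveI : IsMulCommutative (↥S ⧸ A0.subgroupOf S) := ⟨⟨fun p q => by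
    obtain ⟨a, rfl⟩ := QuotientGroup.mk_surjective p
    obtain ⟨b, rfl⟩ := QuotientGroup.mk_surjective q
    refine QuotientGroup.eq.2 ?_
    show ((a : G) * b)⁻¹ * ((b : G) * a) ∈ A0
    rw [show ((a : G) * b)⁻¹ * ((b : G) * a) = (b : G)⁻¹ * (a : G)⁻¹ * (b : G)⁻¹⁻¹ * (a : G)⁻¹⁻¹ by group]
    exact (inv_mem a.2).2.2 _ (inv_mem b.2.1)⟩⟩
  set φ := secAct H0 S A0 hH0S hH0A with hφ
  have hφker : ρ'.ker ≤ φ.ker := by
    intro n hn
    have hnB := (hρker n).1 hn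
    refine MulEquiv.ext fun q => ?_
    obtain ⟨a, rfl⟩ := QuotientGroup.mk_surjective q
    rw [hφ, secAct_mk, MulAut.one_apply, eq_comm, QuotientGroup.eq]
    show (a : G)⁻¹ * ((n : G) * a * (n : G)⁻¹) ∈ A0
    rw [show (a : G)⁻¹ * ((n : G) * a * (n : G)⁻¹) =
      (a : G)⁻¹ * ((n : G) * a * (n : G)⁻¹ * (a : G)⁻¹) * (a : G)⁻¹⁻¹ by group,
      eq_conj_iff.2 (hA0c _ (a.2.2.2 _ hnB) _ (inv_mem a.2.1)).eq]
    exact a.2.2.2 _ hnB
  set ψ := MonoidHom.liftOfSurjective ρ' ρ.rangeRestrict_surjective ⟨φ, hφker⟩ with hψ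
  have hψφ : ∀ n : ↥H0, ψ (ρ' n) = φ n := fun n => MonoidHom.liftOfRightInverse_comp_apply _ _ _ ⟨φ, hφker⟩ n
  have hV : ∀ v : ↥S ⧸ A0.subgroupOf S, v * v = 1 := fun v => by
    obtain ⟨a, rfl⟩ := QuotientGroup.mk_surjective v
    exact (QuotientGroup.eq_one_iff (N := A0.subgroupOf S) (a * a)).2 a.2.2.1
  -- a fixed coset of an element of order three
  have hlift : ∀ (p : ℕ), p.Prime → p ≠ 2 → ∀ (g : ↥H0) (m : ℕ), (g : G) ^ p ^ m = 1 →
      ∀ v, φ g v = v → ∃ a : ↥S, QuotientGroup.mk a = v ∧ (g : G) * a * (g : G)⁻¹ = a := by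
    intro p hp hp2 g m hg v hv
    obtain ⟨a, rfl⟩ := QuotientGroup.mk_surjective v
    rw [hφ, secAct_mk, eq_comm, QuotientGroup.eq] at hv
    obtain ⟨d, hd, hfd⟩ := exists_fixed_coset hp hp2 hg (T.isPGroup'.to_le hA0T) (fun d hd => hH0A _ g.2 d hd) hv
    refine ⟨⟨a * d, mul_mem a.2 (hA0S hd)⟩, QuotientGroup.eq.2 ?_, hfd⟩
    show ((a : G) * d)⁻¹ * a ∈ A0
    rw [mul_inv_rev, mul_assoc, inv_mul_cancel, mul_one]
    exact inv_mem hd
  have hthree : ∀ fb : ↥ρ.range, fb ^ 3 = 1 → fb ≠ 1 → ∀ v, ψ fb v = v → v = 1 := by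
    intro fb hf3 hf1 v hv
    obtain ⟨g, ⟨m, hm⟩, hg, hgz⟩ := exists_prime_pow_lift ρ' Nat.prime_three (y := fb)
      (ρ.rangeRestrict_surjective fb) (orderOf_eq_three hf3 hf1)
    have hgv : φ g v = v := by
      rw [← hψφ]
      obtain ⟨i, hi⟩ := mem_zpowers_iff.1 hgz
      rw [← hi, map_zpow]
      exact (MulAction.stabilizer (MulAut (↥S ⧸ A0.subgroupOf S)) v).zpow_mem hv i
    have hmG : (g : G) ^ 3 ^ m = 1 := by simpa using congrArg Subtype.val hm
    obtain ⟨a, rfl, hfd⟩ := hlift 3 Nat.prime_three (by norm_num) g m hmG v hgv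
    have hg3 : 3 ∣ orderOf (g : G) := by
      obtain ⟨i, -, hi⟩ := (Nat.dvd_prime_pow Nat.prime_three).1 (orderOf_dvd_of_pow_eq_one hmG)
      rcases i with _ | i
      · exact absurd (by rw [show g = 1 from Subtype.ext (orderOf_eq_one_iff.1 (hi.trans (pow_zero 3))), map_one]) hg
      · rw [hi]; exact dvd_pow_self 3 (Nat.succ_ne_zero i)
    set F := B ⊓ centralizer ({(g : G)} : Set G) with hF
    have hF2 : Nat.card F ≤ 2 := H.card_two_of_dvd hg3 (hBp.to_le inf_le_left)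
      fun d hd => mem_centralizer_singleton_iff.1 hd.2
    have hA0F : A0 ⊓ centralizer ({(g : G)} : Set G) ≤ F := inf_le_inf_right _ hA0B
    have h8 := fixed_mod_subgroup Nat.prime_three hmG (D := A0) (hH0A _ g.2)
    rw [hA08] at h8
    have heq : A0 ⊓ centralizer ({(g : G)} : Set G) = F := eq_of_le_of_card_ge hA0F (by
      have h8' : Nat.card ↥(A0 ⊓ centralizer ({(g : G)} : Set G)) % 3 = 2 := by
        rw [Nat.ModEq] at h8
        omega
      have := Nat.mod_le (Nat.card ↥(A0 ⊓ centralizer ({(g : G)} : Set G))) 3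
      omega)
    have haF : (a : G) ∈ F := ⟨a.2.1, mem_centralizer_singleton_iff.2 (eq_conj_iff.1 hfd).symm⟩
    rw [← heq] at haF
    exact (QuotientGroup.eq_one_iff (N := A0.subgroupOf S) a).2 haF.1
  have hkbs : sb * kb * sb⁻¹ = kb ^ 4 := by
    rw [hsb, hkb, ← map_inv, ← map_mul, ← map_mul, hconj, map_pow]
  have hsb1 : sb ∉ zpowers kb := fun h => by
    have := orderOf_dvd_of_mem_zpowers h
    rw [hkb7, hsb, MulEquiv.orderOf_eq, hse] at this
    norm_num at this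
  haveI : Fintype ↥(zpowers kb) := Fintype.ofFinite _
  let act : ↥(zpowers kb) →* MulAut (↥S ⧸ A0.subgroupOf S) := ψ.comp (zpowers kb).subtype
  have hact : ∀ (k : ↥(zpowers kb)) v, act k v = v := by
    refine kernel_trivial act (ψ sb) hV ?_ (fun k => ?_) fun k v => ?_
    · rw [← Nat.card_eq_fintype_card, Nat.card_zpowers, hkb7]
      decide
    · refine ⟨⟨sb * (k : ↥ρ.range) * sb⁻¹, ?_⟩, fun w => ?_⟩
      · obtain ⟨i, hi⟩ := mem_zpowers_iff.1 k.2
        rw [← hi, ← conj_zpow, hkbs, ← zpow_natCast, ← zpow_mul]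
        exact ⟨_, rfl⟩
      · show ψ (k : ↥ρ.range) ((ψ sb)⁻¹ w) = (ψ sb)⁻¹ (ψ (sb * (k : ↥ρ.range) * sb⁻¹) w)
        rw [← MulAut.mul_apply, ← MulAut.mul_apply, ← map_inv, ← map_mul, ← map_mul]
        congr 2
        group
    · set fb := (k : ↥ρ.range) * sb with hfb
      have hf3 : fb ^ 3 = 1 := by
        obtain ⟨i, hi⟩ := mem_zpowers_iff.1 k.2
        have hi' : (k : ↥ρ.range) = kb ^ (i % 7).toNat := by
          rw [← hi, ← zpow_natCast, Int.toNat_of_nonneg (Int.emod_nonneg i (by norm_num))]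
          exact zpow_eq_zpow_iff_modEq.2 (by rw [hkb7]; exact (Int.mod_modEq i 7).symm)
        rw [hfb, hi', hkb, hsb, ← map_pow, ← map_mul, ← map_pow, hcube _ (by omega), map_one]
      have hf1 : fb ≠ 1 := fun h => hsb1 (eq_inv_of_mul_eq_one_right (hfb ▸ h) ▸ inv_mem k.2)
      refine hthree fb hf3 hf1 _ ?_
      set F := ψ fb with hFdef
      have hF3 : F * F * F = 1 := by
        rw [hFdef, ← map_mul, ← map_mul, show fb * fb * fb = 1 by rw [← pow_two, ← pow_succ]; exact hf3, map_one]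
      have e1 : act k ((ψ sb) v) = F v := by
        show ψ (k : ↥ρ.range) (ψ sb v) = _
        rw [← MulAut.mul_apply, ← map_mul]
      have e2 : (ψ sb)⁻¹ (act k⁻¹ v) = F⁻¹ v := by
        show (ψ sb)⁻¹ (ψ ((k⁻¹ : ↥(zpowers kb)) : ↥ρ.range) v) = _
        rw [← MulAut.mul_apply, ← map_inv ψ, ← map_mul, hFdef, hfb, ← map_inv ψ, mul_inv_rev, coe_inv]
      rw [e1, e2, map_mul, map_mul, MulAut.apply_inv_self,
        show F (F v) = F⁻¹ v by rw [← MulAut.mul_apply, eq_inv_of_mul_eq_one_left hF3]]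
      rw [mul_comm (F v * F⁻¹ v) v, mul_assoc]
  have hφ7 : ∀ v, φ g7 v = v := fun v => by
    rw [← hψφ]
    exact hact ⟨_, hg7z⟩ v
  have hBA : B ≤ A0 := by
    by_contra hne
    obtain ⟨d, hdB, hdA, hd2, hdc⟩ := exists_layer hBp hA0B le_rfl (fun g hg d hd => hH0A g (hH0mem g (Or.inl (hBC hg))) d hd)
      (fun g hg d hd => mul_mem (mul_mem hg hd) (inv_mem hg)) hne
    obtain ⟨a, ha, hfix⟩ := hlift 7 (by norm_num) (by norm_num) g7 k7 hk7G
      (QuotientGroup.mk (⟨d, hdB, hd2, hdc⟩ : ↥S)) (hφ7 _)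
    have ha1 : (a : G) = 1 := hfix7 B hBp (fun b hb => hBn _ g7.2 b hb) a a.2.1 hfix
    have h3 := QuotientGroup.eq.1 ha
    refine hdA ?_
    have h4 : (a : G)⁻¹ * d ∈ A0 := h3
    rwa [ha1, inv_one, one_mul] at h4
  rw [hTj, le_antisymm hBA hA0B, hA08]
  norm_num

end Moved

end CaseA

end Hyp

end Cfsg.Agent.SelfSix
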