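import Cfsg.Agent.Lib.SelfSix.CaseBSylow
import Cfsg.Agent.Lib.SelfSix.Absorb
import Cfsg.Agent.Lib.SelfSix.Local

/-!
# The quotient `A₅` with a larger radical does not occur
-/

set_option autoImplicit false
set_option linter.style.haveILetI false
set_option linter.unusedSectionVars false

namespace Cfsg.Agent.SelfSix

open Subgroup
open scoped Pointwise

variable {G : Type*} [Group G] [Finite G]

theorem card_inf_mul (V W : Subgroup G) : Nat.card ↥(V ⊓ W) * V.relIndex W = Nat.card W := by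
  rw [← inf_relIndex_right, relIndex, ← card_mul_index ((V ⊓ W).subgroupOf W),
    Nat.card_congr (subgroupOfEquivOfLe inf_le_right).toEquiv]

/-- Subgroups of a group in which a subgroup has index at most `k` meet it in index at most `k`. -/
theorem card_le_mul_inf {V W T : Subgroup G} {k : ℕ} (hWT : W ≤ T) (hVT : V ≤ T)
    (hk : Nat.card T = k * Nat.card V) :
    V.relIndex W ≤ k ∧ Nat.card W ≤ k * Nat.card ↥(V ⊓ W) := by
  have h : V.relIndex T = k := by
    have h1 := card_inf_mul V T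
    rw [inf_of_le_left hVT, hk, mul_comm k] at h1
    exact mul_left_cancel₀ (Nat.card_pos (α := V)).ne' h1
  have h2 : V.relIndex W ≤ k := h ▸ relIndex_le_of_le_right hWT index_ne_zero_of_finite
  exact ⟨h2, by rw [← card_inf_mul V W, mul_comm k]; exact Nat.mul_le_mul_left _ h2⟩

/-- A square bound and a linear bound. -/
theorem le_eight_mul {c v k : ℕ} (h1 : c ^ 2 ≤ 2 * v) (h2 : v ≤ k * c) (hc : 0 < c) : c ≤ 2 * k := by
  refine Nat.le_of_mul_le_mul_right (?_ : c * c ≤ 2 * k * c) hc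
  rw [← pow_two, mul_assoc]
  omega

namespace Hyp

variable {H : Hyp G}

namespace CaseB

variable (b : H.CaseB)

/-- The centre of the radical. -/
def Zc : Subgroup G := b.V ⊓ centralizer (b.V : Set G)

theorem mem_Zc {v : G} : v ∈ b.Zc ↔ v ∈ b.V ∧ ∀ w ∈ b.V, w * v = v * w :=
  and_congr_right fun _ => mem_centralizer_iff

theorem Zc_le : b.Zc ≤ b.V := inf_le_left

theorem z_Zc : H.z ∈ b.Zc := b.mem_Zc.2 ⟨b.zV, fun _ hw => H.mem_C.1 (b.VC hw)⟩

theorem Zc_conj {g : G} (hg : g ∈ H.C) {v : G} (hv : v ∈ b.Zc) : g * v * g⁻¹ ∈ b.Zc := by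
  obtain ⟨hvV, hvc⟩ := b.mem_Zc.1 hv
  refine b.mem_Zc.2 ⟨b.conj_mem hg hvV, fun w hw => ?_⟩
  have h1 := (show Commute (g⁻¹ * w * g⁻¹⁻¹) v from hvc _ (b.conj_mem (inv_mem hg) hw)).map
    (MulAut.conj g).toMonoidHom
  simp only [MulEquiv.coe_toMonoidHom, MulAut.conj_apply] at h1
  rw [show g * (g⁻¹ * w * g⁻¹⁻¹) * g⁻¹ = w by group] at h1
  exact h1.eq

/-- A non-abelian radical has no abelian subgroup of index at most two. -/
theorem center_small (hna : ¬ ∀ v ∈ b.V, ∀ w ∈ b.V, v * w = w * v) {A : Subgroup G} (hAV : A ≤ b.V)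
    (hA : ∀ v ∈ A, ∀ w ∈ A, v * w = w * v) (hcard : Nat.card b.V ≤ 2 * Nat.card A) : False := by
  obtain ⟨t, htV, htA⟩ := SetLike.not_le_iff_exists.1 (show ¬ b.V ≤ A from fun h =>
    hna fun v hv w hw => hA v (h hv) w (h hw))
  have hidx : 2 * Nat.card A = Nat.card b.V := by
    have h1 := card_inf_mul A b.V
    rw [inf_of_le_left hAV] at h1
    have h2 : A.relIndex b.V ≠ 1 := fun h => htA (relIndex_eq_one.1 h htV)
    have h3 : A.relIndex b.V ≤ 2 := by
      refine Nat.le_of_mul_le_mul_left ?_ (Nat.card_pos (α := A))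
      rw [h1]; omega
    have h4 : A.relIndex b.V ≠ 0 := index_ne_zero_of_finite
    rw [show A.relIndex b.V = 2 by omega] at h1
    omega
  obtain ⟨-, hm⟩ := index_two_facts hAV hidx
  have hB : A ⊓ centralizer ({t} : Set G) ≤ b.Zc := by
    intro e he
    refine b.mem_Zc.2 ⟨hAV he.1, fun w hw => ?_⟩
    by_cases hwA : w ∈ A
    · exact hA w hwA e he.1
    · have h1 : Commute e t := mem_centralizer_singleton_iff.1 he.2
      have h2 : Commute e (t⁻¹ * w) := hA e he.1 _ (hm _ (inv_mem htV) w hw (fun h => htA (inv_mem_iff.1 h)) hwA)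
      have h3 := h1.mul_right h2
      rw [mul_inv_cancel_left] at h3
      exact h3.eq.symm
  have hle := card_le_centralizer (B := A) (a := t) (c := H.z) fun p hp => H.mem_zpowers_z.1 (b.comm_z htV (hAV hp))
  have hle' := card_le_of_le hB
  have hall := b.section_large b.z_Zc b.Zc_le le_rfl (fun g hg v hv => b.Zc_conj hg hv)
    (fun g hg v hv => b.conj_mem hg hv) (by omega)
  exact hna fun v hv w hw => (b.mem_Zc.1 (hall hw)).2 v hv

theorem small_le {B : Subgroup G} (hzB : H.z ∈ B) (hBV : B ≤ b.V) (hB : ∀ g ∈ H.C, ∀ v ∈ B, g * v * g⁻¹ ∈ B)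
    (h : Nat.card B ≤ 8) : B ≤ zpowers H.z := by
  refine b.section_large (mem_zpowers _) (zpowers_le.2 hzB) hBV (fun g hg v hv => ?_) hB (by
    rw [Nat.card_zpowers, H.z_inv]; omega)
  rcases H.mem_zpowers_z.1 hv with rfl | rfl
  · simp
  · rw [H.conj_z hg]; exact mem_zpowers _

theorem big {v : G} (hv : v ∈ b.V) (hvz : v ∉ zpowers H.z) :
    8 < Nat.card b.V ∧ (Nat.card b.V ≤ 32 → Nat.card b.V = 32) := by
  have h8 : 8 < Nat.card b.V := by
    by_contra h
    exact hvz (b.small_le b.zV le_rfl (fun g hg w hw => b.conj_mem hg hw) (by omega) hv)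
  refine ⟨h8, fun h32 => ?_⟩
  obtain ⟨k, hk⟩ := two_group_card b.isPGroup
  have h3 := b.card_mod le_rfl b.zV fun v hv => b.conj_mem H.x_mem hv
  rw [hk] at h8 h32 h3 ⊢
  have : k ≤ 5 := (Nat.pow_le_pow_iff_right (a := 2) (le_refl 2)).1 h32
  interval_cases k <;> simp_all

variable (S : b.Syl)

/-- The elements of the radical central in the Sylow subgroup modulo `z`. -/
def Y : Subgroup G := b.V ⊓ ⨅ a : ↥(S.T : Subgroup G), H.modCent b.V a

theorem mem_Y {v : G} : v ∈ b.Y S ↔ v ∈ b.V ∧ ∀ g ∈ S.T, g * v * g⁻¹ * v⁻¹ ∈ zpowers H.z := by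
  rw [Y, mem_inf, mem_iInf]
  exact ⟨fun h => ⟨h.1, fun g hg => (h.2 ⟨g, hg⟩).2⟩, fun h => ⟨h.1, fun g => ⟨⟨h.1, b.VC h.1⟩, h.2 g g.2⟩⟩⟩

theorem Y_le : b.Y S ≤ b.V := inf_le_left

theorem Y_le_modCent {a : G} (ha : a ∈ S.T) : b.Y S ≤ H.modCent b.V a := fun v hv =>
  ⟨⟨b.Y_le S hv, b.VC (b.Y_le S hv)⟩, ((b.mem_Y S).1 hv).2 a ha⟩

theorem z_Y : H.z ∈ b.Y S := (b.mem_Y S).2 ⟨b.zV, fun g hg => by
  rw [H.conj_z (S.central.le hg), mul_inv_cancel]; exact one_mem _⟩

theorem Y_x {v : G} (hv : v ∈ b.Y S) : H.x * v * H.x⁻¹ ∈ b.Y S := by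
  obtain ⟨hvV, hvT⟩ := (b.mem_Y S).1 hv
  refine (b.mem_Y S).2 ⟨b.conj_mem H.x_mem hvV, fun g hg => ?_⟩
  have hg' : H.x⁻¹ * g * H.x ∈ S.T := by
    have := S.x_norm _ (S.x_norm g hg)
    rwa [conj_conj', ← (three_facts H.x_three).2.2.2, inv_inv] at this
  obtain ⟨k, hk⟩ := mem_zpowers_iff.1 (hvT _ hg')
  rw [show g * (H.x * v * H.x⁻¹) * g⁻¹ * (H.x * v * H.x⁻¹)⁻¹ =
    H.x * ((H.x⁻¹ * g * H.x) * v * (H.x⁻¹ * g * H.x)⁻¹ * v⁻¹) * H.x⁻¹ by group, ← hk,
    eq_conj_iff.2 ((show Commute H.x H.z from H.zx.symm).zpow_right k).eq]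
  exact ⟨k, rfl⟩

theorem T_conj_z {g : G} (hg : g ∈ S.T) {d : G} (hd : d ∈ zpowers H.z) : g * d * g⁻¹ ∈ zpowers H.z := by
  rcases H.mem_zpowers_z.1 hd with rfl | rfl
  · simp
  · rw [H.conj_z (S.central.le hg)]; exact mem_zpowers _

theorem exists_Y {D : Subgroup G} (hzD : H.z ∈ D) (hDV : D ≤ b.V) (hD : ∀ g ∈ H.C, ∀ v ∈ D, g * v * g⁻¹ ∈ D)
    (hne : ¬ D ≤ zpowers H.z) : 4 < Nat.card ↥(D ⊓ b.Y S) := by
  obtain ⟨d, hd, hdz, -, hdc⟩ := exists_layer S.T.isPGroup' (zpowers_le.2 hzD) (hDV.trans S.le)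
    (fun g hg d hd => b.T_conj_z S hg hd) (fun g hg d hd => hD g (S.central.le hg) d hd) hne
  have hd' : d ∈ D ⊓ b.Y S := ⟨hd, (b.mem_Y S).2 ⟨hDV hd, hdc⟩⟩
  have h3 := b.card_mod (B := D ⊓ b.Y S) (inf_le_left.trans hDV) ⟨hzD, b.z_Y S⟩
    fun v hv => ⟨hD _ H.x_mem v hv.1, b.Y_x S hv.2⟩
  obtain ⟨k, hk⟩ := two_group_card (b.isPGroup.to_le ((inf_le_left (b := b.Y S)).trans hDV))
  by_contra h4
  rw [not_lt, hk] at h4
  rw [hk] at h3
  have : k ≤ 2 := (Nat.pow_le_pow_iff_right (a := 2) (le_refl 2)).1 (by simpa using h4)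
  have hk2 : Nat.card ↥(D ⊓ b.Y S) = 2 := by
    rw [hk]; interval_cases k <;> simp_all
  have heq : zpowers H.z = D ⊓ b.Y S := eq_of_le_of_card_ge (zpowers_le.2 (mem_inf.2 ⟨hzD, b.z_Y S⟩))
    (by rw [hk2, Nat.card_zpowers, H.z_inv])
  exact hdz (heq ▸ hd')

theorem central_mem {a : G} (haT : a ∈ S.T) (hac : ∀ g ∈ S.T, g * a = a * g) (h8 : 8 < Nat.card b.V) :
    a ∈ b.V := by
  by_contra haV
  have h := b.half b.zV le_rfl (fun g hg v hv => b.conj_mem hg hv) (S.central.le haT) (S.sq a haT) haV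
  have hle : b.V ≤ H.modCent b.V a := fun v hv =>
    ⟨⟨hv, b.VC hv⟩, by rw [eq_conj_iff.2 (hac v (S.le hv)).symm, mul_inv_cancel]; exact one_mem _⟩
  have := card_le_of_le hle
  nlinarith

/-- Conjugates of the radical: squares. -/
theorem map_sq {n u : G} (hu : n * H.z * n⁻¹ = u) {w : G} (hw : w ∈ b.V.map (MulAut.conj n).toMonoidHom) :
    w * w = 1 ∨ w * w = u := by
  obtain ⟨v, hv, rfl⟩ := hw
  show n * v * n⁻¹ * (n * v * n⁻¹) = 1 ∨ n * v * n⁻¹ * (n * v * n⁻¹) = u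
  rw [← conj_mul']
  rcases b.sq v hv with e | e <;> rw [e]
  · exact Or.inl (by simp)
  · exact Or.inr hu

/-- Conjugates of the radical: commutators. -/
theorem map_comm {n u : G} (hu : n * H.z * n⁻¹ = u) {w w' : G} (hw : w ∈ b.V.map (MulAut.conj n).toMonoidHom)
    (hw' : w' ∈ b.V.map (MulAut.conj n).toMonoidHom) :
    w * w' * w⁻¹ * w'⁻¹ = 1 ∨ w * w' * w⁻¹ * w'⁻¹ = u := by
  obtain ⟨v, hv, rfl⟩ := hw
  obtain ⟨v', hv', rfl⟩ := hw'
  simp only [MulEquiv.coe_toMonoidHom, MulAut.conj_apply]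
  rw [show n * v * n⁻¹ * (n * v' * n⁻¹) * (n * v * n⁻¹)⁻¹ * (n * v' * n⁻¹)⁻¹ = n * (v * v' * v⁻¹ * v'⁻¹) * n⁻¹ by
    group]
  rcases H.mem_zpowers_z.1 (b.comm_z hv hv') with e | e <;> rw [e]
  · exact Or.inl (by simp)
  · exact Or.inr hu

/-- The common part of the radical and a conjugate moved off `z` is abelian. -/
theorem inf_comm {n u : G} (hu : n * H.z * n⁻¹ = u) (huz : u ≠ H.z) :
    ∀ v ∈ b.V ⊓ b.V.map (MulAut.conj n).toMonoidHom, ∀ w ∈ b.V ⊓ b.V.map (MulAut.conj n).toMonoidHom,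
      v * w = w * v := by
  intro v hv w hw
  rcases H.mem_zpowers_z.1 (b.comm_z hv.1 hw.1) with e | e
  · exact eq_conj_iff.1 (mul_inv_eq_one.1 e)
  · exfalso
    rcases b.map_comm hu hv.2 hw.2 with e' | e' <;> rw [e] at e'
    · exact H.z_ne e'
    · exact huz e'.symm

theorem mem_normalizer_of_map {n : G} (h : b.V.map (MulAut.conj n).toMonoidHom = b.V) :
    n ∈ normalizer (b.V : Set G) :=
  mem_normalizer_iff.2 fun v => by
    refine ⟨fun hv => h.le ⟨v, hv, rfl⟩, fun hv => ?_⟩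
    obtain ⟨v', hv', e⟩ := h.ge hv
    exact (MulAut.conj n).injective e ▸ hv'

/-- `z` is the only central involution of the Sylow subgroup. -/
theorem lone {v₀ : G} (hv₀ : v₀ ∈ b.V) (hv₀z : v₀ ∉ zpowers H.z) : H.Lone S.T := by
  obtain ⟨h8, h32⟩ := b.big hv₀ hv₀z
  intro u huT hu2 huc
  by_contra huz
  have huV := b.central_mem S huT huc h8
  obtain ⟨n, hodd, hn, hnu⟩ := exists_odd_conj S.T S.central.2 huc (H.one H.z u H.z_inv hu2)
  set W := b.V.map (MulAut.conj n).toMonoidHom with hW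
  have hWcard : Nat.card W = Nat.card b.V := card_map_of_injective (MulAut.conj n).injective
  have hWT : W ≤ (S.T : Subgroup G) := by
    rintro _ ⟨v, hv, rfl⟩
    exact (mem_normalizer_iff.1 hn v).1 (S.le hv)
  have hne : W ≠ b.V := fun h => b.normalizer_false S (b.mem_normalizer_of_map h) (hnu ▸ huz)
  obtain ⟨a, haW, haV⟩ := SetLike.not_le_iff_exists.1 (show ¬ W ≤ b.V from fun h =>
    hne (eq_of_le_of_card_ge h hWcard.ge))
  obtain ⟨-, hVA⟩ := card_le_mul_inf hWT S.le S.card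
  rw [hWcard] at hVA
  set A := b.V ⊓ W with hAdef
  have hAc : ∀ v ∈ A, ∀ w ∈ A, v * w = w * v := b.inf_comm hnu huz
  have haC : a ∈ H.C := S.central.le (hWT haW)
  have ha2 : a * a ∈ b.V := S.sq a (hWT haW)
  have hab : ∀ v ∈ b.V, ∀ w ∈ b.V, v * w = w * v := by
    by_contra hna
    have hZA : b.Zc ≤ A := by
      by_contra hcon
      have hlt : A < A ⊔ b.Zc := left_lt_sup.2 hcon
      refine b.center_small hna (A := A ⊔ b.Zc) (sup_le inf_le_left b.Zc_le) ?_ ?_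
      · have hcl : (A ⊔ b.Zc) ≤ centralizer ((A ⊔ b.Zc : Subgroup G) : Set G) := by
          have h1 : A ≤ centralizer ((A ⊔ b.Zc : Subgroup G) : Set G) := by
            rw [le_centralizer_iff]
            refine sup_le (fun w hw => mem_centralizer_iff.2 fun v hv => hAc v hv w hw) fun w hw => ?_
            exact mem_centralizer_iff.2 fun v hv => (b.mem_Zc.1 hw).2 v (inf_le_left (b := W) hv)
          refine sup_le h1 ?_
          rw [le_centralizer_iff]
          refine sup_le (fun v hv => mem_centralizer_iff.2 fun w hw => ((b.mem_Zc.1 hw).2 v (inf_le_left (b := W) hv)).symm)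
            fun v hv => mem_centralizer_iff.2 fun w hw => (b.mem_Zc.1 hv).2 w (b.Zc_le hw)
        intro v hv w hw
        exact (mem_centralizer_iff.1 (hcl hv) w hw).symm
      · obtain ⟨k, hk⟩ := card_dvd_of_le hlt.le
        have hlt' : Nat.card A < Nat.card ↥(A ⊔ b.Zc) := lt_of_le_of_ne (card_le_of_le hlt.le) fun h =>
          hlt.ne (eq_of_le_of_card_ge hlt.le h.ge)
        have : 2 ≤ k := by
          by_contra hk2
          have h5 := Nat.mul_le_mul_left (Nat.card A) (show k ≤ 1 by omega)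
          rw [mul_one, ← hk] at h5
          exact absurd hlt' (not_lt.2 h5)
        have := Nat.mul_le_mul_left (Nat.card A) this
        omega
    have hc := card_le_centralizer (B := b.Zc) (a := a) (c := u) fun p hp =>
      b.map_comm hnu haW (inf_le_right (a := b.V) (hZA hp))
    have hsub : b.Zc ⊓ centralizer ({a} : Set G) ≤ H.modCent b.Zc a := fun e he =>
      ⟨⟨he.1, b.VC (b.Zc_le he.1)⟩, by
        rw [eq_conj_iff.2 (mem_centralizer_singleton_iff.1 he.2).symm, mul_inv_cancel]; exact one_mem _⟩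
    have hh := b.half (B := b.Zc) b.z_Zc b.Zc_le (fun g hg v hv => b.Zc_conj hg hv) haC ha2 haV
    have h1 := card_le_of_le hsub
    have h4 := le_eight_mul (k := 2) hh (by omega) (Nat.card_pos)
    have hZ := b.small_le b.z_Zc b.Zc_le (fun g hg v hv => b.Zc_conj hg hv) (by omega)
    rcases H.mem_zpowers_z.1 (hZ (b.mem_Zc.2 ⟨huV, fun v hv => huc v (S.le hv)⟩)) with e | e
    · exact (two_sq hu2).2.1 e
    · exact huz e
  have hWab : ∀ v ∈ W, ∀ w ∈ W, v * w = w * v := by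
    rintro _ ⟨v, hv, rfl⟩ _ ⟨w, hw, rfl⟩
    rw [← map_mul, ← map_mul, hab v hv w hw]
  have hAle : ∀ a' ∈ W, a' ∉ b.V → Nat.card (H.modCent b.V a') ≤ 8 ∧ A ≤ H.modCent b.V a' := by
    intro a' ha' ha'V
    have hle : A ≤ H.modCent b.V a' := fun v hv => ⟨⟨hv.1, b.VC hv.1⟩, by
      rw [eq_conj_iff.2 (hWab a' ha' v hv.2), mul_inv_cancel]; exact one_mem _⟩
    refine ⟨le_eight_mul (k := 4) (b.half b.zV le_rfl (fun g hg v hv => b.conj_mem hg hv)
      (S.central.le (hWT ha')) (S.sq a' (hWT ha')) ha'V) ?_ Nat.card_pos, hle⟩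
    have := card_le_of_le hle
    omega
  obtain ⟨hc8, hAc8⟩ := hAle a haW haV
  have hA8 := card_le_of_le hAc8
  have hV32 : Nat.card b.V = 32 := h32 (by omega)
  have hAcard : Nat.card A = 8 := by omega
  have hAeq : ∀ a' ∈ W, a' ∉ b.V → H.modCent b.V a' = A := fun a' ha' ha'V => by
    obtain ⟨h1, h2⟩ := hAle a' ha' ha'V
    exact (eq_of_le_of_card_ge h2 (by omega)).symm
  -- the radical is elementary
  have helem : ∀ v ∈ b.V, v * v = 1 := by
    intro v hv
    set v' := H.x * v * H.x⁻¹ with hv'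
    set v'' := H.x * v' * H.x⁻¹ with hv''
    have hv'V : v' ∈ b.V := b.conj_mem H.x_mem hv
    have hv''V : v'' ∈ b.V := b.conj_mem H.x_mem hv'V
    have hrot : H.x * v'' * H.x⁻¹ = v := by
      rw [hv'', hv', conj_conj', conj_conj', (three_facts H.x_three).2.1]; simp
    have hfix : H.x * (v * v' * v'') * H.x⁻¹ = v * v' * v'' := by
      rw [conj_mul', conj_mul', ← hv', ← hv'', hrot]
      exact (hab _ (mul_mem hv'V hv''V) v hv).trans (mul_assoc v v' v'').symm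
    have hsq : ∀ c, c * c = 1 ∨ c * c = H.z → H.x * c * H.x⁻¹ * (H.x * c * H.x⁻¹) = c * c := by
      intro c hc
      rw [← conj_mul']
      rcases hc with e | e <;> rw [e]
      · simp
      · exact H.x_conj_z
    have h2 : v * v' * v'' * (v * v' * v'') = (v * v) * (v * v) * (v * v) := by
      rw [(show Commute v'' (v * v') from hab _ hv''V _ (mul_mem hv hv'V)).mul_mul_mul_comm,
        (show Commute v' v from hab _ hv'V _ hv).mul_mul_mul_comm, hv'', hsq v' (b.sq v' hv'V), hv',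
        hsq v (b.sq v hv)]
    have h3 : v * v' * v'' * (v * v' * v'') = 1 := by
      rcases b.fixed_x (mul_mem (mul_mem hv hv'V) hv''V) (by rw [hfix, mul_inv_cancel]; exact one_mem _) with e | e <;>
        rw [e]
      exacts [one_mul _, H.zz]
    rw [h3] at h2
    rcases b.sq v hv with e | e
    · exact e
    · exfalso
      rw [e, H.zz, one_mul] at h2
      exact H.z_ne h2.symm
  have hWelem : ∀ w ∈ W, w * w = 1 := by
    rintro _ ⟨v, hv, rfl⟩
    rw [← map_mul, helem v hv, map_one]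
  -- the Sylow subgroup is the product
  have hTW : (S.T : Subgroup G) ≤ b.V ⊔ W := by
    refine (eq_of_le_of_card_ge (sup_le S.le hWT) ?_).ge
    have h1 := card_inf_mul b.V (b.V ⊔ W)
    rw [inf_of_le_left le_sup_left] at h1
    have h2 : b.V.relIndex W ≤ b.V.relIndex (b.V ⊔ W) :=
      relIndex_le_of_le_right le_sup_right index_ne_zero_of_finite
    have h3 := card_inf_mul b.V W
    rw [← hAdef, hAcard, hWcard, hV32] at h3
    rw [S.card, hV32, ← h1, hV32]
    omega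
  have hWN : W ≤ normalizer (b.V : Set G) := fun w hw => mem_normalizer_iff.2 fun v => by
    refine ⟨fun hv => b.conj_mem (S.central.le (hWT hw)) hv, fun hv => ?_⟩
    have := b.conj_mem (inv_mem (S.central.le (hWT hw))) hv
    rwa [conj_conj', inv_mul_cancel, inv_one, mul_one, one_mul] at this
  have hinv : ∀ g ∈ S.T, g * g = 1 → g ∈ b.V ∨ g ∈ W := by
    intro g hg hg2
    have hg' : g ∈ ((b.V ⊔ W : Subgroup G) : Set G) := hTW hg
    rw [coe_mul_of_right_le_normalizer_left _ _ hWN] at hg'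
    obtain ⟨v, hv, w, hw, rfl⟩ := hg'
    by_cases hwV : w ∈ b.V
    · exact Or.inl (mul_mem hv hwV)
    refine Or.inr (mul_mem ?_ hw)
    have hvw : v * w = w * v :=
      calc v * w = (v * w)⁻¹ := (inv_eq_of_mul_eq_one_right hg2).symm
        _ = w⁻¹ * v⁻¹ := mul_inv_rev _ _
        _ = w * v := by
          rw [inv_eq_of_mul_eq_one_right (hWelem w hw), inv_eq_of_mul_eq_one_right (helem v hv)]
    have : v ∈ H.modCent b.V w := ⟨⟨hv, b.VC hv⟩, by
      rw [eq_conj_iff.2 hvw.symm, mul_inv_cancel]; exact one_mem _⟩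
    rw [hAeq w hw hwV] at this
    exact this.2
  set W' := W.map (MulAut.conj n).toMonoidHom with hW'
  have hor : ∀ g ∈ W', g ∈ b.V ∨ g ∈ W := by
    rintro _ ⟨w, hw, rfl⟩
    refine hinv _ ((mem_normalizer_iff.1 hn w).1 (hWT hw)) ?_
    rw [← map_mul, hWelem w hw, map_one]
  have hW'card : Nat.card W' = Nat.card b.V := (card_map_of_injective (MulAut.conj n).injective).trans hWcard
  have hor' : W' ≤ b.V ∨ W' ≤ W := by
    by_contra hcon
    push Not at hcon
    obtain ⟨p, hp, hpV⟩ := SetLike.not_le_iff_exists.1 hcon.1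
    obtain ⟨q, hq, hqW⟩ := SetLike.not_le_iff_exists.1 hcon.2
    rcases hor _ (mul_mem hp hq) with h | h
    · exact hpV ((b.V.mul_mem_cancel_right ((hor q hq).resolve_right hqW)).1 h)
    · exact hqW ((W.mul_mem_cancel_left ((hor p hp).resolve_left hpV)).1 h)
  rcases hor' with h | h
  · have h2 : n ^ 2 ∈ normalizer (b.V : Set G) := by
      refine b.mem_normalizer_of_map (Eq.trans ?_ (eq_of_le_of_card_ge h hW'card.ge))
      rw [hW', hW, map_map]
      congr 1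
      ext v
      show n ^ 2 * v * (n ^ 2)⁻¹ = n * (n * v * n⁻¹) * n⁻¹
      rw [pow_two]; group
    obtain ⟨j, hj⟩ := hodd
    have h3 : n ∈ normalizer (b.V : Set G) := by
      have h4 := pow_mem h2 (j + 1)
      rwa [← pow_mul, show 2 * (j + 1) = orderOf n + 1 by omega, pow_succ, pow_orderOf_eq_one, one_mul] at h4
    exact b.normalizer_false S h3 (hnu ▸ huz)
  · refine hne (map_injective (f := (MulAut.conj n).toMonoidHom) (MulAut.conj n).injective ?_)
    rw [← hW', eq_of_le_of_card_ge h (by omega)]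

/-- The quotient `A₅` forces the radical `⟨z⟩`. -/
theorem eq_of_mem {v : G} (hv : v ∈ b.V) : v = 1 ∨ v = H.z := by
  refine H.mem_zpowers_z.1 ?_
  by_contra hvz
  obtain ⟨S⟩ := b.exists_syl
  obtain ⟨h8, h32⟩ := b.big hv hvz
  have hL := b.lone S hv hvz
  -- an involution in the layer
  obtain ⟨u, huY, hu2, hu1, huz, huZ⟩ : ∃ u, u ∈ b.Y S ∧ u * u = 1 ∧ u ≠ 1 ∧ u ≠ H.z ∧
      (u ∈ b.Zc ∨ b.Zc ≤ zpowers H.z) := by
    by_cases hZ : b.Zc ≤ zpowers H.z
    · by_contra hne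
      push Not at hne
      have hno : ∀ v ∈ b.Y S, v * v = 1 → v = 1 ∨ v = H.z := fun v hv h2 => by
        by_contra hcon
        push Not at hcon
        exact (hne v hv h2 hcon.1 hcon.2).2 hZ
      rcases H.absorb S.T.isPGroup' S.le (b.Y_le S) S.central.le (b.z_Y S)
        (fun g hg q hq => b.conj_mem (S.central.le hg) hq)
        (fun g hg v hv => by
          have h1 := mul_mem ((zpowers_le.2 (b.z_Y S)) (((b.mem_Y S).1 hv).2 g hg)) hv
          rwa [inv_mul_cancel_right] at h1)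
        (fun d hd _ hdc => (b.mem_Y S).2 ⟨hd, hdc⟩) (fun v hv => b.sq v (b.Y_le S hv)) hno
        (fun q hq v hv => (H.mem_zpowers_z.1 (b.comm_z hq (b.Y_le S hv))).imp mul_inv_eq_one.1
          mul_inv_eq_iff_eq_mul.1)
        (fun v hv => b.Y_x S hv) (fun v hv => b.fixed_x (b.Y_le S hv)) with
        h | ⟨hVY, c, -, d, -, -, -, -, hform, -⟩
      · exact hvz (h hv)
      · have hsub : (b.V : Set G) ⊆ Set.range fun t : Fin 2 × Fin 2 × Fin 2 =>
            c ^ (t.1 : ℕ) * d ^ (t.2.1 : ℕ) * H.z ^ (t.2.2 : ℕ) := by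
          intro p hp
          obtain ⟨i, hi, j, hj, k, hk, rfl⟩ := hform p (hVY hp)
          exact ⟨(⟨i, hi⟩, ⟨j, hj⟩, ⟨k, hk⟩), rfl⟩
        have h1 := Set.ncard_le_ncard hsub (Set.toFinite _)
        rw [← Nat.card_coe_set_eq, ← Nat.card_coe_set_eq] at h1
        have h2 := h1.trans (Finite.card_range_le _)
        simp at h2
        omega
    · obtain ⟨u, ⟨huZ, huY⟩, h⟩ := H.exists_inv_of_abelian (B := b.Zc ⊓ b.Y S)
        (fun v hv => b.sq v (b.Zc_le hv.1)) (fun v hv w hw => (b.mem_Zc.1 hw.1).2 v (b.Zc_le hv.1))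
        (b.exists_Y S b.z_Zc b.Zc_le (fun g hg v hv => b.Zc_conj hg hv) hZ)
      exact ⟨u, huY, h.1, h.2.1, h.2.2, Or.inl huZ⟩
  have huV := b.Y_le S huY
  have huo := orderOf_eq_two hu2 hu1
  have hcomm : ∀ g ∈ S.T, g * u * g⁻¹ = u ∨ g * u * g⁻¹ = H.z * u := fun g hg =>
    (H.mem_zpowers_z.1 (((b.mem_Y S).1 huY).2 g hg)).imp mul_inv_eq_one.1 mul_inv_eq_iff_eq_mul.1
  obtain ⟨P, y, hP, hPcard, hy, hyn, hyz, -⟩ := H.four_step S.central hL (S.le huV) huo huz hcomm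
  have hPT : P ≤ (S.T : Subgroup G) := fun g hg => ((hP g).1 hg).1
  have hPV : Nat.card P = 2 * Nat.card b.V := by rw [S.card] at hPcard; omega
  rcases huZ with huZ | hZ
  · have hVP : b.V ≤ P := fun w hw => (hP w).2 ⟨S.le hw, (b.mem_Zc.1 huZ).2 w hw⟩
    set W := b.V.map (MulAut.conj y).toMonoidHom with hW
    have hWcard : Nat.card W = Nat.card b.V := card_map_of_injective (MulAut.conj y).injective
    have hWP : W ≤ P := by
      rintro _ ⟨w, hw, rfl⟩
      exact hyn w (hVP hw)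
    have hne : W ≠ b.V := fun h => b.normalizer_false S (b.mem_normalizer_of_map h) (hyz ▸ huz)
    obtain ⟨a, haW, haV⟩ := SetLike.not_le_iff_exists.1 (show ¬ W ≤ b.V from fun h =>
      hne (eq_of_le_of_card_ge h hWcard.ge))
    obtain ⟨-, hVA⟩ := card_le_mul_inf hWP hVP hPV
    rw [hWcard] at hVA
    have hab : ∀ p ∈ b.V, ∀ q ∈ b.V, p * q = q * p := by
      by_contra hna
      exact b.center_small hna inf_le_left (b.inf_comm hyz huz) hVA
    have hle : b.V ⊓ W ≤ H.modCent b.V a := by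
      intro e he
      obtain ⟨a', ha', rfl⟩ := haW
      obtain ⟨he1, e', he', rfl⟩ := he
      refine ⟨⟨he1, b.VC he1⟩, ?_⟩
      rw [← map_mul, hab a' ha' e' he', map_mul, mul_inv_cancel_right, mul_inv_cancel]
      exact one_mem _
    have h1 := card_le_of_le hle
    have h2 := le_eight_mul (k := 2) (b.half b.zV le_rfl (fun g hg w hw => b.conj_mem hg hw)
      (S.central.le (hPT (hWP haW))) (S.sq a (hPT (hWP haW))) haV) (by omega) Nat.card_pos
    omega
  -- the centre is `⟨z⟩`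
  set D := b.V ⊓ centralizer ({u} : Set G) with hD
  have hDmem : ∀ {d : G}, d ∈ D ↔ d ∈ b.V ∧ d * u = u * d := fun {d} => by
    rw [hD, mem_inf, mem_centralizer_singleton_iff]
  have hVD := card_le_centralizer (B := b.V) (a := u) (c := H.z)
    fun p hp => H.mem_zpowers_z.1 (b.comm_z huV hp)
  rw [← hD] at hVD
  have hDP : D ≤ P := fun d hd => (hP d).2 ⟨S.le (hDmem.1 hd).1, (hDmem.1 hd).2⟩
  have hfpf : ∀ p ∈ P, y * p * y⁻¹ = p → p = 1 := by
    have h1 := fixed_mod_subgroup Nat.prime_three (n := 1) (y := y) (by simpa using (three_facts hy).1) hyn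
    set F := P ⊓ centralizer ({y} : Set G) with hF
    have h2 : Nat.card F ≤ 2 := H.card_two hy (S.T.isPGroup'.to_le (inf_le_left.trans hPT))
      fun d hd => mem_centralizer_singleton_iff.1 hd.2
    have h3 := b.card_mod le_rfl b.zV fun w hw => b.conj_mem H.x_mem hw
    have h4 : Nat.card P % 3 = Nat.card F % 3 := h1
    have h5 : F = ⊥ := eq_bot_of_card_le _ (by omega)
    intro p hp hpy
    have : p ∈ F := ⟨hp, mem_centralizer_singleton_iff.2 (eq_conj_iff.1 hpy).symm⟩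
    rwa [h5, mem_bot] at this
  have hclass := class_two hy hyn hfpf
  obtain ⟨t, htV, htu⟩ : ∃ t ∈ b.V, t * u ≠ u * t := by
    by_contra hcon
    push Not at hcon
    rcases H.mem_zpowers_z.1 (hZ (b.mem_Zc.2 ⟨huV, hcon⟩)) with e | e
    exacts [hu1 e, huz e]
  have hDt : ∀ {w : G}, w ∈ b.V → w ∈ D ∨ t⁻¹ * w ∈ D := by
    intro w hw
    have key : ∀ r ∈ b.V, r * u * r⁻¹ = u ∨ r * u * r⁻¹ = H.z * u := fun r hr => hcomm r (S.le hr)
    rcases key w hw with e | e
    · exact Or.inl (hDmem.2 ⟨hw, eq_conj_iff.1 e⟩)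
    · refine Or.inr (hDmem.2 ⟨mul_mem (inv_mem htV) hw, eq_conj_iff.1 ?_⟩)
      rw [← conj_conj', e, ← (key t htV).resolve_left (fun h => htu (eq_conj_iff.1 h))]
      group
  -- the centralizer of `D`
  have hCD : ∀ e ∈ b.V, (∀ d ∈ D, Commute d e) → e = 1 ∨ e = H.z ∨ e = u ∨ e = H.z * u := by
    intro e he hed
    have key : ∀ f ∈ b.V, (∀ d ∈ D, Commute d f) → Commute t f → f = 1 ∨ f = H.z := fun f hf hfd hft => by
      refine H.mem_zpowers_z.1 (hZ (b.mem_Zc.2 ⟨hf, fun w hw => ?_⟩))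
      rcases hDt hw with h | h
      · exact (hfd w h).eq
      · have h3 := hft.mul_left (hfd _ h)
        rw [mul_inv_cancel_left] at h3
        exact h3.eq
    have hud : ∀ d ∈ D, Commute d u := fun d hd => (hDmem.1 hd).2
    by_cases hte : t * e = e * t
    · exact (key e he hed hte).imp id Or.inl
    have h1 : t * e * t⁻¹ = H.z * e :=
      mul_inv_eq_iff_eq_mul.1 ((H.mem_zpowers_z.1 (b.comm_z htV he)).resolve_left fun h =>
        hte (eq_conj_iff.1 (mul_inv_eq_one.1 h)))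
    have h2 : t * u * t⁻¹ = H.z * u := (hcomm t (S.le htV)).resolve_left fun h => htu (eq_conj_iff.1 h)
    have hct : Commute t (e * u) := by
      refine eq_conj_iff.1 ?_
      rw [conj_mul', h1, h2, mul_assoc, ← mul_assoc e, H.mem_C.1 (b.VC he), mul_assoc, ← mul_assoc,
        H.zz, one_mul]
    rcases key (e * u) (mul_mem he huV) (fun d hd => (hed d hd).mul_right (hud d hd)) hct with h | h
    · exact Or.inr (Or.inr (Or.inl ((eq_inv_of_mul_eq_one_left h).trans (inv_eq_of_mul_eq_one_right hu2))))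
    · refine Or.inr (Or.inr (Or.inr ?_))
      rw [← h, mul_assoc, hu2, mul_one]
  have hval : ∀ a ∈ P, ∀ d ∈ D, a * d * a⁻¹ * d⁻¹ = 1 ∨ a * d * a⁻¹ * d⁻¹ = H.z ∨
      a * d * a⁻¹ * d⁻¹ = u ∨ a * d * a⁻¹ * d⁻¹ = H.z * u := fun a ha d hd => by
    refine hCD _ (mul_mem (b.conj_mem (S.central.le (hPT ha)) hd.1) (inv_mem hd.1)) fun d' hd' => ?_
    exact hclass a ha d (hDP hd) d' (hDP hd')
  -- outside the layer the values are `u`, `zu`
  have hout : ∀ a ∈ P, ∀ d ∈ D, d ∉ H.modCent b.V a →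
      a * d * a⁻¹ * d⁻¹ = u ∨ a * d * a⁻¹ * d⁻¹ = H.z * u := fun a ha d hd hdn => by
    rcases hval a ha d hd with e | e | e | e
    · exact absurd ⟨⟨hd.1, b.VC hd.1⟩, H.mem_zpowers_z.2 (Or.inl e)⟩ hdn
    · exact absurd ⟨⟨hd.1, b.VC hd.1⟩, H.mem_zpowers_z.2 (Or.inr e)⟩ hdn
    · exact Or.inl e
    · exact Or.inr e
  have hmul : ∀ c c', (c = u ∨ c = H.z * u) → (c' = u ∨ c' = H.z * u) → c * c' ∈ zpowers H.z := by
    have hzu : H.z * u = u * H.z := (H.mem_C.1 (b.VC huV)).symm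
    rintro c c' (rfl | rfl) (rfl | rfl) <;> rw [H.mem_zpowers_z]
    · exact Or.inl hu2
    · exact Or.inr (by rw [hzu, ← mul_assoc, hu2, one_mul])
    · exact Or.inr (by rw [mul_assoc, hu2, mul_one])
    · exact Or.inl (by rw [hzu, mul_assoc, ← mul_assoc H.z, hzu, mul_assoc u, H.zz, mul_one, hu2])
  have hprod : ∀ a ∈ P, ∀ d ∈ D, ∀ d' ∈ D, a * (d * d') * a⁻¹ * (d * d')⁻¹ =
      (a * d * a⁻¹ * d⁻¹) * (a * d' * a⁻¹ * d'⁻¹) := fun a ha d hd d' hd' => by
    rw [show a * (d * d') * a⁻¹ * (d * d')⁻¹ = (a * d * a⁻¹ * d⁻¹) * (d * (a * d' * a⁻¹ * d'⁻¹) * d⁻¹) by group,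
      eq_conj_iff.2 (hclass a ha d' (hDP hd') d (hDP hd)).eq]
  have hmod : ∀ a ∈ P, a ∉ b.V → Nat.card D ≤ 2 * Nat.card (H.modCent b.V a) ∧
      Nat.card (H.modCent b.V a) ≤ 8 := by
    intro a ha haV
    have h1 : Nat.card D ≤ 2 * Nat.card ↥(D ⊓ H.modCent b.V a) := by
      refine card_le_two_mul inf_le_left fun p hp q hq hpK hqK => ?_
      have hpq : p⁻¹ * q ∈ D := D.mul_mem (D.inv_mem hp) hq
      refine ⟨hpq, ⟨hpq.1, b.VC hpq.1⟩, ?_⟩
      rw [hprod a ha _ (D.inv_mem hp) q hq]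
      exact hmul _ _ (hout a ha _ (D.inv_mem hp) fun h => hpK ⟨hp, (H.modCent b.V a).inv_mem_iff.1 h⟩)
        (hout a ha q hq fun h => hqK ⟨hq, h⟩)
    have h2 := card_le_of_le (inf_le_right (a := D) (b := H.modCent b.V a))
    refine ⟨by omega, le_eight_mul (k := 4) (b.half b.zV le_rfl (fun g hg w hw => b.conj_mem hg hw)
      (S.central.le (hPT ha)) (S.sq a (hPT ha)) haV) (by omega) Nat.card_pos⟩
  obtain ⟨a₀, ha₀, ha₀V⟩ := SetLike.not_le_iff_exists.1 (show ¬ P ≤ b.V from fun h => by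
    have := card_le_of_le h
    omega)
  obtain ⟨hm1, hm2⟩ := hmod a₀ ha₀ ha₀V
  have hV32 : Nat.card b.V = 32 := h32 (by omega)
  have hY8 : 4 < Nat.card (b.Y S) := by
    have := b.exists_Y S b.zV le_rfl (fun g hg w hw => b.conj_mem hg hw) fun h => hvz (h hv)
    rwa [inf_of_le_right (b.Y_le S)] at this
  have heqY : ∀ a ∈ P, a ∉ b.V → H.modCent b.V a = b.Y S := fun a ha haV => by
    obtain ⟨k, hk⟩ := two_group_card (b.isPGroup.to_le (b.Y_le S))
    refine (eq_of_le_of_card_ge (b.Y_le_modCent S (hPT ha)) ?_).symm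
    have := (hmod a ha haV).2
    rw [hk] at hY8 ⊢
    have : 3 ≤ k := by
      by_contra hk3
      have := Nat.pow_le_pow_right (show 0 < 2 by norm_num) (show k ≤ 2 by omega)
      omega
    have := Nat.pow_le_pow_right (show 0 < 2 by norm_num) this
    omega
  obtain ⟨d, hdD, hdY⟩ := SetLike.not_le_iff_exists.1 (show ¬ D ≤ b.Y S from fun h => by
    have h1 := card_le_of_le h
    rw [← heqY a₀ ha₀ ha₀V] at h1
    omega)
  obtain ⟨p, hp, q, hq, hpK, hqK, hpqK⟩ : ∃ p ∈ P, ∃ q ∈ P, p ∉ b.V ∧ q ∉ b.V ∧ p⁻¹ * q ∉ b.V := by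
    by_contra hcon
    push Not at hcon
    have h1 := card_le_two_mul (B := P) (K := D) hDP fun p hp q hq hpK hqK => by
      have hV : ∀ r ∈ P, r ∉ D → r ∉ b.V := fun r hr hrD h => hrD (hDmem.2 ⟨h, ((hP r).1 hr).2⟩)
      exact hDmem.2 ⟨hcon p hp q hq (hV p hp hpK) (hV q hq hqK), ((hP _).1 (P.mul_mem (P.inv_mem hp) hq)).2⟩
    have hDlt : Nat.card D ≤ 16 := by omega
    omega
  have hpi : p⁻¹ ∉ b.V := fun h => hpK (inv_mem_iff.1 h)
  have hne : ∀ a ∈ P, a ∉ b.V → d ∉ H.modCent b.V a := fun a ha haV h => hdY (heqY a ha haV ▸ h)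
  refine hne _ (P.mul_mem (P.inv_mem hp) hq) hpqK ⟨⟨hdD.1, b.VC hdD.1⟩, ?_⟩
  rw [show p⁻¹ * q * d * (p⁻¹ * q)⁻¹ * d⁻¹ = p⁻¹ * (q * d * q⁻¹ * d⁻¹) * p⁻¹⁻¹ * (p⁻¹ * d * p⁻¹⁻¹ * d⁻¹) by group,
    eq_conj_iff.2 (hclass q hq d (hDP hdD) p⁻¹ (P.inv_mem hp)).eq]
  exact hmul _ _ (hout q hq d hdD (hne q hq hqK)) (hout _ (P.inv_mem hp) d hdD (hne _ (P.inv_mem hp) hpi))

end CaseB

end Hyp

end Cfsg.Agent.SelfSix
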