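import Mathlib
import Cfsg.Agent.Lib.Classical.SmallIso
import Cfsg.Agent.Lib.GL2.Counts

/-!
# General tools: action on a section, an odd image, a kernel without fixed points of its complement
-/

set_option autoImplicit false
set_option linter.style.haveILetI false
set_option linter.unusedSectionVars false

namespace Cfsg.Agent.SelfSix

open Subgroup

variable {G : Type*} [Group G]

/-- A group acting on a normalised subgroup. -/
def conjAct (N S : Subgroup G) (hS : ∀ n ∈ N, ∀ s ∈ S, n * s * n⁻¹ ∈ S) : ↥N →* MulAut ↥S where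
  toFun n :=
    { toFun := fun s => ⟨n * s * (n : G)⁻¹, hS n n.2 s s.2⟩
      invFun := fun s => ⟨(n : G)⁻¹ * s * n, by simpa using hS _ (inv_mem n.2) s s.2⟩
      left_inv := fun s => Subtype.ext (by simp [mul_assoc])
      right_inv := fun s => Subtype.ext (by simp [mul_assoc])
      map_mul' := fun s t => Subtype.ext (by simp [mul_assoc]) }
  map_one' := MulEquiv.ext fun s => Subtype.ext (by simp)
  map_mul' n m := MulEquiv.ext fun s => Subtype.ext (by simp [mul_assoc])

theorem conjAct_apply {N S : Subgroup G} (hS : ∀ n ∈ N, ∀ s ∈ S, n * s * n⁻¹ ∈ S) (n : ↥N) (s : ↥S) :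
    (conjAct N S hS n s : G) = n * s * (n : G)⁻¹ := rfl

/-- A group acting on a normalised section. -/
def secAct (N S E : Subgroup G) [(E.subgroupOf S).Normal] (hS : ∀ n ∈ N, ∀ s ∈ S, n * s * n⁻¹ ∈ S)
    (hE : ∀ n ∈ N, ∀ s ∈ E, n * s * n⁻¹ ∈ E) : ↥N →* MulAut (↥S ⧸ E.subgroupOf S) where
  toFun n := QuotientGroup.congr _ _ (conjAct N S hS n) (by
    ext t
    constructor
    · rintro ⟨s, hs, rfl⟩
      exact hE n n.2 s hs
    · intro ht
      refine ⟨(conjAct N S hS n).symm t, ?_, (conjAct N S hS n).apply_symm_apply t⟩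
      have := hE _ (inv_mem n.2) (t : G) ht
      show (n : G)⁻¹ * t * n ∈ E
      simpa using this)
  map_one' := MulEquiv.ext fun q => by
    obtain ⟨s, rfl⟩ := QuotientGroup.mk_surjective q
    simp [QuotientGroup.congr_mk]
  map_mul' n m := MulEquiv.ext fun q => by
    obtain ⟨s, rfl⟩ := QuotientGroup.mk_surjective q
    simp [QuotientGroup.congr_mk]

theorem secAct_mk {N S E : Subgroup G} [(E.subgroupOf S).Normal] (hS : ∀ n ∈ N, ∀ s ∈ S, n * s * n⁻¹ ∈ S)
    (hE : ∀ n ∈ N, ∀ s ∈ E, n * s * n⁻¹ ∈ E) (n : ↥N) (s : ↥S) :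
    secAct N S E hS hE n (QuotientGroup.mk s) = QuotientGroup.mk ⟨n * s * (n : G)⁻¹, hS n n.2 s s.2⟩ := rfl

variable {X Y : Type*} [Group X] [Group Y]

/-- A prime power element over an element of prime order. -/
theorem exists_prime_pow_lift [Finite X] (φ : X →* Y) {p : ℕ} (hp : p.Prime) {y : Y} (hy : y ∈ φ.range)
    (ho : orderOf y = p) : ∃ g : X, (∃ k, g ^ p ^ k = 1) ∧ φ g ≠ 1 ∧ φ g ∈ zpowers y := by
  obtain ⟨x, rfl⟩ := hy
  obtain ⟨a, m, hm, hxm⟩ := Nat.exists_eq_pow_mul_and_not_dvd (orderOf_pos x).ne' p hp.ne_one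
  refine ⟨x ^ m, ⟨a, by rw [← pow_mul, mul_comm, ← hxm, pow_orderOf_eq_one]⟩, ?_, ?_⟩
  · rw [map_pow, ne_eq, ← orderOf_dvd_iff_pow_eq_one, ho]
    exact hm
  · rw [map_pow]
    exact pow_mem (mem_zpowers _) m

/-- An image in which the 2-elements die is odd. -/
theorem odd_range [Finite X] (φ : X →* Y) (h : ∀ g : X, ∀ k : ℕ, g ^ 2 ^ k = 1 → φ g = 1) :
    Odd (Nat.card φ.range) := by
  haveI : Fact (Nat.Prime 2) := ⟨Nat.prime_two⟩
  haveI : Finite φ.range := Finite.of_surjective φ.rangeRestrict φ.rangeRestrict_surjective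
  by_contra hc
  obtain ⟨y, hy⟩ := exists_prime_orderOf_dvd_card' (G := φ.range) 2
    (even_iff_two_dvd.1 (Nat.not_odd_iff_even.1 hc))
  obtain ⟨g, ⟨k, hk⟩, hg, -⟩ := exists_prime_pow_lift φ Nat.prime_two y.2 ((orderOf_coe y).trans hy)
  exact hg (h g k hk)

/-- Acting on a group of exponent two, a group of odd order whose translates of `σ` have trivial
`v · f v · f² v` fixes everything. -/
theorem kernel_trivial {V : Type*} [CommGroup V] {K : Type*} [Group K] [Fintype K] (act : K →* MulAut V)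
    (σ : MulAut V) (hV : ∀ v : V, v * v = 1) (hK : Odd (Fintype.card K))
    (hn : ∀ k : K, ∃ k' : K, ∀ w, act k (σ⁻¹ w) = σ⁻¹ (act k' w))
    (hfix : ∀ (k : K) (v : V), v * act k (σ v) * σ⁻¹ (act k⁻¹ v) = 1) : ∀ (k : K) (v : V), act k v = v := by
  classical
  set S : V → V := fun v => ∏ k : K, act k v with hS
  have hSfix : ∀ (k : K) (v : V), act k (S v) = S v := fun k v => by
    rw [hS, map_prod]
    exact Fintype.prod_equiv (Equiv.mulLeft k) _ _ fun j => by simp [map_mul]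
  intro k v
  have h1 : ∏ j : K, (v * act j (σ v) * σ⁻¹ (act j⁻¹ v)) = 1 := Finset.prod_eq_one fun j _ => hfix j v
  rw [Finset.prod_mul_distrib, Finset.prod_mul_distrib, ← map_prod, Fintype.prod_equiv (Equiv.inv K)
    (fun j => act j⁻¹ v) (fun j => act j v) (fun j => rfl), Finset.prod_const, Finset.card_univ] at h1
  obtain ⟨m, hm⟩ := hK
  rw [hm, pow_succ, pow_mul, pow_two, hV, one_pow, one_mul] at h1
  have hv : v = S (σ v) * σ⁻¹ (S v) := by
    rw [mul_assoc] at h1
    exact (eq_inv_of_mul_eq_one_left h1).trans (inv_eq_of_mul_eq_one_right (hV _))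
  obtain ⟨k', hk'⟩ := hn k
  rw [hv, map_mul, hSfix, hk', hSfix]

theorem even_psl_seven : Even (Nat.card (Matrix.ProjectiveSpecialLinearGroup (Fin 2) (ZMod 7))) := by
  haveI : Fact (Nat.Prime 7) := ⟨by norm_num⟩
  have h := Classical.SmallIso.natCard_pslTwo (ZMod 7)
  rw [GL2.Counts.natCard_SL, ZMod.card, show Nat.gcd 2 (7 - 1) = 2 by rfl] at h
  exact ⟨84, by omega⟩

end Cfsg.Agent.SelfSix
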