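import Mathlib
import Cfsg.Agent.Lib.Involutions.Basic

/-!
# Recognition of `2 × D₈`
-/

set_option autoImplicit false
set_option linter.style.haveILetI false

namespace Cfsg.Agent.SelfSix

open Subgroup

theorem dihedral_four_center : ∀ g : DihedralGroup 4, g * .sr 0 = .sr 0 * g → g * .r 1 = .r 1 * g →
    g = 1 ∨ g = .r 2 := by decide

variable {G : Type*} [Group G] [Finite G]

/-- A group of order sixteen made of two involutions with product of order four and a further central
involution. -/
theorem exists_two_times_dihedral {T : Subgroup G} {z e a : G} (hzT : z ∈ T) (heT : e ∈ T)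
    (haT : a ∈ T) (hz2 : orderOf z = 2) (he2 : orderOf e = 2) (ha2 : orderOf a = 2) (hea : orderOf (e * a) = 4)
    (hze : z * e = e * z) (hza : z * a = a * z) (hne : z ≠ (e * a) * (e * a)) :
    ∃ T₀ : Subgroup G, T₀ ≤ T ∧ Nat.card T₀ = 16 ∧
      Nonempty (↥T₀ ≃* Multiplicative (ZMod 2) × DihedralGroup 4) := by
  have hne' : e ≠ a := fun h => by
    rw [h, Involutions.Basic.inv_sq_one ha2, orderOf_one] at hea
    omega
  obtain ⟨ψ, hψ, hψe, hψd⟩ : ∃ ψ : DihedralGroup 4 →* G, Function.Injective ψ ∧ ψ (.sr 0) = e ∧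
      ψ (.r 1) = e * a := by
    have key : ∀ n, n = orderOf (e * a) → ∃ ψ : DihedralGroup n →* G, Function.Injective ψ ∧ ψ (.sr 0) = e ∧
        ψ (.r 1) = e * a := by
      rintro n rfl
      refine ⟨Involutions.Basic.dihedralHom e a he2 ha2, Involutions.Basic.dihedralHom_injective e a he2 ha2 hne', ?_, ?_⟩
      · show e * (e * a) ^ ((0 : ZMod (orderOf (e * a))).cast : ℤ) = e
        simp
      · show (e * a) ^ ((1 : ZMod (orderOf (e * a))).cast : ℤ) = e * a
        haveI : NeZero (orderOf (e * a)) := ⟨(orderOf_pos _).ne'⟩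
        haveI : Fact (1 < orderOf (e * a)) := ⟨by omega⟩
        rw [ZMod.cast_eq_val, ZMod.val_one]
        simp
    exact key 4 hea.symm
  have hgen : ∀ g : DihedralGroup 4, ψ g ∈ T := by
    intro g
    have hd : ∀ i : ZMod 4, ψ (.r i) ∈ T := fun i => by
      rw [show (DihedralGroup.r i : DihedralGroup 4) = .r 1 ^ i.val by
        rw [DihedralGroup.r_one_pow, ZMod.natCast_zmod_val], map_pow, hψd]
      exact pow_mem (mul_mem heT haT) _
    rcases g with i | i
    · exact hd i
    · rw [show (DihedralGroup.sr i : DihedralGroup 4) = .sr 0 * .r i by rw [DihedralGroup.sr_mul_r, zero_add],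
        map_mul, hψe]
      exact mul_mem heT (hd i)
  let i₂ : Multiplicative (ZMod 2) ≃* zpowers z :=
    mulEquivOfCyclicCardEq (by rw [Nat.card_zpowers, hz2]; simp)
  let ζ : Multiplicative (ZMod 2) →* G := (zpowers z).subtype.comp i₂.toMonoidHom
  have hcz : ∀ g : DihedralGroup 4, Commute z (ψ g) := by
    have hd : ∀ i : ZMod 4, Commute z (ψ (.r i)) := fun i => by
      rw [show (DihedralGroup.r i : DihedralGroup 4) = .r 1 ^ i.val by
        rw [DihedralGroup.r_one_pow, ZMod.natCast_zmod_val], map_pow, hψd]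
      exact ((show Commute z e from hze).mul_right (show Commute z a from hza)).pow_right _
    rintro (i | i)
    · exact hd i
    · rw [show (DihedralGroup.sr i : DihedralGroup 4) = .sr 0 * .r i by rw [DihedralGroup.sr_mul_r, zero_add],
        map_mul, hψe]
      exact (show Commute z e from hze).mul_right (hd i)
  have hcomm : ∀ (m : Multiplicative (ZMod 2)) (g : DihedralGroup 4), Commute (ζ m) (ψ g) := fun m g => by
    obtain ⟨k, hk⟩ := mem_zpowers_iff.1 (i₂ m).2
    show Commute ((i₂ m : G)) (ψ g)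
    rw [← hk]
    exact (hcz g).zpow_left k
  let φ := MonoidHom.noncommCoprod ζ ψ hcomm
  have hφ : Function.Injective φ := by
    refine (MonoidHom.noncommCoprod_injective _ _ _).2
      ⟨(zpowers z).subtype_injective.comp i₂.injective, hψ, ?_⟩
    rw [disjoint_iff, eq_bot_iff]
    rintro w ⟨⟨m, rfl⟩, ⟨g, hg⟩⟩
    have hg' : ψ g = (i₂ m : G) := hg
    obtain ⟨k, hk⟩ := mem_zpowers_iff.1 (i₂ m).2
    have hcw : ∀ g', Commute (ψ g) (ψ g') := fun g' => by rw [hg', ← hk]; exact (hcz g').zpow_left k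
    rw [mem_bot]
    show (i₂ m : G) = 1
    rcases dihedral_four_center g (hψ (by simpa [map_mul] using (hcw (.sr 0)).eq))
        (hψ (by simpa [map_mul] using (hcw (.r 1)).eq)) with e1 | e1
    · rw [← hg', e1, map_one]
    · exfalso
      have hz4 : (i₂ m : G) = z := by
        rcases Int.even_or_odd k with ⟨j, hj⟩ | ⟨j, hj⟩
        · exfalso
          have h1 : (i₂ m : G) = 1 := by
            rw [← hk, hj, ← two_mul, zpow_mul, zpow_two, Involutions.Basic.inv_sq_one hz2, one_zpow]
          rw [e1, h1, ← map_one ψ] at hg'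
          exact absurd (hψ hg') (by decide)
        · rw [← hk, hj, zpow_add_one, zpow_mul, zpow_two, Involutions.Basic.inv_sq_one hz2, one_zpow, one_mul]
      refine hne ?_
      rw [← hz4, ← hg', e1, show (DihedralGroup.r 2 : DihedralGroup 4) = .r 1 * .r 1 from rfl, map_mul, hψd]
  have hφT : ∀ w, φ w ∈ T := fun w => mul_mem ((zpowers_le.2 hzT) (i₂ w.1).2) (hgen w.2)
  refine ⟨φ.range, by rintro _ ⟨w, rfl⟩; exact hφT w, ?_, ⟨(MonoidHom.ofInjective hφ).symm⟩⟩
  rw [← Nat.card_congr (MonoidHom.ofInjective hφ).toEquiv, Nat.card_prod, DihedralGroup.nat_card]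
  simp

/-- The same for a subgroup of order sixteen. -/
theorem two_times_dihedral {T : Subgroup G} (hcard : Nat.card T = 16) {z e a : G} (hzT : z ∈ T) (heT : e ∈ T)
    (haT : a ∈ T) (hz2 : orderOf z = 2) (he2 : orderOf e = 2) (ha2 : orderOf a = 2) (hea : orderOf (e * a) = 4)
    (hze : z * e = e * z) (hza : z * a = a * z) (hne : z ≠ (e * a) * (e * a)) :
    Nonempty (↥T ≃* Multiplicative (ZMod 2) × DihedralGroup 4) := by
  obtain ⟨T₀, hle, h16, ⟨e₀⟩⟩ := exists_two_times_dihedral hzT heT haT hz2 he2 ha2 hea hze hza hne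
  exact ⟨(MulEquiv.subgroupCongr (eq_of_le_of_card_ge hle (by rw [hcard, h16]))).symm.trans e₀⟩

end Cfsg.Agent.SelfSix
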