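import Cfsg.Agent.Lib.SelfSix.CaseASixBase
import Cfsg.Agent.Lib.SelfSix.CaseB
import Cfsg.Agent.Lib.SelfSix.Sections
import Cfsg.Agent.Lib.SelfSix.TwoTimes
import Cfsg.Agent.S3309
import Cfsg.Agent.S3331

/-!
# The quotient `S₃`: the radical has one central involution
-/

set_option autoImplicit false
set_option linter.style.haveILetI false
set_option linter.unusedSectionVars false

namespace Cfsg.Agent.SelfSix

open Subgroup

theorem card_psl_seven : Nat.card (Matrix.ProjectiveSpecialLinearGroup (Fin 2) (ZMod 7)) = 168 := by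
  haveI : Fact (Nat.Prime 7) := ⟨by norm_num⟩
  have h := Classical.SmallIso.natCard_pslTwo (ZMod 7)
  rw [GL2.Counts.natCard_SL, ZMod.card, show Nat.gcd 2 (7 - 1) = 2 by rfl] at h
  omega

namespace Three

set_option synthInstance.maxSize 2000

theorem near_rotation : ∀ a r : Equiv.Perm (Fin 3), r ^ 3 = 1 → r ≠ 1 → a ≠ 1 →
    a * r * a⁻¹ * r⁻¹ = r ∨ a = r ∨ a = r * r := by decide +kernel

theorem rotation : ∀ b r : Equiv.Perm (Fin 3), r ^ 3 = 1 → r ≠ 1 → b ^ 3 = 1 → b ≠ 1 → b = r ∨ b = r * r := by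
  decide +kernel

end Three

variable {G : Type*} [Group G] [Finite G]

namespace Hyp

variable {H : Hyp G}

namespace CaseA

variable (A : H.CaseA) (hr : Nat.card A.f.range = 6) {T : Sylow 2 G} (hT : H.Central T)
include hr hT

/-- A subgroup of index two of `T` other than `Q`: its central involutions lie in `Q` and `T` moves them only
inside `⟨z⟩`. -/
theorem twist (hE : 8 ≤ Nat.card (omegaCenter A.Q)) {R : Subgroup G} (hRT : R ≤ (T : Subgroup G))
    (hcard : 2 * Nat.card R = Nat.card T) (hne : R ≠ A.Q) (hzR : H.z ∈ R) {a : G} (ha : a ∈ omegaCenter R) :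
    a ∈ A.Q ∧ ∀ g ∈ (T : Subgroup G), g * a * g⁻¹ * a⁻¹ ∈ zpowers H.z := by
  haveI : Fact (Nat.Prime 2) := ⟨Nat.prime_two⟩
  have hcT := A.card_T hr hT
  obtain ⟨hQn, hQm⟩ := A.T_facts hr hT
  obtain ⟨hRn, hRm⟩ := index_two_facts hRT hcard
  obtain ⟨haR, ha2, hac⟩ := ha
  have hQR : Nat.card R = Nat.card A.Q := by omega
  set R0 := R ⊓ A.Q with hR0
  obtain ⟨hrel, hR0card⟩ := card_le_mul_inf (A.Q_le hT) hRT hcard.symm
  have hEQ : Nat.card (omegaCenter A.Q) ≤ Nat.card A.Q := card_le_of_le (omegaCenter_le _)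
  have haQ : a ∈ A.Q := by
    by_contra haQ
    set R1 := R0.map (MulAut.conj H.x).toMonoidHom with hR1
    have hR1Q : R1 ≤ A.Q := by
      rintro _ ⟨r, hr', rfl⟩
      exact A.Qn _ H.x_mem r hr'.2
    have hle : Nat.card ↥(R0 ⊓ R1) ≤ 2 := by
      refine A.small hr hT (hRT haR) haQ (A.hQ.to_le (inf_le_left.trans inf_le_right)) (fun d hd => hac d hd.1.1)
        fun d hd => ?_
      obtain ⟨r, hr', rfl⟩ := hd.2
      exact ((hac r hr'.1).map (MulAut.conj H.x).toMonoidHom).eq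
    have hR1card : Nat.card R1 = Nat.card R0 := card_map_of_injective (MulAut.conj H.x).injective
    have hR0Q : R0 ≤ A.Q := inf_le_right
    have h3 : R0.relIndex R1 ≤ 2 := by
      refine (relIndex_le_of_le_right hR1Q index_ne_zero_of_finite).trans ?_
      rw [hR0, inf_relIndex_right]
      exact hrel
    have h4 := card_inf_mul R0 R1
    have hQ8 : Nat.card A.Q = 8 := by
      have h5 : Nat.card R1 ≤ 4 := by
        rw [← h4]
        exact Nat.mul_le_mul hle h3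
      change Nat.card A.Q ≤ 2 * Nat.card R0 at hR0card
      omega
    have hEeq : omegaCenter A.Q = A.Q := eq_of_le_of_card_ge (omegaCenter_le _) (by omega)
    have hel : ∀ q ∈ A.Q, q * q = 1 ∧ ∀ g ∈ A.Q, Commute g q := fun q hq => by
      rw [← hEeq] at hq
      exact hq.2
    obtain ⟨e, he, hea⟩ : ∃ e ∈ A.Q, ¬ Commute e a := by
      by_contra hcon
      push Not at hcon
      have := A.small_invariant hr hT (hRT haR) haQ A.hQ (fun q hq => A.Qn _ H.x_mem q hq) fun q hq => (hcon q hq).eq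
      omega
    have ha1 : a ≠ 1 := fun h => haQ (h ▸ one_mem _)
    have he1 : e ≠ 1 := fun h => hea (h ▸ Commute.one_left a)
    have hainv : a⁻¹ = a := inv_eq_of_mul_eq_one_right ha2
    have hsq : e * a * (e * a) = e * (a * e * a⁻¹) := by rw [hainv]; group
    have hsqQ : e * a * (e * a) ∈ A.Q := hsq ▸ mul_mem he (hQn a (hRT haR) e he)
    have hsq1 : e * a * (e * a) ≠ 1 := fun h => hea (by
      rw [hsq] at h
      have h' : a * e * a⁻¹ = e⁻¹ := eq_inv_of_mul_eq_one_right h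
      rw [inv_eq_of_mul_eq_one_right (hel e he).1] at h'
      exact (eq_conj_iff.1 h').symm)
    have hea4 : orderOf (e * a) = 4 := by
      refine orderOf_eq_prime_pow (p := 2) (n := 1) ?_ ?_
      · rw [pow_one, pow_two]; exact hsq1
      · rw [show (2 : ℕ) ^ (1 + 1) = 2 * 2 by norm_num, pow_mul, pow_two, pow_two]
        exact (hel _ hsqQ).1
    obtain ⟨w, hw, hw1, hwc⟩ : ∃ w ∈ R0, w ≠ 1 ∧ w ≠ e * a * (e * a) := by
      by_contra hcon
      push Not at hcon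
      have hsub : (R0 : Set G) ⊆ {1, e * a * (e * a)} := fun w hw => by
        by_cases h : w = 1
        · exact Or.inl h
        · exact Or.inr (hcon w hw h)
      have h6 := Set.ncard_le_ncard hsub (Set.toFinite _)
      rw [← Nat.card_coe_set_eq, Set.ncard_pair hsq1.symm] at h6
      change Nat.card A.Q ≤ 2 * Nat.card R0 at hR0card
      have h7 : Nat.card R0 ≤ 2 := h6
      omega
    obtain ⟨φ⟩ := two_times_dihedral (T := (T : Subgroup G)) (by omega) (hRT hw.1) (A.Q_le hT he) (hRT haR)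
      (orderOf_eq_two (hel w hw.2).1 hw1) (orderOf_eq_two (hel e he).1 he1) (orderOf_eq_two ha2 ha1) hea4
      ((hel e he).2 w hw.2).eq (hac w hw.1).eq hwc
    haveI := H.simple
    exact S3309.result T ⟨φ⟩ H.na
  refine ⟨haQ, ?_⟩
  -- the commutators with `Q`
  suffices hq : ∀ q ∈ A.Q, q * a * q⁻¹ * a⁻¹ ∈ zpowers H.z by
    obtain ⟨t0, ht0, ht0Q⟩ := SetLike.not_le_iff_exists.1 (show ¬ R ≤ A.Q from fun h =>
      hne (eq_of_le_of_card_ge h hQR.ge))
    intro g hg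
    by_cases hgQ : g ∈ A.Q
    · exact hq g hgQ
    · have h1 := hQm _ ((T : Subgroup G).inv_mem (hRT ht0)) g hg (fun h => ht0Q (inv_mem_iff.1 h)) hgQ
      have h2 := hq _ h1
      have e1 : g * a * g⁻¹ * a⁻¹ = t0 * ((t0⁻¹ * g) * a * (t0⁻¹ * g)⁻¹ * a⁻¹) * t0⁻¹ * (t0 * a * t0⁻¹ * a⁻¹) := by
        group
      rw [e1, conj_zpowers (hT.le (hRT ht0)) h2, eq_conj_iff.2 (hac t0 ht0).eq, mul_inv_cancel, mul_one]
      exact h2
  obtain ⟨q0, hq0, hq0R⟩ := SetLike.not_le_iff_exists.1 (show ¬ A.Q ≤ R from fun h =>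
    hne (eq_of_le_of_card_ge h hQR.le).symm)
  have hq0T : q0 ∈ (T : Subgroup G) := A.Q_le hT hq0
  set c := q0 * a * q0⁻¹ * a⁻¹ with hc
  have hval : ∀ q ∈ A.Q, q * a * q⁻¹ * a⁻¹ = 1 ∨ q * a * q⁻¹ * a⁻¹ = c := by
    intro q hq
    by_cases hqR : q ∈ R
    · exact Or.inl (by rw [eq_conj_iff.2 (hac q hqR).eq, mul_inv_cancel])
    · refine Or.inr ?_
      have h1 : q0⁻¹ * q ∈ R := hRm _ ((T : Subgroup G).inv_mem hq0T) q (A.Q_le hT hq) (fun h => hq0R (inv_mem_iff.1 h)) hqR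
      rw [hc, show q * a * q⁻¹ * a⁻¹ = q0 * ((q0⁻¹ * q) * a * (q0⁻¹ * q)⁻¹) * q0⁻¹ * a⁻¹ by group,
        eq_conj_iff.2 (hac _ h1).eq]
  intro q hq
  rcases hval q hq with e | e <;> rw [e]
  · exact one_mem _
  by_contra hcz
  set a' := q0 * a * q0⁻¹ with ha'
  have ha'E : a' ∈ omegaCenter R := omegaCenter_conj (hRn q0 hq0T) ⟨haR, ha2, hac⟩
  have hcE : c ∈ omegaCenter R := mul_mem ha'E (inv_mem ⟨haR, ha2, hac⟩)
  have hcQ : c ∈ A.Q := mul_mem (mul_mem (mul_mem hq0 haQ) (inv_mem hq0)) (inv_mem haQ)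
  have hcq0 : q0 * c * q0⁻¹ = c := by
    have hsq : q0 * q0 ∈ R := hRm q0 hq0T q0 hq0T hq0R hq0R
    calc q0 * c * q0⁻¹ = ((q0 * q0) * a * (q0 * q0)⁻¹) * a'⁻¹ := by rw [hc, ha']; group
      _ = a * a'⁻¹ := by rw [eq_conj_iff.2 (hac _ hsq).eq]
      _ = c⁻¹ := by rw [hc]; group
      _ = c := inv_eq_of_mul_eq_one_right hcE.2.1
  have hcc : ∀ p ∈ A.Q, Commute p c := by
    intro p hp
    by_cases hpR : p ∈ R
    · exact hcE.2.2 p hpR
    · have h1 := hRm _ ((T : Subgroup G).inv_mem hq0T) p (A.Q_le hT hp) (fun h => hq0R (inv_mem_iff.1 h)) hpR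
      have h2 := (show Commute q0 c from eq_conj_iff.1 hcq0).mul_left (hcE.2.2 _ h1)
      rwa [mul_inv_cancel_left] at h2
  have hx3 := three_facts H.x_three
  set a1 := H.x * a * H.x⁻¹ with ha1
  set a2 := H.x * a1 * H.x⁻¹ with ha2'
  set c1 := H.x * c * H.x⁻¹ with hc1
  set c2 := H.x * c1 * H.x⁻¹ with hc2
  have ha1Q : a1 ∈ A.Q := A.Qn _ H.x_mem a haQ
  have ha2Q : a2 ∈ A.Q := A.Qn _ H.x_mem a1 ha1Q
  have hcne : c ≠ 1 := fun h => hcz (h ▸ one_mem _)
  have hcc1 : c ≠ c1 := fun h => hcz (H.mem_zpowers_z.2 (A.fixed_Q hcQ h.symm))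
  have hpull : ∀ p ∈ A.Q, H.x⁻¹ * p * H.x ∈ A.Q := fun p hp => by
    simpa using A.Qn _ (inv_mem H.x_mem) p hp
  have hval1 : ∀ p ∈ A.Q, p * a1 * p⁻¹ * a1⁻¹ = 1 ∨ p * a1 * p⁻¹ * a1⁻¹ = c1 := by
    intro p hp
    rw [ha1, show p * (H.x * a * H.x⁻¹) * p⁻¹ * (H.x * a * H.x⁻¹)⁻¹ =
      H.x * ((H.x⁻¹ * p * H.x) * a * (H.x⁻¹ * p * H.x)⁻¹ * a⁻¹) * H.x⁻¹ by group]
    rcases hval _ (hpull p hp) with e | e <;> rw [e]
    exacts [Or.inl (by simp), Or.inr rfl]
  have hval2 : ∀ p ∈ A.Q, p * a2 * p⁻¹ * a2⁻¹ = 1 ∨ p * a2 * p⁻¹ * a2⁻¹ = c2 := by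
    intro p hp
    rw [ha2', show p * (H.x * a1 * H.x⁻¹) * p⁻¹ * (H.x * a1 * H.x⁻¹)⁻¹ =
      H.x * ((H.x⁻¹ * p * H.x) * a1 * (H.x⁻¹ * p * H.x)⁻¹ * a1⁻¹) * H.x⁻¹ by group]
    rcases hval1 _ (hpull p hp) with e | e <;> rw [e]
    exacts [Or.inl (by simp), Or.inr rfl]
  have haa1 : Commute a a1 := by
    rcases hval1 a haQ with e | e
    · exact eq_conj_iff.1 (mul_inv_eq_one.1 e)
    · rcases hval a1 ha1Q with e' | e'
      · exact (eq_conj_iff.1 (mul_inv_eq_one.1 e') : a1 * a = a * a1).symm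
      · exfalso
        refine hcc1 ?_
        have h1 : c1⁻¹ = c := by rw [← e, ← e']; group
        rw [← h1, ← inv_inj, inv_inv, hc1, ← conj_inv', inv_eq_of_mul_eq_one_right hcE.2.1]
  have ha12 : Commute a1 a2 := haa1.map (MulAut.conj H.x).toMonoidHom
  have hxa2 : H.x * a2 * H.x⁻¹ = a := by
    rw [ha2', ha1, conj_conj', conj_conj', hx3.2.1]; simp
  have ha20 : Commute a2 a := by
    have h := ha12.map (MulAut.conj H.x).toMonoidHom
    simp only [MulEquiv.coe_toMonoidHom, MulAut.conj_apply] at h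
    rwa [← ha2', hxa2] at h
  set b := a * a1 * a2 with hb
  have hbfix : H.x * b * H.x⁻¹ = b := by
    rw [hb, conj_mul', conj_mul', ← ha1, ← ha2', hxa2]
    exact ((haa1.symm.mul_left ha20).eq).trans (mul_assoc _ _ _).symm
  have hbc : ∀ p ∈ A.Q, p * b * p⁻¹ = b := by
    intro p hp
    rcases A.fixed_Q (mul_mem (mul_mem haQ ha1Q) ha2Q) hbfix with e | e <;> rw [hb, e]
    · simp
    · exact eq_conj_iff.2 (H.mem_C.1 (A.QC hp))
  by_cases hex : ∃ p ∈ A.Q, p ∈ R ∧ H.x⁻¹ * p * H.x ∉ R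
  · obtain ⟨p, hp, hpR, hpR'⟩ := hex
    have e0 : p * a * p⁻¹ = a := eq_conj_iff.2 (hac p hpR).eq
    have e1 : p * a1 * p⁻¹ = c1 * a1 := by
      refine mul_inv_eq_iff_eq_mul.1 ?_
      rw [ha1, show p * (H.x * a * H.x⁻¹) * p⁻¹ * (H.x * a * H.x⁻¹)⁻¹ =
        H.x * ((H.x⁻¹ * p * H.x) * a * (H.x⁻¹ * p * H.x)⁻¹ * a⁻¹) * H.x⁻¹ by group, hc1]
      congr 2
      rcases hval _ (hpull p hp) with e | e
      swap
      · exact e
      · exfalso
        have h1 := hRm _ ((T : Subgroup G).inv_mem hq0T) _ (A.Q_le hT (hpull p hp))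
          (fun h => hq0R (inv_mem_iff.1 h)) hpR'
        refine hcne ?_
        rw [hc, ← e, show (H.x⁻¹ * p * H.x) * a * (H.x⁻¹ * p * H.x)⁻¹ =
          q0 * ((q0⁻¹ * (H.x⁻¹ * p * H.x)) * a * (q0⁻¹ * (H.x⁻¹ * p * H.x))⁻¹) * q0⁻¹ by group,
          eq_conj_iff.2 (hac _ h1).eq]
    have hbp := hbc p hp
    rw [hb, conj_mul', conj_mul', e0, e1] at hbp
    have hc1a : Commute c1 a := by
      have h : Commute c1 a1 := ((hcc a haQ).map (MulAut.conj H.x).toMonoidHom).symm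
      have h' : ∀ r ∈ A.Q, Commute r c1 := fun r hr' => by
        have h2 := (hcc _ (hpull r hr')).map (MulAut.conj H.x).toMonoidHom
        simp only [MulEquiv.coe_toMonoidHom, MulAut.conj_apply] at h2
        rwa [show H.x * (H.x⁻¹ * r * H.x) * H.x⁻¹ = r by group] at h2
      exact (h' a haQ).symm
    rcases hval2 p hp with e | e
    · rw [mul_inv_eq_one.1 e] at hbp
      exact hcne (conj_eq_one_iff.1 (mul_eq_right.1 (mul_left_cancel (mul_right_cancel hbp))))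
    · rw [mul_inv_eq_iff_eq_mul.1 e] at hbp
      have hc2a1 : Commute c2 a1 := by
        have h := hc1a.map (MulAut.conj H.x).toMonoidHom
        simp only [MulEquiv.coe_toMonoidHom, MulAut.conj_apply] at h
        exact h
      have h4 : c1 * c2 = 1 := by
        have h5 : a * (c1 * c2) * (a1 * a2) = a * (a1 * a2) := by
          calc a * (c1 * c2) * (a1 * a2) = a * c1 * (c2 * a1) * a2 := by group
            _ = a * c1 * (a1 * c2) * a2 := by rw [hc2a1.eq]
            _ = a * (c1 * a1) * (c2 * a2) := by group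
            _ = a * a1 * a2 := hbp
            _ = a * (a1 * a2) := mul_assoc _ _ _
        exact mul_eq_left.1 (mul_right_cancel h5)
      have hinv : c1⁻¹ = c1 := by rw [hc1, ← conj_inv', inv_eq_of_mul_eq_one_right hcE.2.1]
      have h6 : c2 = c1 := (eq_inv_of_mul_eq_one_right h4).trans hinv
      exact hcc1 ((MulAut.conj H.x).injective h6).symm
  · push Not at hex
    have hR0x : ∀ p ∈ R0, H.x * p * H.x⁻¹ ∈ R0 := by
      intro p hp
      refine ⟨?_, A.Qn _ H.x_mem p hp.2⟩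
      have h1 := hex _ (hpull p hp.2) (hex p hp.2 hp.1)
      rwa [show H.x⁻¹ * (H.x⁻¹ * p * H.x) * H.x = (H.x * H.x)⁻¹ * p * (H.x * H.x) by group, ← hx3.2.2.2,
        inv_inv] at h1
    have hxq0 : H.x * q0 * H.x⁻¹ ∉ R := fun h => hq0R (by
      have h1 := hex _ (A.Qn _ H.x_mem q0 hq0) h
      rwa [show H.x⁻¹ * (H.x * q0 * H.x⁻¹) * H.x = q0 by group] at h1)
    obtain ⟨d, hd, hfd⟩ := exists_fixed_coset Nat.prime_three (by norm_num) (n := 1) (y := H.x)
      (by simpa using hx3.1) (A.hQ.to_le inf_le_right) hR0x (a := q0)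
      ⟨hRm _ ((T : Subgroup G).inv_mem hq0T) _ (A.Q_le hT (A.Qn _ H.x_mem q0 hq0))
        (fun h => hq0R (inv_mem_iff.1 h)) hxq0,
        A.Q.mul_mem (A.Q.inv_mem hq0) (A.Qn _ H.x_mem q0 hq0)⟩
    rcases A.fixed_Q (mul_mem hq0 hd.2) hfd with e | e
    · exact hq0R ((R.mul_mem_cancel_right hd.1).1 (e ▸ one_mem R))
    · exact hq0R ((R.mul_mem_cancel_right hd.1).1 (e ▸ hzR))

set_option maxHeartbeats 800000 in
/-- `z` is the only central involution of `Q`. -/
theorem centre (h2 : 2 < Nat.card A.Q) {u₀ : G} (hu₀ : u₀ ∈ omegaCenter A.Q) : u₀ = 1 ∨ u₀ = H.z := by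
  classical
  haveI : Fact (Nat.Prime 2) := ⟨Nat.prime_two⟩
  by_contra hu
  push Not at hu
  set E := omegaCenter A.Q with hEdef
  have hEQ : E ≤ A.Q := omegaCenter_le _
  have hzE : H.z ∈ E := ⟨A.zQ, H.zz, fun g hg => H.mem_C.1 (A.QC hg)⟩
  have hEx : ∀ e ∈ E, H.x * e * H.x⁻¹ ∈ E := fun e he => omegaCenter_conj (fun q hq => A.Qn _ H.x_mem q hq) he
  obtain ⟨k, hk⟩ := two_group_card (A.hQ.to_le hEQ)
  have hE3 := A.card_mod hEQ hzE hEx
  have hE8 : 8 ≤ Nat.card E := by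
    have hsub : ({1, H.z, u₀} : Set G) ⊆ (E : Set G) := by
      intro a ha
      rcases ha with rfl | rfl | rfl
      exacts [one_mem _, hzE, hu₀]
    have h := Set.ncard_le_ncard hsub (Set.toFinite _)
    rw [Set.ncard_eq_three.2 ⟨1, H.z, u₀, H.z_ne.symm, hu.1.symm, hu.2.symm, rfl⟩, ← Nat.card_coe_set_eq] at h
    change 3 ≤ Nat.card E at h
    rw [hk] at h hE3 ⊢
    have : 3 ≤ k := by
      by_contra hlt
      have : k ≤ 2 := by omega
      interval_cases k <;> simp_all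
    exact (Nat.pow_le_pow_right (by norm_num) this : 2 ^ 3 ≤ 2 ^ k)
  obtain ⟨t, htT, htQ⟩ := A.exists_out hr hT
  obtain ⟨hQn, hQm⟩ := A.T_facts hr hT
  set Z0 := E ⊓ centralizer ((T : Subgroup G) : Set G) with hZ0
  have hmemZ0 : ∀ {e : G}, e ∈ E → Commute t e → e ∈ Z0 := fun {e} he hte =>
    ⟨he, mem_centralizer_iff.2 fun g hg => by
      by_cases hgQ : g ∈ A.Q
      · exact (he.2.2 g hgQ).eq
      · have h1 := hte.mul_left (he.2.2 _ (hQm _ ((T : Subgroup G).inv_mem htT) g hg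
          (fun h => htQ (inv_mem_iff.1 h)) hgQ))
        rw [mul_inv_cancel_left] at h1
        exact h1.eq⟩
  have hEZ : Nat.card E ≤ Nat.card Z0 * Nat.card Z0 := by
    have hmem : ∀ e : ↥E, t * (e : G) * t⁻¹ * e ∈ E := fun e =>
      mul_mem (omegaCenter_conj (hQn t htT) e.2) e.2
    let ψ : ↥E →* ↥E := MonoidHom.mk' (fun e => ⟨_, hmem e⟩) fun a b => Subtype.ext (by
      show t * ((a : G) * b) * t⁻¹ * ((a : G) * b) = t * (a : G) * t⁻¹ * a * (t * (b : G) * t⁻¹ * b)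
      rw [conj_mul']
      exact Commute.mul_mul_mul_comm (a.2.2.2 _ (hEQ (omegaCenter_conj (hQn t htT) b.2))) _ _)
    have hk1 : Nat.card ψ.ker ≤ Nat.card Z0 := by
      rw [← Subgroup.card_subtype E ψ.ker]
      refine card_le_of_le ?_
      rintro _ ⟨e, he, rfl⟩
      refine hmemZ0 e.2 (eq_conj_iff.1 ?_)
      have h1 : t * (e : G) * t⁻¹ * e = 1 := congrArg Subtype.val he
      show t * (e : G) * t⁻¹ = e
      rw [eq_inv_of_mul_eq_one_left h1]
      exact inv_eq_of_mul_eq_one_right e.2.2.1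
    have hk2 : Nat.card ψ.range ≤ Nat.card Z0 := by
      rw [← Subgroup.card_subtype E ψ.range]
      refine card_le_of_le ?_
      rintro _ ⟨_, ⟨e, rfl⟩, rfl⟩
      refine hmemZ0 (hmem e) (eq_conj_iff.1 ?_)
      show t * (t * (e : G) * t⁻¹ * e) * t⁻¹ = t * (e : G) * t⁻¹ * e
      rw [conj_mul', conj_conj', eq_conj_iff.2 (e.2.2.2 _ (hQm t htT t htT htQ htQ)).eq]
      exact ((e.2.2.2 _ (hEQ (omegaCenter_conj (hQn t htT) e.2))).eq).symm
    rw [← card_mul_index ψ.ker, index_ker]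
    exact Nat.mul_le_mul hk1 hk2
  have hmove : ∀ g ∈ (T : Subgroup G), g ∉ A.Q → ¬ ∀ e ∈ E, e * g = g * e := fun g hg hgQ h => by
    have := A.small_invariant hr hT hg hgQ (A.hQ.to_le hEQ) hEx h
    omega
  -- odd elements normalising `T` normalise `Q`
  have hNQ : ∀ n : G, Odd (orderOf n) → n ∈ normalizer ((T : Subgroup G) : Set G) →
      n ∈ normalizer (A.Q : Set G) := by
    intro n hodd hn
    have hnT : ∀ g ∈ (T : Subgroup G), n * g * n⁻¹ ∈ (T : Subgroup G) := fun g hg =>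
      (mem_normalizer_iff.1 hn g).1 hg
    have hnT' : ∀ g ∈ (T : Subgroup G), n⁻¹ * g * n ∈ (T : Subgroup G) := fun g hg => by
      simpa using (mem_normalizer_iff.1 (inv_mem hn) g).1 hg
    by_contra hnQ
    have hnorm : ∀ m : G, A.Q.map (MulAut.conj m).toMonoidHom = A.Q → m ∈ normalizer (A.Q : Set G) := fun m hm =>
      mem_normalizer_iff.2 fun v => ⟨fun hv => hm.le ⟨v, hv, rfl⟩, fun hv => by
        obtain ⟨v', hv', e⟩ := hm.ge hv
        exact (MulAut.conj m).injective e ▸ hv'⟩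
    have htw : ∀ m : G, (∀ g ∈ (T : Subgroup G), m * g * m⁻¹ ∈ (T : Subgroup G)) →
        (∀ g ∈ (T : Subgroup G), m⁻¹ * g * m ∈ (T : Subgroup G)) → m ∉ normalizer (A.Q : Set G) →
        ∀ e ∈ E, ∀ g ∈ (T : Subgroup G), g * (m * e * m⁻¹) * g⁻¹ * (m * e * m⁻¹)⁻¹ ∈ zpowers H.z := by
      intro m hm hm' hmQ e he g hg
      refine (A.twist hr hT hE8 (R := A.Q.map (MulAut.conj m).toMonoidHom) ?_ ?_
        (fun h => hmQ (hnorm m h)) ?_ (a := m * e * m⁻¹) ?_).2 g hg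
      · rintro _ ⟨q, hq, rfl⟩
        exact hm q (A.Q_le hT hq)
      · rw [card_map_of_injective (MulAut.conj m).injective]
        exact A.card_T hr hT
      · refine ⟨m⁻¹ * H.z * m, A.central_mem hr hT h2 (hm' _ hT.1) fun g hg => ?_, by
          show m * (m⁻¹ * H.z * m) * m⁻¹ = H.z
          group⟩
        have h1 := (show Commute (m * g * m⁻¹) H.z from hT.2 _ (hm g hg)).map (MulAut.conj m⁻¹).toMonoidHom
        simp only [MulEquiv.coe_toMonoidHom, MulAut.conj_apply, inv_inv] at h1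
        rwa [show m⁻¹ * (m * g * m⁻¹) * m = g by group] at h1
      · refine ⟨⟨e, hEQ he, rfl⟩, by rw [← conj_mul', he.2.1]; simp, ?_⟩
        rintro _ ⟨q, hq, rfl⟩
        exact (he.2.2 q hq).map (MulAut.conj m).toMonoidHom
    have hninv : n⁻¹ ∉ normalizer (A.Q : Set G) := fun h => hnQ (inv_mem_iff.1 h)
    have hv : n * n * H.z * (n * n)⁻¹ ≠ H.z := by
      intro h
      have h1 : n * n ∈ normalizer (A.Q : Set G) := by
        have hC : n * n ∈ H.C := H.mem_C.2 (eq_conj_iff.1 h)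
        exact mem_normalizer_iff.2 fun v => ⟨fun hv => A.Qn _ hC v hv, fun hv => by
          have := A.Qn _ (inv_mem hC) _ hv
          rwa [conj_conj', inv_mul_cancel, inv_one, mul_one, one_mul] at this⟩
      obtain ⟨j, hj⟩ := hodd
      refine hnQ ?_
      have h4 := pow_mem h1 (j + 1)
      rwa [← pow_two, ← pow_mul, show 2 * (j + 1) = orderOf n + 1 by omega, pow_succ, pow_orderOf_eq_one,
        one_mul] at h4
    refine hmove t htT htQ fun e he => ?_
    have hcomm : ∀ g ∈ (T : Subgroup G), g * (n * e * n⁻¹) * g⁻¹ * (n * e * n⁻¹)⁻¹ = 1 := by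
      intro g hg
      rcases H.mem_zpowers_z.1 (htw n hnT hnT' hnQ e he g hg) with h | h
      · exact h
      · exfalso
        have hg' := hnT' _ (hnT' g hg)
        have h1 := htw n⁻¹ (fun a ha => by simpa using hnT' a ha) (fun a ha => by simpa using hnT a ha) hninv e he
          _ hg'
        have e1 : g * (n * e * n⁻¹) * g⁻¹ * (n * e * n⁻¹)⁻¹ = (n * n) * ((n⁻¹ * (n⁻¹ * g * n) * n) *
            (n⁻¹ * e * n⁻¹⁻¹) * (n⁻¹ * (n⁻¹ * g * n) * n)⁻¹ * (n⁻¹ * e * n⁻¹⁻¹)⁻¹) * (n * n)⁻¹ := by group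
        rw [h] at e1
        rcases H.mem_zpowers_z.1 h1 with h' | h' <;> rw [h'] at e1
        · exact H.z_ne (e1.trans (by simp))
        · exact hv e1.symm
    have h2' := (show Commute (n * t * n⁻¹) (n * e * n⁻¹) from
      eq_conj_iff.1 (mul_inv_eq_one.1 (hcomm _ (hnT t htT)))).map (MulAut.conj n⁻¹).toMonoidHom
    simp only [MulEquiv.coe_toMonoidHom, MulAut.conj_apply, inv_inv] at h2'
    rw [show n⁻¹ * (n * t * n⁻¹) * n = t by group, show n⁻¹ * (n * e * n⁻¹) * n = e by group] at h2'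
    exact h2'.eq.symm
  -- the action of the normalizer of `Q` on `E`
  set N := normalizer (A.Q : Set G) with hN
  have hCN : H.C ≤ N := fun g hg => mem_normalizer_iff.2 fun v => ⟨fun hv => A.Qn g hg v hv, fun hv => by
    have := A.Qn _ (inv_mem hg) _ hv
    rwa [conj_conj', inv_mul_cancel, inv_one, mul_one, one_mul] at this⟩
  have hNE : ∀ n ∈ N, ∀ e ∈ E, n * e * n⁻¹ ∈ E := fun n hn e he =>
    omegaCenter_conj (fun q hq => (mem_normalizer_iff.1 hn q).1 hq) he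
  set ρ := conjAct N E hNE with hρ
  set ρ' := ρ.rangeRestrict with hρ'
  set ι := ρ'.comp (Subgroup.inclusion hCN) with hι
  have hρ1 : ∀ {n : ↥N}, ρ' n = 1 ↔ ∀ e ∈ E, (n : G) * e = e * (n : G) := fun {n} => by
    refine ⟨fun h e he => eq_conj_iff.1 ?_, fun h => Subtype.ext (MulEquiv.ext fun e =>
      Subtype.ext (eq_conj_iff.2 (h e e.2)))⟩
    have h1 := congrArg (fun a : ↥ρ.range => (((a : MulAut ↥E) ⟨e, he⟩ : ↥E) : G)) h
    exact h1
  set xC : ↥H.C := ⟨H.x, H.x_mem⟩ with hxC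
  set tC : ↥H.C := ⟨t, hT.le htT⟩ with htC
  have hι1 : ∀ g : ↥H.C, A.f g = 1 → ι g = 1 := by
    intro g hg
    obtain ⟨q, hq, w, hw, e⟩ := (A.ker g).1 hg
    refine hρ1.2 fun v hv => ?_
    show (g : G) * v = v * g
    rw [e]
    exact ((show Commute q v from hv.2.2 q hq).mul_left (A.W_comm hw (hEQ hv))).eq
  have hιf : ∀ g g' : ↥H.C, A.f g = A.f g' → ι g = ι g' := fun g g' h => by
    have h1 := hι1 (g⁻¹ * g') (by rw [map_mul, map_inv, h, inv_mul_cancel])
    rwa [map_mul, map_inv, inv_mul_eq_one] at h1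
  have hιx : ι xC ≠ 1 := by
    intro h
    have h1 := hρ1.1 h u₀ hu₀
    exact (A.fixed_Q (hEQ hu₀) (eq_conj_iff.2 h1)).elim hu.1 hu.2
  have hιinj : ∀ g : ↥H.C, ι g = 1 → A.f g = 1 := by
    intro g hg
    by_contra hne
    rcases Three.near_rotation _ (A.f xC) A.f_x_cube A.fx hne with e | e | e
    · have h1 := hιf (g * xC * g⁻¹ * xC⁻¹) xC (by rw [map_mul, map_mul, map_mul, map_inv, map_inv, e])
      rw [map_mul, map_mul, map_mul, map_inv, map_inv, hg] at h1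
      simp at h1
      exact hιx (h1 ▸ rfl)
    · exact hιx ((hιf g xC e).symm.trans hg)
    · have h1 := hιf g (xC * xC) (by rw [map_mul, e])
      rw [hg, map_mul] at h1
      refine hιx ?_
      have h3 : ι xC * ι xC * ι xC = 1 := by
        rw [← map_mul, ← map_mul, show xC * xC * xC = 1 from Subtype.ext (three_facts H.x_three).2.1, map_one]
      rwa [← h1, one_mul] at h3
  have hιeq : ∀ g g' : ↥H.C, ι g = ι g' → A.f g = A.f g' := fun g g' h => by
    have h1 := hιinj (g⁻¹ * g') (by rw [map_mul, map_inv, h, inv_mul_cancel])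
    rwa [map_mul, map_inv, inv_mul_eq_one] at h1
  set ξ := ι xC with hξ
  have hξ3 : orderOf ξ = 3 := orderOf_eq_three (by
    rw [hξ, ← map_pow, show xC ^ 3 = 1 from Subtype.ext (by simpa [hxC] using (three_facts H.x_three).1), map_one]) hιx
  have hfixz : ∀ n : ↥N, ((ρ' n : ↥ρ.range) : MulAut ↥E) ⟨H.z, hzE⟩ = ⟨H.z, hzE⟩ →
      ∃ g : ↥H.C, ρ' n = ι g := by
    intro n h
    have h' : (n : G) * H.z * (n : G)⁻¹ = H.z := congrArg Subtype.val h
    exact ⟨⟨n, H.mem_C.2 (eq_conj_iff.1 h')⟩, rfl⟩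
  have hfixx : ∀ n : ↥N, ρ' n * ξ = ξ * ρ' n → ∃ g : ↥H.C, ρ' n = ι g := by
    intro n h
    have hz := congrArg (fun a : ↥ρ.range => (((a : MulAut ↥E) ⟨H.z, hzE⟩ : ↥E) : G)) h
    have hz' : (n : G) * (H.x * H.z * H.x⁻¹) * (n : G)⁻¹ = H.x * ((n : G) * H.z * (n : G)⁻¹) * H.x⁻¹ := hz
    rw [H.x_conj_z] at hz'
    have := (A.fixed_Q (hEQ (hNE n n.2 _ hzE)) hz'.symm).resolve_left fun e => H.z_ne (conj_eq_one_iff.1 e)
    exact ⟨⟨n, H.mem_C.2 (eq_conj_iff.1 this)⟩, rfl⟩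
  have hcen : centralizer ((zpowers ξ : Subgroup ↥ρ.range) : Set ↥ρ.range) = zpowers ξ := by
    refine le_antisymm (fun a ha => ?_) fun a ha b hb => ?_
    · obtain ⟨n, rfl⟩ := ρ.rangeRestrict_surjective a
      have hc : ξ * ρ' n = ρ' n * ξ := mem_centralizer_iff.1 ha ξ (mem_zpowers _)
      obtain ⟨g, hg⟩ := hfixx n hc.symm
      rw [hg, hξ, ← map_mul, ← map_mul] at hc
      have hfc := hιeq _ _ hc
      rw [map_mul, map_mul] at hfc
      obtain ⟨i, hi⟩ := A.f_cent hr hT g.2 hfc.symm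
      show ρ' n ∈ zpowers ξ
      rw [hg, hιf g (xC ^ i) (by rw [map_pow]; exact hi), map_pow]
      exact pow_mem (mem_zpowers _) i
    · obtain ⟨k, rfl⟩ := mem_zpowers_iff.1 ha
      obtain ⟨m, rfl⟩ := mem_zpowers_iff.1 hb
      exact ((Commute.refl _).zpow_zpow m k).eq
  have h4 : ¬ 4 ∣ Nat.card ↥ρ.range := by
    intro h
    have hTN : (T : Subgroup G) ≤ N := hT.le.trans hCN
    have hker : A.Q.subgroupOf N ≤ ρ.ker := fun q hq => by
      have h1 : ρ' q = 1 := hρ1.2 fun e he => (he.2.2 _ hq).eq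
      exact congrArg Subtype.val h1
    have h1 := card_mul_index ρ.ker
    rw [index_ker] at h1
    have h2 : Nat.card A.Q ∣ Nat.card ρ.ker := by
      have h3 := card_dvd_of_le hker
      rwa [Nat.card_congr (subgroupOfEquivOfLe ((A.Q_le hT).trans hTN)).toEquiv] at h3
    have h3 : Nat.card A.Q * 4 ∣ Nat.card G :=
      (h1 ▸ mul_dvd_mul h2 h).trans (card_subgroup_dvd_card N)
    obtain ⟨n, hn⟩ := two_group_card A.hQ
    rw [hn, show 2 ^ n * 4 = 2 ^ (n + 2) by ring] at h3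
    have h5 := (Nat.Prime.pow_dvd_iff_le_factorization Nat.prime_two Nat.card_pos.ne').1 h3
    have h6 := T.card_eq_multiplicity
    rw [← A.card_T hr hT, hn, show 2 * 2 ^ n = 2 ^ (n + 1) by ring] at h6
    have := Nat.pow_right_injective le_rfl h6
    omega
  -- involutions of the image
  set τ := ι tC with hτ
  have ht2 : A.f tC * A.f tC = 1 ∧ A.f tC ≠ 1 := A.outside hr hT htT htQ
  have hτ2 : τ * τ = 1 := by rw [hτ, ← map_mul]; exact hι1 _ (by rw [map_mul]; exact ht2.1)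
  obtain ⟨hp3, hp1⟩ := Three.pair _ (A.f xC) ht2.1 ht2.2 A.f_x_cube A.fx
  have hτξ : τ * (ξ * τ * ξ⁻¹) = ξ ∨ τ * (ξ * τ * ξ⁻¹) = ξ * ξ := by
    rw [hτ, hξ, ← map_inv, ← map_mul, ← map_mul, ← map_mul, ← map_mul]
    rcases Three.rotation (A.f tC * (A.f xC * A.f tC * (A.f xC)⁻¹)) (A.f xC) A.f_x_cube A.fx hp3 hp1
      with e | e
    · exact Or.inl (hιf _ _ (by rw [map_mul, map_mul, map_mul, map_inv]; exact e))
    · exact Or.inr (hιf _ _ (by rw [map_mul, map_mul, map_mul, map_inv, map_mul]; exact e))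
  obtain ⟨M, hMn, hM3, hMq⟩ : ∃ M : Subgroup ↥ρ.range, M.Normal ∧ ¬ 3 ∣ Nat.card M ∧
      (M.index = 3 ∨ M.index = 6) := by
    rcases S3331.result (zpowers ξ) (by rw [Nat.card_zpowers, hξ3]) hcen with
      ⟨M, hMn, -, hcop, hq⟩ | ⟨M, hMn, -, -, ⟨e⟩⟩ | ⟨⟨e⟩⟩
    · refine ⟨M, hMn, (Nat.Prime.coprime_iff_not_dvd Nat.prime_three).1 hcop.symm, ?_⟩
      rcases hq with h | ⟨⟨e⟩⟩
      · exact Or.inl ((index_eq_card M).trans h)
      · exact Or.inr ((index_eq_card M).trans ((Nat.card_congr e.toEquiv).trans Three.card))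
    · exfalso
      have h : M.index ∣ Nat.card ↥ρ.range := index_dvd_card M
      rw [index_eq_card, Nat.card_congr e.toEquiv, Five.card] at h
      exact h4 ((show 4 ∣ 60 by norm_num).trans h)
    · exfalso
      rw [Nat.card_congr e.toEquiv, card_psl_seven] at h4
      exact h4 (by norm_num)
  haveI := hMn
  have hMξ : ∀ a ∈ M, a ∈ zpowers ξ → a = 1 := by
    intro a ha hax
    rw [← orderOf_eq_one_iff]
    refine Nat.eq_one_of_dvd_coprimes ((Nat.Prime.coprime_iff_not_dvd Nat.prime_three).2 hM3).symm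
      (Subgroup.orderOf_dvd_natCard _ ha) ?_
    rw [← hξ3]
    exact orderOf_dvd_of_mem_zpowers hax
  have hM6 : M.index = 6 := by
    refine hMq.resolve_left fun h3 => ?_
    have hmem : ∀ a : ↥ρ.range, a * a = 1 → a ∈ M := fun a ha => by
      refine (QuotientGroup.eq_one_iff (N := M) a).1 (orderOf_eq_one_iff.1 ?_)
      refine Nat.eq_one_of_dvd_coprimes (show Nat.Coprime 2 3 by norm_num)
        (orderOf_dvd_of_pow_eq_one (by rw [← QuotientGroup.mk_pow, pow_two, ha]; rfl)) ?_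
      rw [← h3, index_eq_card]
      exact _root_.orderOf_dvd_natCard _
    have h5 : τ * (ξ * τ * ξ⁻¹) ∈ M := mul_mem (hmem τ hτ2) (hMn.conj_mem τ (hmem τ hτ2) ξ)
    have hξ1 : ξ ≠ 1 := hιx
    rcases hτξ with e | e <;> rw [e] at h5
    · exact hξ1 (hMξ ξ h5 (mem_zpowers _))
    · have h7 := hMξ _ h5 (mul_mem (mem_zpowers _) (mem_zpowers _))
      have h8 := pow_orderOf_eq_one ξ
      rw [hξ3, pow_succ, pow_two, h7, one_mul] at h8
      exact hξ1 h8
  have hModd : Odd (Nat.card M) := by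
    rw [← Nat.not_even_iff_odd, even_iff_two_dvd]
    intro h
    refine h4 ((show 4 ∣ 6 * 2 by norm_num).trans ?_)
    rw [← card_mul_index M, hM6, mul_comm]
    exact mul_dvd_mul_right h 6
  -- `M` fixes no involution at `z`
  have hMC : ∀ g : ↥H.C, ι g ∈ M → ι g = 1 := by
    intro g hg
    have hd := Subgroup.orderOf_dvd_natCard _ hg
    rw [← orderOf_eq_one_iff]
    rcases Three.two_or_three (A.f g) with e | e
    · refine Nat.eq_one_of_dvd_coprimes (Nat.coprime_two_right.2 hModd) hd (orderOf_dvd_of_pow_eq_one ?_)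
      rw [pow_two, ← map_mul]
      exact hι1 _ (by rw [map_mul]; exact e)
    · refine Nat.eq_one_of_dvd_coprimes ((Nat.Prime.coprime_iff_not_dvd Nat.prime_three).2 hM3).symm hd
        (orderOf_dvd_of_pow_eq_one ?_)
      rw [← map_pow]
      exact hι1 _ (by rw [map_pow]; exact e)
  let ev : ↥ρ.range → ↥E := fun a => (a : MulAut ↥E) ⟨H.z, hzE⟩
  have hevinj : ∀ m ∈ M, ∀ m' ∈ M, ev m = ev m' → m = m' := by
    intro m hm m' hm' h
    obtain ⟨n, hn⟩ := ρ.rangeRestrict_surjective (m⁻¹ * m')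
    obtain ⟨g, hg⟩ := hfixz n (by
      show ((ρ.rangeRestrict n : ↥ρ.range) : MulAut ↥E) _ = _
      rw [hn]
      show ((m : MulAut ↥E))⁻¹ (ev m') = _
      rw [← h]
      exact (m : MulAut ↥E).symm_apply_apply _)
    have h1 : ι g ∈ M := by rw [← hg, hρ', hn]; exact mul_mem (inv_mem hm) hm'
    have h2 := hMC g h1
    rw [← hg, hρ', hn, inv_mul_eq_one] at h2
    exact h2
  have hMcard : Nat.card M + 1 ≤ Nat.card E := by
    haveI : Fintype ↥E := Fintype.ofFinite _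
    have h := Set.ncard_le_ncard (s := Set.range fun m : ↥M => ev m) (t := {(1 : ↥E)}ᶜ) (by
      rintro _ ⟨m, rfl⟩ h
      have : ((m : ↥ρ.range) : MulAut ↥E) ⟨H.z, hzE⟩ = 1 := h
      rw [← map_one ((m : ↥ρ.range) : MulAut ↥E)] at this
      exact H.z_ne (congrArg Subtype.val (((m : ↥ρ.range) : MulAut ↥E).injective this))) (Set.toFinite _)
    have hinj : Function.Injective fun m : ↥M => ev m := fun a b hab =>
      Subtype.ext (hevinj (a : ↥ρ.range) a.2 (b : ↥ρ.range) b.2 hab)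
    rw [Set.ncard_range_of_injective hinj, Set.ncard_compl, Set.ncard_singleton] at h
    have : 0 < Nat.card E := Nat.card_pos
    omega
  set C1 := M ⊓ centralizer ({τ} : Set ↥ρ.range) with hC1
  -- central involutions come from `C_M(τ)`
  have hZM : ∀ v ∈ Z0, v ≠ 1 → ∃ m ∈ C1, (ev m : G) = v := by
    intro v hv hv1
    obtain ⟨n, hodd, hn, hnz⟩ := exists_odd_conj T hT.2 (fun g hg => (mem_centralizer_iff.1 hv.2 g hg))
      (H.one H.z v H.z_inv (orderOf_eq_two hv.1.2.1 hv1))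
    set a := ρ' ⟨n, hNQ n hodd hn⟩
    -- split off the stabiliser
    let q : ↥H.C →* ↥ρ.range ⧸ M := (QuotientGroup.mk' M).comp ι
    have hq : Function.Surjective q := by
      refine MonoidHom.range_eq_top.1 (eq_top_of_card_eq _ ?_)
      have hk : q.ker = A.f.ker := by
        ext g
        simp only [q, MonoidHom.mem_ker, MonoidHom.comp_apply, QuotientGroup.mk'_apply, QuotientGroup.eq_one_iff]
        exact ⟨fun h => hιinj g (hMC g h), fun h => by rw [hι1 g h]; exact one_mem M⟩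
      rw [← index_ker, hk, index_ker, hr, ← index_eq_card, hM6]
    obtain ⟨g, hg⟩ := hq (QuotientGroup.mk a)
    have hm : a * (ι g)⁻¹ ∈ M := by
      have h1 : (QuotientGroup.mk a : ↥ρ.range ⧸ M) = QuotientGroup.mk (ι g) := hg.symm
      exact hMn.mem_comm (QuotientGroup.eq.1 h1.symm)
    set m := a * (ι g)⁻¹
    have hmv : (ev m : G) = v := by
      show n * (((ι g)⁻¹ : MulAut ↥E) ⟨H.z, hzE⟩ : ↥E) * n⁻¹ = v
      rw [← hnz]
      congr 2
      rw [show ((ι g : ↥ρ.range) : MulAut ↥E)⁻¹ = ((ι g⁻¹ : ↥ρ.range) : MulAut ↥E) by rw [map_inv]; rfl]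
      exact eq_conj_iff.2 (H.mem_C.1 (inv_mem g.2))
    refine ⟨m, ⟨hm, mem_centralizer_singleton_iff.2 (eq_conj_iff.1 ?_).symm⟩, hmv⟩
    refine hevinj _ (hMn.conj_mem m hm τ) m hm (Subtype.ext ?_)
    have hτz : ((τ⁻¹ : ↥ρ.range) : MulAut ↥E) ⟨H.z, hzE⟩ = ⟨H.z, hzE⟩ := Subtype.ext (by
      rw [hτ, ← map_inv]
      exact eq_conj_iff.2 (H.mem_C.1 (inv_mem tC.2)))
    show (((τ : MulAut ↥E) ((m : MulAut ↥E) (((τ⁻¹ : ↥ρ.range) : MulAut ↥E) ⟨H.z, hzE⟩)) : ↥E) : G) = ((ev m : ↥E) : G)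
    rw [hτz]
    show t * (ev m : G) * t⁻¹ = ev m
    rw [hmv]
    exact eq_conj_iff.2 (mem_centralizer_iff.1 hv.2 t htT)
  have hC1card : Nat.card Z0 ≤ Nat.card C1 + 1 := by
    have hsub : (Z0 : Set G) ⊆ insert 1 (Set.range fun m : ↥C1 => (ev m : G)) := fun v hv => by
      by_cases h : v = 1
      · exact Or.inl h
      · obtain ⟨m, hm, e⟩ := hZM v hv h
        exact Or.inr ⟨⟨m, hm⟩, e⟩
    have h := (Set.ncard_le_ncard hsub (Set.toFinite _)).trans (Set.ncard_insert_le _ _)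
    rw [← Nat.card_coe_set_eq, ← Nat.card_coe_set_eq] at h
    have h2 := Finite.card_range_le fun m : ↥C1 => (ev m : G)
    change Nat.card Z0 ≤ _ at h
    omega
  have hC1sq : Nat.card C1 * Nat.card C1 ≤ Nat.card M := by
    rw [← Nat.card_prod]
    refine Nat.card_le_card_of_injective
      (fun p => ⟨(p.1 : ↥ρ.range) * (ξ * p.2 * ξ⁻¹), mul_mem p.1.2.1 (hMn.conj_mem _ p.2.2.1 ξ)⟩) ?_
    rintro ⟨a, b⟩ ⟨a', b'⟩ h
    have h1 : (a : ↥ρ.range) * (ξ * b * ξ⁻¹) = a' * (ξ * b' * ξ⁻¹) := congrArg Subtype.val h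
    set d : ↥ρ.range := (a' : ↥ρ.range)⁻¹ * a
    have hd : d = ξ * ((b' : ↥ρ.range) * (b : ↥ρ.range)⁻¹) * ξ⁻¹ := by
      calc d = (a' : ↥ρ.range)⁻¹ * (a * (ξ * b * ξ⁻¹)) * (ξ * b * ξ⁻¹)⁻¹ := by simp only [d]; group
        _ = _ := by rw [h1]; group
    have hdτ : Commute d τ :=
      Commute.mul_left (Commute.inv_left (mem_centralizer_singleton_iff.1 a'.2.2))
        (mem_centralizer_singleton_iff.1 a.2.2)
    have hdτ' : Commute d (ξ * τ * ξ⁻¹) := by
      rw [hd]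
      exact (Commute.mul_left (mem_centralizer_singleton_iff.1 b'.2.2)
        (Commute.inv_left (mem_centralizer_singleton_iff.1 b.2.2))).map (MulAut.conj ξ).toMonoidHom
    have hd1 : d = 1 := by
      refine hMξ d (mul_mem (inv_mem a'.2.1) a.2.1) ?_
      rw [← hcen]
      intro c hc
      obtain ⟨j, rfl⟩ := mem_zpowers_iff.1 hc
      refine (Commute.zpow_left (Commute.symm ?_) j).eq
      rcases hτξ with e | e
      · have h9 := hdτ.mul_right hdτ'
        rwa [e] at h9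
      · have h9 := hdτ.mul_right hdτ'
        rw [e] at h9
        have h10 := h9.mul_right h9
        have h11 : ξ * ξ * (ξ * ξ) = ξ := by
          have h8 := pow_orderOf_eq_one ξ
          rw [hξ3, pow_succ, pow_two] at h8
          rw [← mul_assoc, h8, one_mul]
        rwa [h11] at h10
    have ha : a = a' := Subtype.ext (inv_mul_eq_one.1 hd1).symm
    subst ha
    refine Prod.ext rfl (Subtype.ext ?_)
    rw [hd1, eq_comm, conj_eq_one_iff, mul_inv_eq_one] at hd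
    exact hd.symm
  -- the arithmetic
  obtain ⟨l, hl⟩ := two_group_card (A.hQ.to_le ((inf_le_left : Z0 ≤ E).trans hEQ))
  have hk2 : k % 2 = 1 := by
    rcases Nat.mod_two_eq_zero_or_one k with h | h
    · exfalso
      obtain ⟨m, rfl⟩ : ∃ m, k = 2 * m := ⟨k / 2, by omega⟩
      rw [hk, pow_mul, Nat.pow_mod] at hE3
      simp at hE3
    · exact h
  have hkl : k + 1 ≤ 2 * l := by
    rw [hk, hl, ← pow_add] at hEZ
    have := (Nat.pow_le_pow_iff_right (le_refl 2)).1 hEZ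
    omega
  have hE2 : 2 * Nat.card E ≤ Nat.card Z0 * Nat.card Z0 := by
    rw [hk, hl, ← pow_add, ← pow_succ']
    exact Nat.pow_le_pow_right (by norm_num) (by omega)
  have hZ4 : 4 ≤ Nat.card Z0 := by
    by_contra hlt
    have : Nat.card Z0 * Nat.card Z0 ≤ 3 * 3 := Nat.mul_le_mul (by omega) (by omega)
    omega
  have h9 : (Nat.card Z0 - 1) * (Nat.card Z0 - 1) + 1 ≤ Nat.card E := by
    have := Nat.mul_le_mul (show Nat.card Z0 - 1 ≤ Nat.card C1 by omega) (show Nat.card Z0 - 1 ≤ Nat.card C1 by omega)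
    omega
  obtain ⟨j, hj⟩ : ∃ j, Nat.card Z0 = j + 4 := ⟨Nat.card Z0 - 4, by omega⟩
  rw [hj] at hE2 h9
  rw [show j + 4 - 1 = j + 3 by omega] at h9
  nlinarith

end CaseA

end Hyp

end Cfsg.Agent.SelfSix
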