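import Cfsg.Agent.Lib.SelfSix.CaseASixBase
import Cfsg.Agent.Lib.SEAbelian.ReduceRankTwo
import Cfsg.Agent.Lib.GW.KleinPSL
import Cfsg.Agent.Lib.GW.OvergroupsAut

/-!
# The quotient `S₃` with radical `⟨z⟩`: `L₂(11)` and `L₂(13)`
-/

set_option autoImplicit false
set_option linter.style.haveILetI false
set_option linter.unusedSectionVars false

namespace Cfsg.Agent.SelfSix

open Subgroup

variable {G : Type*} [Group G] [Finite G]

namespace Hyp

variable {H : Hyp G}

namespace CaseA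

theorem four (A : H.CaseA) (hr : Nat.card A.f.range = 6) (hQ : Nat.card A.Q = 2) :
    ∃ (F : Type) (_ : Field F) (_ : Fintype F), (Fintype.card F = 11 ∨ Fintype.card F = 13) ∧
      Nonempty (G ≃* Matrix.ProjectiveSpecialLinearGroup (Fin 2) F) := by
  haveI := H.simple
  haveI : Fact (Nat.Prime 2) := ⟨Nat.prime_two⟩
  obtain ⟨T, hTz, hTc⟩ := H.exists_sylow
  have hT : H.Central T := ⟨hTz, hTc⟩
  have h4 : Nat.card T = 4 := by rw [← A.card_T hr hT, hQ]
  obtain ⟨s, hs, hs2, hsz⟩ := H.exists_involution hT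
  have hel : ∀ g ∈ (T : Subgroup G), g * g = 1 := by
    intro g hg
    by_contra hne
    have hd : orderOf g ∣ 2 ^ 2 := (Subgroup.orderOf_dvd_natCard _ hg).trans h4.dvd
    obtain ⟨j, hj, hgj⟩ := (Nat.dvd_prime_pow Nat.prime_two).1 hd
    have hj2 : j = 2 := by
      by_contra hj'
      refine hne ?_
      rw [← pow_two]
      exact orderOf_dvd_iff_pow_eq_one.1 (hgj ▸ (pow_dvd_pow 2 (show j ≤ 1 by omega)).trans (pow_one 2).dvd)
    have heq : zpowers g = (T : Subgroup G) := eq_of_le_of_card_ge (zpowers_le.2 hg) (by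
      rw [Nat.card_zpowers, hgj, hj2, h4]; norm_num)
    have hinv : ∀ a ∈ (T : Subgroup G), orderOf a = 2 → a = g ^ 2 := by
      intro a ha ha2
      rw [← heq, mem_zpowers_iff] at ha
      obtain ⟨k, rfl⟩ := ha
      have h4g : g ^ (4 : ℤ) = 1 := orderOf_dvd_iff_zpow_eq_one.1 (by rw [hgj, hj2]; norm_num)
      rw [← Int.emod_add_mul_ediv k 4, zpow_add, zpow_mul, h4g, one_zpow, mul_one] at ha2 ⊢
      rcases (show k % 4 = 0 ∨ k % 4 = 1 ∨ k % 4 = 2 ∨ k % 4 = 3 by omega) with e | e | e | e <;> rw [e] at ha2 ⊢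
      · simp at ha2
      · rw [zpow_one, hgj, hj2] at ha2; norm_num at ha2
      · exact zpow_ofNat g 2
      · exfalso
        have h3 : (g ^ (3 : ℤ)) * g ^ (3 : ℤ) = 1 := (two_sq ha2).1
        rw [← zpow_add, show ((3 : ℤ) + 3) = 4 * 1 + 2 by norm_num, zpow_add, zpow_mul, h4g, one_zpow, one_mul,
          zpow_two] at h3
        exact hne h3
    exact hsz ((hinv s hs hs2).trans (hinv H.z hT.1 H.z_inv).symm)
  haveI : Nontrivial ↥(T : Subgroup G) := Finite.one_lt_card_iff_nontrivial.1 (by omega)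
  haveI : IsKleinFour ↥(T : Subgroup G) := ⟨h4, Monoid.exponent_eq_prime_iff Nat.prime_two |>.2
    fun a ha => orderOf_eq_prime (by rw [pow_two]; exact Subtype.ext (hel a a.2)) ha⟩
  obtain ⟨e⟩ : Nonempty (↥(T : Subgroup G) ≃* DihedralGroup 2) := IsKleinFour.nonempty_mulEquiv
  rcases GW.simpleGW G T 2 le_rfl ⟨e⟩ with ⟨F, iF, jF, hodd, ⟨φ⟩⟩ | ⟨⟨φ⟩⟩
  swap
  · exfalso
    refine EqSubConj.not_eight T h4 ?_
    rw [Nat.card_congr φ.toEquiv, nat_card_alternatingGroup]
    simp [Nat.factorial]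
  refine ⟨F, iF, jF, ?_, ⟨φ⟩⟩
  obtain ⟨δ, hδ, hc, h4δ, hodd'⟩ := GW.KleinPSL.centralizers hodd (t := φ H.z) (φ.orderOf_eq H.z ▸ H.z_inv)
  have hx1 : φ H.x ≠ 1 := fun h => (three_facts H.x_three).2.2.1 ((map_eq_one_iff _ φ.injective).1 h)
  have hxo : Odd (orderOf (φ H.x)) := by rw [φ.orderOf_eq, H.x_three]; decide
  have h2 : (2 : F) ≠ 0 := GL2.Counts.two_ne_zero_of_odd hodd
  have hiff : ∀ g : G, φ g ∈ centralizer ({φ H.x} : Set _) ↔ g * H.x = H.x * g := fun g => by
    rw [mem_centralizer_singleton_iff, ← map_mul, ← map_mul, φ.injective.eq_iff]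
  have hsix : centralizer ({H.x} : Set G) = zpowers (H.z * H.x) := by
    refine le_antisymm (fun g hg => ?_) (zpowers_le.2 (mem_centralizer_singleton_iff.2 ?_))
    · have hg' : g * H.x = H.x * g := mem_centralizer_singleton_iff.1 hg
      refine H.six g ?_ hg'
      have h := GW.OvergroupsPSL.comm_of_common h2 (t := φ g) (b := φ H.z) (y := φ H.x)
        (show φ H.x * φ g = φ g * φ H.x by rw [← map_mul, ← map_mul, hg'])
        (show φ H.x * φ H.z = φ H.z * φ H.x by rw [← map_mul, ← map_mul, H.zx]) hxo hx1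
      have h' : φ g * φ H.z = φ H.z * φ g := h
      rwa [← map_mul, ← map_mul, φ.injective.eq_iff] at h'
    · rw [mul_assoc, ← mul_assoc H.x, ← H.zx, mul_assoc]
  have hord : orderOf (H.z * H.x) = 6 := by
    rw [(show Commute H.z H.x from H.zx).orderOf_mul_eq_mul_orderOf_of_coprime (by rw [H.z_inv, H.x_three]; norm_num),
      H.z_inv, H.x_three]
  have hcard : Nat.card (centralizer ({φ H.x} : Set (Matrix.ProjectiveSpecialLinearGroup (Fin 2) F))) = 6 := by
    rw [← hord, ← Nat.card_zpowers, ← hsix]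
    exact (Nat.card_congr (φ.toEquiv.subtypeEquiv fun g => by
      rw [mem_centralizer_singleton_iff]; exact (hiff g).symm)).symm
  have h := hodd' (φ H.x) hx1 hxo (by rw [hcard]; decide)
  rw [hcard] at h
  rcases hδ with rfl | rfl
  · exact Or.inr (by push_cast at h; omega)
  · exact Or.inl (by push_cast at h; omega)

end CaseA

end Hyp

end Cfsg.Agent.SelfSix
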