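import Cfsg.Agent.Lib.SelfSix.CaseABase
import Cfsg.Agent.Lib.SelfSix.Absorb
import Cfsg.Agent.Lib.SelfSix.Sections
import Cfsg.Agent.S3331

/-!
# The quotient of order three: the Sylow subgroup is elementary abelian and normal in the centralizer
-/

set_option autoImplicit false
set_option linter.style.haveILetI false
set_option linter.unusedSectionVars false

namespace Cfsg.Agent.SelfSix

open Subgroup
open scoped IsMulCommutative

variable {G : Type*} [Group G] [Finite G]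

namespace Hyp

variable {H : Hyp G}

namespace CaseA

variable (A : H.CaseA)

/-- A fixed-point-free element of order three cannot normalise the fixed points of `u` in `Q`. -/
theorem pump_false {M : Subgroup G} {u y : G} (huQ : u ∈ A.Q) (hu2 : u * u = 1) (hu1 : u ≠ 1) (huz : u ≠ H.z)
    (hact : ∀ g ∈ A.Q, g * u * g⁻¹ = u ∨ g * u * g⁻¹ = H.z * u)
    (hM : ∀ g : G, g ∈ M ↔ g ∈ A.Q ∧ g * u = u * g) (hcard : 2 * Nat.card M = Nat.card A.Q) (hy : orderOf y = 3)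
    (hyn : ∀ p ∈ M, y * p * y⁻¹ ∈ M) (hyz : y * H.z * y⁻¹ = u) : False := by
  have hMQ : M ≤ A.Q := fun g hg => ((hM g).1 hg).1
  have hfpf : ∀ p ∈ M, y * p * y⁻¹ = p → p = 1 := by
    have h1 := fixed_mod_subgroup Nat.prime_three (n := 1) (y := y) (by simpa using (three_facts hy).1) hyn
    have h2 : Nat.card ↥(M ⊓ centralizer ({y} : Set G)) ≤ 2 :=
      H.card_two hy (A.hQ.to_le (inf_le_left.trans hMQ)) fun d hd => mem_centralizer_singleton_iff.1 hd.2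
    have h3 := A.card_Q_mod
    have h4 : Nat.card M % 3 = Nat.card ↥(M ⊓ centralizer ({y} : Set G)) % 3 := h1
    have h5 : M ⊓ centralizer ({y} : Set G) = ⊥ := eq_bot_of_card_le _ (by omega)
    intro p hp hpy
    have : p ∈ M ⊓ centralizer ({y} : Set G) := ⟨hp, mem_centralizer_singleton_iff.2 (eq_conj_iff.1 hpy).symm⟩
    rwa [h5, mem_bot] at this
  refine H.pump A.hQ A.QC A.zQ (fun q hq => A.Qn _ H.x_mem q hq) (fun q hq => A.fixed_Q hq) hM hcard huQ huz hu1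
    rfl (A.twist_comm huQ hu2 hact) (fun q hq => ?_) hy hyn hfpf hyz
  have hq' : H.x⁻¹ * q * H.x ∈ A.Q := by simpa using A.Qn _ (inv_mem H.x_mem) q hq
  rw [show q * (H.x * u * H.x⁻¹) * q⁻¹ = H.x * ((H.x⁻¹ * q * H.x) * u * (H.x⁻¹ * q * H.x)⁻¹) * H.x⁻¹ by group]
  rcases hact _ hq' with e | e <;> rw [e]
  · exact Or.inl rfl
  · exact Or.inr (by rw [conj_mul', H.x_conj_z])

variable (hr : Nat.card A.f.range = 3) {T : Sylow 2 G} (hT : H.Central T)
include hr hT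

theorem eq_sylow : A.Q = (T : Subgroup G) :=
  eq_of_le_of_card_ge (A.Q_le hT) ((A.card_sylow hT).1 hr).le

theorem T_conj {g t : G} (hg : g ∈ H.C) (ht : t ∈ (T : Subgroup G)) : g * t * g⁻¹ ∈ (T : Subgroup G) := by
  have h : t ∈ (T : Subgroup G) := ht
  rw [← A.eq_sylow hr hT] at h
  have h2 := A.Qn g hg t h
  rw [A.eq_sylow hr hT] at h2
  exact h2

/-- The 2-elements of the centralizer lie in `T`. -/
theorem two_mem {g : G} (hg : g ∈ H.C) {k : ℕ} (hk : g ^ 2 ^ k = 1) : g ∈ T := by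
  have h1 : A.f ⟨g, hg⟩ = 1 := by
    rw [← orderOf_eq_one_iff]
    refine Nat.eq_one_of_dvd_coprimes (Nat.Coprime.pow_left k (show Nat.Coprime 2 3 by norm_num))
      ((orderOf_map_dvd A.f _).trans (by rw [← orderOf_coe]; exact orderOf_dvd_of_pow_eq_one hk)) ?_
    exact (Subgroup.orderOf_dvd_natCard A.f.range ⟨_, rfl⟩).trans (dvd_of_eq hr)
  show g ∈ (T : Subgroup G)
  rw [← A.eq_sylow hr hT]
  exact A.mem_Q_of_two hg h1 hk

/-- `z` is not alone in the centre of the Sylow subgroup. -/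
theorem three_not_lone : ¬ H.Lone T := by
  intro hL
  have hQT := A.eq_sylow hr hT
  have hxT : ∀ g ∈ (T : Subgroup G), H.x⁻¹ * g * H.x ∈ (T : Subgroup G) := fun g hg => by
    simpa using A.T_conj hr hT (inv_mem H.x_mem) hg
  by_cases hu : ∃ u ∈ A.Y (T : Subgroup G), u * u = 1 ∧ u ≠ 1 ∧ u ≠ H.z
  · obtain ⟨u, huY, hu2, hu1, huz⟩ := hu
    have huT : u ∈ T := A.Q_le hT (A.Y_le huY)
    obtain ⟨P, y, hP, hPcard, hy, hyn, hyz, -⟩ := H.four_step hT hL huT (orderOf_eq_two hu2 hu1) huz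
      fun g hg => A.Y_act huY (Or.inl hg)
    refine A.pump_false (A.Y_le huY) hu2 hu1 huz (fun g hg => A.Y_act huY (Or.inr hg)) (fun g => ?_) ?_ hy hyn hyz
    · rw [hP, hQT]; rfl
    · rw [hPcard, ← hQT]
  · push Not at hu
    have hno : ∀ v ∈ A.Y (T : Subgroup G), v * v = 1 → v = 1 ∨ v = H.z := fun v hv h2 => by
      by_cases h1 : v = 1
      · exact Or.inl h1
      · exact Or.inr (hu v hv h2 h1)
    have habs := H.absorb T.isPGroup' le_rfl (Y := A.Y (T : Subgroup G)) (A.Y_le.trans (A.Q_le hT)) hT.le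
      (A.z_Y hT.le) (fun g hg q hq => (T : Subgroup G).mul_mem ((T : Subgroup G).mul_mem hg hq) ((T : Subgroup G).inv_mem hg))
      (fun g hg v hv => A.Y_conj hT.le hv (Or.inl hg))
      (fun d hd hd2 hdc => ⟨hQT ▸ hd, H.mem_zpowers_z.2 hd2, fun g hg => hg.elim (hdc g) fun h => hdc g (A.Q_le hT h)⟩)
      (fun v hv => A.Y_sq hv) hno (fun q hq v hv => A.Y_act hv (Or.inl hq))
      (fun v hv => A.Y_x H.x_mem hxT hv) (fun v hv => A.fixed_Q_mod (A.Y_le hv))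
    obtain ⟨s, hs, hs2, hsz⟩ := H.exists_involution hT
    have h2 := two_sq hs2
    rcases habs with h | ⟨h, -⟩
    · exact hsz ((H.mem_zpowers_z.1 (h hs)).resolve_left h2.2.1)
    · exact hsz ((hno s (h hs) h2.1).resolve_left h2.2.1)

/-- The Sylow subgroup is elementary abelian. -/
theorem elementary : ∀ g ∈ T, g ∈ omegaCenter (T : Subgroup G) := by
  classical
  haveI : Fact (Nat.Prime 2) := ⟨Nat.prime_two⟩
  have hQT := A.eq_sylow hr hT
  set E := omegaCenter (T : Subgroup G) with hEdef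
  have hET : E ≤ (T : Subgroup G) := omegaCenter_le _
  have hzE : H.z ∈ E := ⟨hT.1, H.zz, fun g hg => hT.2 g hg⟩
  obtain ⟨u₀, hu₀E, hu₀1, hu₀z⟩ : ∃ u ∈ E, u ≠ 1 ∧ u ≠ H.z := by
    have h := A.three_not_lone hr hT
    unfold Hyp.Lone at h
    push Not at h
    obtain ⟨u, hu, hu2, huc, huz⟩ := h
    exact ⟨u, ⟨hu, (two_sq hu2).1, huc⟩, (two_sq hu2).2.1, huz⟩
  set N := normalizer ((T : Subgroup G) : Set G) with hN
  have hNT : ∀ n ∈ N, ∀ g ∈ (T : Subgroup G), n * g * n⁻¹ ∈ (T : Subgroup G) := fun n hn g hg =>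
    (mem_normalizer_iff.1 hn g).1 hg
  have hCN : H.C ≤ N := fun g hg => mem_normalizer_iff.2 fun t => ⟨fun ht => A.T_conj hr hT hg ht, fun ht => by
    have := A.T_conj hr hT (inv_mem hg) ht
    rwa [conj_conj', inv_mul_cancel, inv_one, mul_one, one_mul] at this⟩
  have hNE : ∀ n ∈ N, ∀ e ∈ E, n * e * n⁻¹ ∈ E := fun n hn e he => omegaCenter_conj (hNT n hn) he
  set ρ := conjAct N E hNE with hρ
  have hρ1 : ∀ {n : ↥N}, ρ n = 1 ↔ ∀ e ∈ E, (n : G) * e = e * (n : G) := fun {n} => by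
    refine ⟨fun h e he => eq_conj_iff.1 ?_, fun h => MulEquiv.ext fun e => Subtype.ext (eq_conj_iff.2 (h e e.2))⟩
    have h1 := congrArg (fun a : MulAut ↥E => ((a ⟨e, he⟩ : ↥E) : G)) h
    exact h1
  set xN : ↥N := ⟨H.x, hCN H.x_mem⟩ with hxN
  have hfixE : ∀ e ∈ E, H.x * e * H.x⁻¹ = e → e = 1 ∨ e = H.z := fun e he h =>
    A.fixed_Q (hQT ▸ hET he) h
  have hρx : ρ xN ≠ 1 := fun h =>
    (hfixE u₀ hu₀E (eq_conj_iff.2 (hρ1.1 h u₀ hu₀E))).elim hu₀1 hu₀z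
  -- the centralizer of `E` in `N`
  have hQW : ∀ (n : ↥N) (hn : (n : G) ∈ H.C), A.f ⟨n, hn⟩ = 1 → ρ n = 1 := by
    intro n hn h
    obtain ⟨q, hq, w, hw, e⟩ := (A.ker_iff hn).1 h
    refine hρ1.2 fun v hv => ?_
    have h1 : Commute q v := hv.2.2 q (A.Q_le hT hq)
    have h2 : Commute w v := A.W_comm hw (hQT ▸ hET hv)
    rw [e]
    exact (h1.mul_left h2).eq
  have hfrange : ∀ g : ↥H.C, A.f g ∈ zpowers (A.f ⟨H.x, H.x_mem⟩) := fun g => by
    have h : zpowers (A.f ⟨H.x, H.x_mem⟩) = A.f.range :=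
      eq_of_le_of_card_ge (zpowers_le.2 ⟨_, rfl⟩) (by rw [Nat.card_zpowers, A.f_three, hr])
    rw [h]
    exact ⟨g, rfl⟩
  have hstab : ∀ n : ↥N, (n : G) * H.z * (n : G)⁻¹ = H.z → ρ n ∈ zpowers (ρ xN) := by
    intro n h
    have hn : (n : G) ∈ H.C := H.mem_C.2 (eq_conj_iff.1 h)
    obtain ⟨k, hk⟩ := mem_zpowers_iff.1 (hfrange ⟨n, hn⟩)
    refine ⟨k, ?_⟩
    have h1 := hQW (xN ^ (-k) * n) (H.C.mul_mem (by simpa [hxN] using zpow_mem (inv_mem H.x_mem) k) hn) (by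
      rw [show (⟨((xN ^ (-k) * n : ↥N) : G), _⟩ : ↥H.C) = (⟨H.x, H.x_mem⟩ : ↥H.C) ^ (-k) * ⟨n, hn⟩ from
        Subtype.ext (by simp [hxN]), map_mul, map_zpow, ← hk, ← zpow_add, neg_add_cancel, zpow_zero])
    rw [map_mul, map_zpow, zpow_neg, inv_mul_eq_one] at h1
    exact h1
  set Hb := ρ.range with hHb
  set ξ : ↥Hb := ⟨ρ xN, xN, rfl⟩ with hξ
  have hξ3 : orderOf ξ = 3 := orderOf_eq_three (Subtype.ext (by
    show ρ xN ^ 3 = 1
    rw [← map_pow, show xN ^ 3 = 1 from Subtype.ext (by simpa [hxN] using (three_facts H.x_three).1), map_one]))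
    fun h => hρx (congrArg Subtype.val h)
  have hcen : centralizer ((zpowers ξ : Subgroup ↥Hb) : Set ↥Hb) = zpowers ξ := by
    refine le_antisymm (fun a ha => ?_) fun a ha b hb => ?_
    · obtain ⟨_, n, rfl⟩ := a
      have hc := congrArg Subtype.val (mem_centralizer_iff.1 ha ξ (mem_zpowers _))
      have hc' : ρ xN * ρ n = ρ n * ρ xN := hc
      have hz := congrArg (fun a : MulAut ↥E => ((a ⟨H.z, hzE⟩ : ↥E) : G)) hc'
      have hz' : H.x * ((n : G) * H.z * (n : G)⁻¹) * H.x⁻¹ = (n : G) * (H.x * H.z * H.x⁻¹) * (n : G)⁻¹ := hz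
      rw [H.x_conj_z] at hz'
      have hnz := (hfixE _ (hNE n n.2 _ hzE) hz').resolve_left fun e => H.z_ne (conj_eq_one_iff.1 e)
      obtain ⟨k, hk⟩ := mem_zpowers_iff.1 (hstab n hnz)
      exact ⟨k, Subtype.ext (by simpa [hξ] using hk)⟩
    · obtain ⟨k, rfl⟩ := mem_zpowers_iff.1 ha
      obtain ⟨m, rfl⟩ := mem_zpowers_iff.1 hb
      exact ((Commute.refl _).zpow_zpow m k).eq
  have htwoN : ∀ (n : ↥N) (k : ℕ), n ^ 2 ^ k = 1 → (n : G) ∈ (T : Subgroup G) := by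
    intro n k hk
    have hp : IsPGroup 2 (zpowers (n : G)) := by
      obtain ⟨j, -, hj⟩ := (Nat.dvd_prime_pow Nat.prime_two).1
        (orderOf_dvd_of_pow_eq_one (show (n : G) ^ 2 ^ k = 1 by simpa using congrArg Subtype.val hk))
      exact IsPGroup.of_card (n := j) (by rw [Nat.card_zpowers, hj])
    exact ((hp.inf_normalizer_sylow T).le ⟨mem_zpowers _, n.2⟩).2
  have hodd : Odd (Nat.card ↥Hb) := odd_range ρ fun n k hk =>
    hρ1.2 fun e he => (he.2.2 _ (htwoN n k hk)).eq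
  obtain ⟨M, hMn, hM3, hMidx⟩ : ∃ M : Subgroup ↥Hb, M.Normal ∧ ¬ 3 ∣ Nat.card M ∧ M.index = 3 := by
    rcases S3331.result (zpowers ξ) (by rw [Nat.card_zpowers, hξ3]) hcen with
      ⟨M, hMn, -, hcop, hq⟩ | ⟨M, hMn, -, -, ⟨e⟩⟩ | ⟨⟨e⟩⟩
    · refine ⟨M, hMn, (Nat.Prime.coprime_iff_not_dvd Nat.prime_three).1 hcop.symm, ?_⟩
      rcases hq with h | ⟨⟨e⟩⟩
      · exact (index_eq_card M).trans h
      · exfalso
        have h : M.index ∣ Nat.card ↥Hb := index_dvd_card M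
        rw [index_eq_card, Nat.card_congr e.toEquiv, Nat.card_eq_fintype_card, Fintype.card_perm,
          Fintype.card_fin] at h
        exact (Nat.not_even_iff_odd.2 (hodd.of_dvd_nat h)) (by decide)
    · exfalso
      have h : M.index ∣ Nat.card ↥Hb := index_dvd_card M
      rw [index_eq_card, Nat.card_congr e.toEquiv, Nat.card_eq_fintype_card] at h
      exact (Nat.not_even_iff_odd.2 (hodd.of_dvd_nat h)) (by decide +kernel)
    · exact absurd (Nat.card_congr e.toEquiv ▸ even_psl_seven) (Nat.not_even_iff_odd.2 hodd)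
  haveI := hMn
  have hMξ : ∀ a ∈ M, a ∈ zpowers ξ → a = 1 := by
    intro a ha hax
    rw [← orderOf_eq_one_iff]
    refine Nat.eq_one_of_dvd_coprimes ((Nat.Prime.coprime_iff_not_dvd Nat.prime_three).2 hM3).symm
      (Subgroup.orderOf_dvd_natCard _ ha) ?_
    rw [← hξ3]
    exact orderOf_dvd_of_mem_zpowers hax
  set ρ' := ρ.rangeRestrict with hρ'
  have hρ'x : ρ' xN = ξ := rfl
  have htrans : ∀ e ∈ E, e ≠ 1 → ∃ g : ↥N, (g : G) * H.z * (g : G)⁻¹ = e := by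
    intro e he he1
    obtain ⟨n, -, hn, hnz⟩ := exists_odd_conj T hT.2 (fun t ht => he.2.2 t ht)
      (H.one H.z e H.z_inv (orderOf_eq_two he.2.1 he1))
    exact ⟨⟨n, hn⟩, hnz⟩
  -- `M` fixes no involution of `E`
  have hsemi : ∀ n : ↥N, ρ' n ∈ M → ∀ e ∈ E, e ≠ 1 → (n : G) * e * (n : G)⁻¹ = e → ρ' n = 1 := by
    intro n hn e he he1 hfix
    obtain ⟨g, hg⟩ := htrans e he he1
    have h1 : ((g⁻¹ * n * g : ↥N) : G) * H.z * ((g⁻¹ * n * g : ↥N) : G)⁻¹ = H.z := by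
      simp only [coe_mul, coe_inv]
      calc _ = (g : G)⁻¹ * ((n : G) * ((g : G) * H.z * (g : G)⁻¹) * (n : G)⁻¹) * (g : G) := by group
        _ = H.z := by rw [hg, hfix, ← hg]; group
    have h2 : ρ' (g⁻¹ * n * g) ∈ M := by
      rw [map_mul, map_mul, map_inv]
      have := hMn.conj_mem _ hn (ρ' g)⁻¹
      rwa [inv_inv] at this
    obtain ⟨k, hk⟩ := mem_zpowers_iff.1 (hstab _ h1)
    have h3 := hMξ _ h2 ⟨k, Subtype.ext (by simpa [hξ, hρ'] using hk)⟩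
    rw [map_mul, map_mul, map_inv] at h3
    have h4 : ρ' n = ρ' g * ((ρ' g)⁻¹ * ρ' n * ρ' g) * (ρ' g)⁻¹ := by group
    rw [h4, h3]; group
  -- the outer coset consists of conjugates of `x`
  have hsur : ∀ a ∈ M, ∃ m ∈ M, m * ξ * m⁻¹ * ξ⁻¹ = a := by
    have hmem : ∀ m : ↥M, (m : ↥Hb) * ξ * (m : ↥Hb)⁻¹ * ξ⁻¹ ∈ M := fun m => by
      rw [show (m : ↥Hb) * ξ * (m : ↥Hb)⁻¹ * ξ⁻¹ = m * (ξ * (m : ↥Hb)⁻¹ * ξ⁻¹) by group]
      exact mul_mem m.2 (hMn.conj_mem _ (inv_mem m.2) ξ)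
    intro a ha
    obtain ⟨m, hm⟩ := Finite.surjective_of_injective (f := fun m : ↥M => (⟨_, hmem m⟩ : ↥M)) (fun m m' h => by
      have h1 : (m : ↥Hb) * ξ * (m : ↥Hb)⁻¹ = m' * ξ * (m' : ↥Hb)⁻¹ := mul_right_cancel (congrArg Subtype.val h)
      refine Subtype.ext (inv_mul_eq_one.1 (hMξ _ (mul_mem (inv_mem m'.2) m.2) ?_)).symm
      rw [← hcen]
      intro b hb
      obtain ⟨k, rfl⟩ := mem_zpowers_iff.1 hb
      refine ((show Commute ξ ((m' : ↥Hb)⁻¹ * m) from ?_).zpow_left k).eq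
      refine (eq_conj_iff.1 ?_).symm
      rw [← conj_conj', h1]
      group) ⟨a, ha⟩
    exact ⟨m, m.2, congrArg Subtype.val hm⟩
  -- the layer over `E`
  let S : Subgroup G :=
    { carrier := {a | a ∈ (T : Subgroup G) ∧ a * a ∈ E ∧ ∀ g ∈ (T : Subgroup G), g * a * g⁻¹ * a⁻¹ ∈ E}
      one_mem' := ⟨one_mem _, by simp, fun g _ => by simp⟩
      mul_mem' := by
        rintro d e ⟨hd, hd2, hdc⟩ ⟨he, he2, hec⟩
        refine ⟨mul_mem hd he, ?_, fun g hg => ?_⟩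
        · have e1 : d * e * (d * e) = (d * (e * d * e⁻¹ * d⁻¹) * d⁻¹) * (d * d) * (e * e) := by group
          rw [e1, eq_conj_iff.2 ((hdc e he).2.2 d hd).eq]
          exact mul_mem (mul_mem (hdc e he) hd2) he2
        · have e1 : g * (d * e) * g⁻¹ * (d * e)⁻¹ = (g * d * g⁻¹ * d⁻¹) * (d * (g * e * g⁻¹ * e⁻¹) * d⁻¹) := by group
          rw [e1, eq_conj_iff.2 ((hec g hg).2.2 d hd).eq]
          exact mul_mem (hdc g hg) (hec g hg)
      inv_mem' := by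
        rintro d ⟨hd, hd2, hdc⟩
        refine ⟨inv_mem hd, by rw [← mul_inv_rev]; exact inv_mem hd2, fun g hg => ?_⟩
        rw [show g * d⁻¹ * g⁻¹ * d⁻¹⁻¹ = (d⁻¹ * (g * d * g⁻¹ * d⁻¹) * d⁻¹⁻¹)⁻¹ by group,
          eq_conj_iff.2 ((hdc g hg).2.2 d⁻¹ ((T : Subgroup G).inv_mem hd)).eq]
        exact inv_mem (hdc g hg) }
  have hES : E ≤ S := fun e he => ⟨hET he, by rw [he.2.1]; exact one_mem _, fun g hg => by
    rw [eq_conj_iff.2 (he.2.2 g hg).eq, mul_inv_cancel]; exact one_mem _⟩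
  have hNS : ∀ n ∈ N, ∀ a ∈ S, n * a * n⁻¹ ∈ S := by
    rintro n hn a ⟨ha, ha2, hac⟩
    refine ⟨hNT n hn a ha, by rw [← conj_mul']; exact hNE n hn _ ha2, fun g hg => ?_⟩
    have hg' : n⁻¹ * g * n ∈ (T : Subgroup G) := by simpa using hNT _ (inv_mem hn) g hg
    rw [show g * (n * a * n⁻¹) * g⁻¹ * (n * a * n⁻¹)⁻¹ =
      n * ((n⁻¹ * g * n) * a * (n⁻¹ * g * n)⁻¹ * a⁻¹) * n⁻¹ by group]
    exact hNE n hn _ (hac _ hg')
  haveI : (E.subgroupOf S).Normal := ⟨fun e he g => by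
    show ((g : G) * e * (g : G)⁻¹) ∈ E
    rw [show (g : G) * (e : G) * (g : G)⁻¹ = e from eq_conj_iff.2 (he.2.2 g g.2.1).eq]
    exact he⟩
  haveI : IsMulCommutative (↥S ⧸ E.subgroupOf S) := ⟨⟨fun p q => by
    obtain ⟨a, rfl⟩ := QuotientGroup.mk_surjective p
    obtain ⟨b, rfl⟩ := QuotientGroup.mk_surjective q
    refine QuotientGroup.eq.2 ?_
    show ((a : G) * b)⁻¹ * ((b : G) * a) ∈ E
    rw [show ((a : G) * b)⁻¹ * ((b : G) * a) = (b : G)⁻¹ * (a : G)⁻¹ * (b : G)⁻¹⁻¹ * (a : G)⁻¹⁻¹ by group]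
    exact (inv_mem a.2).2.2 _ ((T : Subgroup G).inv_mem b.2.1)⟩⟩
  set φ := secAct N S E hNS hNE with hφ
  have hφker : ∀ n : ↥N, ρ n = 1 → φ n = 1 := by
    intro n hn
    have hnz : (n : G) * H.z = H.z * (n : G) := hρ1.1 hn _ hzE
    have hnC : (n : G) ∈ H.C := H.mem_C.2 hnz
    have hf : A.f ⟨n, hnC⟩ = 1 := by
      obtain ⟨k, hk⟩ := mem_zpowers_iff.1 (hfrange ⟨n, hnC⟩)
      by_contra hne
      have h3 : A.f ⟨H.x, H.x_mem⟩ ^ (3 : ℤ) = 1 :=
        orderOf_dvd_iff_zpow_eq_one.1 (by rw [A.f_three]; norm_num)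
      obtain ⟨m, hm⟩ : ∃ m : ℤ, A.f ⟨H.x, H.x_mem⟩ = A.f ⟨n, hnC⟩ ^ m := by
        refine ⟨k, ?_⟩
        rw [← hk, ← zpow_mul]
        rcases (show k % 3 = 0 ∨ k % 3 = 1 ∨ k % 3 = 2 by omega) with e | e | e
        · exact absurd (by rw [← hk, ← Int.emod_add_mul_ediv k 3, e, zero_add, zpow_mul, h3, one_zpow]) hne
        all_goals
          obtain ⟨j, hj⟩ : ∃ j, k * k = 1 + 3 * j := ⟨(k * k) / 3, by
            have : k * k % 3 = 1 := by rw [Int.mul_emod, e]; rfl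
            omega⟩
          rw [hj, zpow_add, zpow_mul, h3, one_zpow, mul_one, zpow_one]
      refine hρx ?_
      have h1 := hQW (n ^ (-m) * xN) (H.C.mul_mem (by simpa using zpow_mem (inv_mem hnC) m) H.x_mem) (by
        rw [show (⟨((n ^ (-m) * xN : ↥N) : G), _⟩ : ↥H.C) = (⟨n, hnC⟩ : ↥H.C) ^ (-m) * ⟨H.x, H.x_mem⟩ from
          Subtype.ext (by simp [hxN]), map_mul, map_zpow, hm, ← zpow_add, neg_add_cancel, zpow_zero])
      rwa [map_mul, map_zpow, hn, one_zpow, one_mul] at h1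
    obtain ⟨q, hq, w, hw, e⟩ := (A.ker_iff hnC).1 hf
    refine MulEquiv.ext fun v => ?_
    obtain ⟨s, rfl⟩ := QuotientGroup.mk_surjective v
    refine (secAct_mk _ _ n s).trans (QuotientGroup.eq.2 ?_)
    show ((n : G) * s * (n : G)⁻¹)⁻¹ * s ∈ E
    have hws : Commute w (s : G) := A.W_comm hw (hQT ▸ s.2.1)
    have e1 : (n : G) * s * (n : G)⁻¹ = q * s * q⁻¹ := by rw [e, ← conj_conj', eq_conj_iff.2 hws.eq]
    rw [e1, show (q * (s : G) * q⁻¹)⁻¹ * s = q * (s : G)⁻¹ * q⁻¹ * (s : G)⁻¹⁻¹ by group]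
    exact (inv_mem s.2).2.2 q (A.Q_le hT hq)
  have hφeq : ∀ n n' : ↥N, ρ n = ρ n' → φ n = φ n' := fun n n' h => by
    have h1 := hφker (n⁻¹ * n') (by rw [map_mul, map_inv, h, inv_mul_cancel])
    rwa [map_mul, map_inv, inv_mul_eq_one] at h1
  -- `M` acts trivially on the layer
  set σ := φ xN with hσ
  set M' := M.comap ρ' with hM'
  set K := (φ.comp M'.subtype).range with hK
  have hKodd : Odd (Nat.card ↥K) := odd_range _ fun n k hk => by
    refine hφker (n : ↥N) (hρ1.2 fun e he => (he.2.2 _ (htwoN (n : ↥N) k (by simpa using congrArg Subtype.val hk))).eq)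
  haveI : Finite ↥K := Finite.of_surjective _ (φ.comp M'.subtype).rangeRestrict_surjective
  haveI : Fintype ↥K := Fintype.ofFinite _
  have hfixV : ∀ (g : ↥N), ρ g ≠ 1 → (∃ m : ↥N, g = m * xN * m⁻¹) → ∀ v, φ g v = v → v = 1 := by
    rintro g - ⟨m, rfl⟩ v hv
    obtain ⟨s, rfl⟩ := QuotientGroup.mk_surjective v
    rw [secAct_mk] at hv
    have hv' := QuotientGroup.eq.1 hv.symm
    simp only [mem_subgroupOf, coe_mul, coe_inv] at hv'
    set g' := (m : G) * H.x * (m : G)⁻¹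
    have hg' : g' ^ 3 ^ 1 = 1 := by rw [pow_one, conj_pow, (three_facts H.x_three).1]; simp
    obtain ⟨d, hd, hfix⟩ := exists_fixed_coset Nat.prime_three (by norm_num) hg'
      (T.isPGroup'.to_le hET) (fun d hd => hNE _ (m * xN * m⁻¹).2 d hd) (a := (s : G)) hv'
    set r := (m : G)⁻¹ * ((s : G) * d) * m with hrdef
    have hrT : r ∈ (T : Subgroup G) := by
      simpa [hrdef] using hNT _ (inv_mem m.2) _ ((T : Subgroup G).mul_mem s.2.1 (hET hd))
    have hrx : H.x * r * H.x⁻¹ = r := by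
      calc H.x * r * H.x⁻¹ = (m : G)⁻¹ * (g' * ((s : G) * d) * g'⁻¹) * m := by simp only [hrdef, g']; group
        _ = r := by rw [hfix]
    have hrE : r ∈ E := by
      rcases A.fixed_Q (hQT ▸ hrT) hrx with e | e <;> rw [e]
      exacts [one_mem _, hzE]
    have hsd : (s : G) * d ∈ E := by
      have := hNE _ m.2 _ hrE
      rwa [show (m : G) * r * (m : G)⁻¹ = s * d by rw [hrdef]; group] at this
    exact (QuotientGroup.eq_one_iff _).2 ((E.mul_mem_cancel_right hd).1 hsd)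
  have hV2 : ∀ v : ↥S ⧸ E.subgroupOf S, v * v = 1 := fun v => by
    obtain ⟨s, rfl⟩ := QuotientGroup.mk_surjective v
    exact (QuotientGroup.eq_one_iff _).2 s.2.2.1
  have htriv : ∀ (k : ↥K) (v : ↥S ⧸ E.subgroupOf S), (k : MulAut (↥S ⧸ E.subgroupOf S)) v = v := by
    refine fun k v => kernel_trivial K.subtype σ hV2 (by rwa [← Nat.card_eq_fintype_card]) (fun k => ?_) (fun k v => ?_) k v
    · obtain ⟨_, n, rfl⟩ := k
      refine ⟨⟨_, ⟨xN * n * xN⁻¹, ?_⟩, rfl⟩, fun w => ?_⟩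
      · show ρ' (xN * n * xN⁻¹) ∈ M
        rw [map_mul, map_mul, map_inv]
        exact hMn.conj_mem _ n.2 _
      · show φ (n : ↥N) (σ⁻¹ w) = σ⁻¹ (φ (xN * n * xN⁻¹) w)
        rw [map_mul, map_mul, map_inv, ← hσ]
        simp [MulAut.mul_apply]
    · obtain ⟨_, n, rfl⟩ := k
      obtain ⟨m, hm, hmn⟩ := hsur (ρ' n) n.2
      obtain ⟨m', rfl⟩ := ρ.rangeRestrict_surjective m
      set g := m' * xN * m'⁻¹ with hg
      have hge : ρ' ((n : ↥N) * xN) = ρ' g := by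
        rw [hg, map_mul, map_mul, map_mul, map_inv, hρ'x, ← hmn, inv_mul_cancel_right]
      have hφg : φ (n : ↥N) * σ = φ g := by
        rw [← map_mul]
        exact hφeq _ _ (congrArg Subtype.val hge)
      have hg3 : g ^ 3 = 1 := by
        rw [hg, conj_pow, show xN ^ 3 = 1 from Subtype.ext (by simpa [hxN] using (three_facts H.x_three).1)]
        simp
      have hg1 : ρ g ≠ 1 := fun h => hρx (by
        rw [hg, map_mul, map_mul, map_inv] at h
        exact conj_eq_one_iff.1 h)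
      show v * φ (n : ↥N) (σ v) * σ⁻¹ ((φ (n : ↥N))⁻¹ v) = 1
      rw [← MulAut.mul_apply, hφg, ← MulAut.mul_apply, ← mul_inv_rev, hφg]
      have h3 : φ g * φ g * φ g = 1 := by rw [← map_mul, ← map_mul, ← pow_two, ← pow_succ, hg3, map_one]
      have h3' : (φ g)⁻¹ = φ g * φ g := (eq_inv_of_mul_eq_one_left h3).symm
      rw [h3']
      refine hfixV g hg1 ⟨m', hg⟩ _ ?_
      rw [map_mul, map_mul, MulAut.mul_apply,
        show φ g (φ g (φ g v)) = v from (congrArg (fun a : MulAut _ => a v) h3)]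
      rw [mul_comm (φ g v * φ g (φ g v)) v, mul_assoc]
  -- the layer is `E`
  have hSE : S ≤ E := by
    by_contra hcon
    obtain ⟨a, haS, haE⟩ := SetLike.not_le_iff_exists.1 hcon
    obtain ⟨p, hp, hdvd⟩ : ∃ p, p.Prime ∧ p ∣ Nat.card M := by
      refine Nat.exists_prime_and_dvd fun h1 => ?_
      obtain ⟨g, hg⟩ := htrans u₀ hu₀E hu₀1
      have h2 := card_mul_index M
      rw [h1, hMidx, one_mul] at h2
      have h3 : zpowers ξ = ⊤ := eq_top_of_card_eq _ (by rw [Nat.card_zpowers, hξ3, h2])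
      obtain ⟨k, hk⟩ := mem_zpowers_iff.1 (show ρ' g ∈ zpowers ξ from h3 ▸ mem_top _)
      have h4 : ρ (xN ^ k) = ρ g := by
        rw [map_zpow]
        simpa [hξ, hρ'] using congrArg Subtype.val hk
      have h5 := congrArg (fun a : MulAut ↥E => ((a ⟨H.z, hzE⟩ : ↥E) : G)) h4
      have h6 : H.x ^ k * H.z * (H.x ^ k)⁻¹ = (g : G) * H.z * (g : G)⁻¹ := h5
      rw [hg, H.conj_z (zpow_mem H.x_mem k)] at h6
      exact hu₀z h6.symm
    haveI := Fact.mk hp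
    have hp2 : p ≠ 2 := fun e => Nat.not_even_iff_odd.2 hodd
      (even_iff_two_dvd.2 ((e ▸ hdvd).trans (card_subgroup_dvd_card M)))
    have hp3 : p ≠ 3 := fun e => hM3 (e ▸ hdvd)
    obtain ⟨m₀, hm₀⟩ := exists_prime_orderOf_dvd_card' (G := ↥M) p hdvd
    obtain ⟨h, ⟨k, hk⟩, hh1, hhm⟩ := exists_prime_pow_lift ρ' hp (y := (m₀ : ↥Hb))
      ⟨_, Classical.choose_spec (ρ.rangeRestrict_surjective (m₀ : ↥Hb))⟩ ((orderOf_coe _).trans hm₀)
    have hhM : ρ' h ∈ M := (zpowers_le.2 m₀.2) hhm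
    have hfix : φ h (QuotientGroup.mk ⟨a, haS⟩) = QuotientGroup.mk ⟨a, haS⟩ :=
      htriv ⟨φ h, ⟨h, hhM⟩, rfl⟩ _
    rw [secAct_mk] at hfix
    have hfix' := QuotientGroup.eq.1 hfix.symm
    simp only [mem_subgroupOf, coe_mul, coe_inv] at hfix'
    have hkG : (h : G) ^ p ^ k = 1 := by simpa using congrArg Subtype.val hk
    obtain ⟨d, hd, hfd⟩ := exists_fixed_coset hp hp2 hkG (T.isPGroup'.to_le hET) (fun d hd => hNE _ h.2 d hd)
      (a := a) hfix'
    set b := a * d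
    have hbS : b ∈ S := S.mul_mem haS (hES hd)
    have hbE : b ∉ E := fun h' => haE ((E.mul_mem_cancel_right hd).1 h')
    have hb2 : b * b = 1 := by
      by_contra hne
      exact hh1 (hsemi h hhM _ hbS.2.1 hne (by rw [conj_mul', hfd]))
    obtain ⟨g0, hg0⟩ := H.to_z (orderOf_eq_two hb2 fun e => hbE (e ▸ one_mem E))
    have hh'C : g0 * h * g0⁻¹ ∈ H.C := H.mem_C.2 (eq_conj_iff.1 (by
      rw [← hg0, show g0 * (h : G) * g0⁻¹ * (g0 * b * g0⁻¹) * (g0 * (h : G) * g0⁻¹)⁻¹ =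
        g0 * ((h : G) * b * (h : G)⁻¹) * g0⁻¹ by group, hfd]))
    have hh'W : g0 * h * g0⁻¹ ∈ A.W := A.mem_W_of_prime_pow hh'C hp hp2 hp3
      (k := k) (by rw [conj_pow, hkG]; simp)
    refine hh1 (Subtype.ext (hρ1.2 fun e he => ?_))
    have he' : g0 * e * g0⁻¹ ∈ A.Q := by
      rw [A.eq_sylow hr hT]
      refine A.two_mem hr hT (k := 1) (H.mem_C.2 ?_) (by rw [pow_one, pow_two, ← conj_mul', he.2.1]; simp)
      rw [← hg0, ← conj_mul', ← conj_mul', (he.2.2 b hbS.1).eq]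
    have h1 := (A.W_comm hh'W he').map (MulAut.conj g0⁻¹).toMonoidHom
    simp only [MulEquiv.coe_toMonoidHom, MulAut.conj_apply, inv_inv] at h1
    simpa [mul_assoc] using h1.eq
  intro g hg
  by_contra hgE
  obtain ⟨d, hd, hdE, hd2, hdc⟩ := exists_layer T.isPGroup' hET le_rfl
    (fun t ht e he => by rw [eq_conj_iff.2 (he.2.2 t ht).eq]; exact he)
    (fun t ht e he => (T : Subgroup G).mul_mem ((T : Subgroup G).mul_mem ht he) ((T : Subgroup G).inv_mem ht))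
    (fun h => hgE (h hg))
  exact hdE (hSE ⟨hd, hd2, hdc⟩)

end CaseA

end Hyp

end Cfsg.Agent.SelfSix
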