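import Cfsg.Agent.Lib.SelfSix.CaseASixCentre
import Cfsg.Agent.Lib.SelfSix.CaseAThree

/-!
# The quotient `S₃`: an involution moved only modulo `z`

Then `W = 1` and the centralizers of `z` and the normalizer of the four group are two maximal
2-constrained subgroups with quotient `S₃` sharing the Sylow subgroup.
-/

set_option autoImplicit false
set_option linter.style.haveILetI false
set_option linter.unusedSectionVars false

namespace Cfsg.Agent.SelfSix

open Subgroup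

/-- A 2-group kernel of a map onto `S₃` is the 2-core. -/
theorem pCore_eq_ker {K : Type*} [Group K] [Finite K] (f : K →* Equiv.Perm (Fin 3)) (hf : Function.Surjective f)
    (hk : IsPGroup 2 f.ker) :
    Cfsg.pCore 2 K = f.ker ∧ Nonempty (K ⧸ Cfsg.pCore 2 K ≃* Equiv.Perm (Fin 3)) := by
  haveI : Fact (Nat.Prime 2) := ⟨Nat.prime_two⟩
  have hp : IsPGroup 2 ↥((Cfsg.pCore 2 K).map f) := (Cores.pCore_isPGroup 2).map f
  haveI : (Cfsg.pCore 2 K).Normal := Cores.pCore_normal 2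
  haveI : ((Cfsg.pCore 2 K).map f).Normal := Subgroup.Normal.map inferInstance f hf
  have hle : Cfsg.pCore 2 K ≤ f.ker := by
    intro k hk'
    by_contra hne
    have hm : f k ∈ (Cfsg.pCore 2 K).map f := ⟨k, hk', rfl⟩
    obtain ⟨n, hn⟩ := hp ⟨f k, hm⟩
    have hn' : f k ^ 2 ^ n = 1 := by simpa using congrArg Subtype.val hn
    have h2 : f k * f k = 1 := by
      rcases Three.two_or_three (f k) with h | h
      · exact h
      · exfalso
        refine hne (orderOf_eq_one_iff.1 (Nat.eq_one_of_dvd_coprimes (Nat.Coprime.pow_left n (show Nat.Coprime 2 3 by norm_num))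
          (orderOf_dvd_of_pow_eq_one hn') (orderOf_dvd_of_pow_eq_one h) : orderOf (f k) = 1))
    set r : Equiv.Perm (Fin 3) := finRotate 3 with hr
    obtain ⟨h3, h1⟩ := Three.pair (f k) r h2 hne (by rw [hr]; decide) (by rw [hr]; decide)
    have hm' : f k * (r * f k * r⁻¹) ∈ (Cfsg.pCore 2 K).map f :=
      mul_mem hm (Subgroup.Normal.conj_mem inferInstance _ hm r)
    obtain ⟨l, hl⟩ := hp ⟨_, hm'⟩
    exact h1 (orderOf_eq_one_iff.1 (Nat.eq_one_of_dvd_coprimes (Nat.Coprime.pow_left l (show Nat.Coprime 2 3 by norm_num))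
      (orderOf_dvd_of_pow_eq_one (by simpa using congrArg Subtype.val hl)) (orderOf_dvd_of_pow_eq_one h3)))
  have heq : Cfsg.pCore 2 K = f.ker := le_antisymm hle (Cores.le_pCore hk)
  exact ⟨heq, ⟨(QuotientGroup.quotientMulEquivOfEq heq).trans (QuotientGroup.quotientKerEquivOfSurjective f hf)⟩⟩

variable {G : Type*} [Group G] [Finite G]

namespace Hyp

variable {H : Hyp G}

namespace CaseA

/-- The data of the four step at an involution of `Q` moved only modulo `z`. -/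
structure Moved (A : H.CaseA) (T : Sylow 2 G) where
  /-- the involution -/
  u : G
  /-- the element of order three -/
  y : G
  /-- the centralizer of `u` in `T` -/
  P : Subgroup G
  u_Y : u ∈ A.Y (T : Subgroup G)
  u_sq : u * u = 1
  u_one : u ≠ 1
  u_z : u ≠ H.z
  mem : ∀ g : G, g ∈ P ↔ g ∈ T ∧ g * u = u * g
  card : 2 * Nat.card P = Nat.card T
  y_three : orderOf y = 3
  y_P : ∀ p ∈ P, y * p * y⁻¹ ∈ P
  y_z : y * H.z * y⁻¹ = u
  y_u : y * u * y⁻¹ = H.z * u

variable (A : H.CaseA) (hr : Nat.card A.f.range = 6) {T : Sylow 2 G} (hT : H.Central T)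
include hr hT

/-- `z` is the only central involution of `T`. -/
theorem six_lone (h2 : 2 < Nat.card A.Q) : H.Lone T := fun v hv hv2 hc =>
  have hvQ : v ∈ A.Q := A.central_mem hr hT h2 hv hc
  (A.centre hr hT h2 ⟨hvQ, (two_sq hv2).1, fun g hg => hc g (A.Q_le hT hg)⟩).resolve_left (two_sq hv2).2.1

theorem exists_moved (h2 : 2 < Nat.card A.Q)
    (hu : ∃ u ∈ A.Y (T : Subgroup G), u * u = 1 ∧ u ≠ 1 ∧ u ≠ H.z) : Nonempty (A.Moved T) := by
  obtain ⟨u, huY, hu2, hu1, huz⟩ := hu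
  obtain ⟨P, y, hP, hPcard, hy, hyn, hyz, hyu⟩ := H.four_step hT (A.six_lone hr hT h2) (A.Q_le hT (A.Y_le huY))
    (orderOf_eq_two hu2 hu1) huz fun g hg => A.Y_act huY (Or.inl hg)
  exact ⟨⟨u, y, P, huY, hu2, hu1, huz, hP, hPcard, hy, hyn, hyz, hyu⟩⟩

namespace Moved

variable {A} (D : A.Moved T)
include D

theorem u_Q : D.u ∈ A.Q := A.Y_le D.u_Y

theorem P_le : D.P ≤ (T : Subgroup G) := fun g hg => ((D.mem g).1 hg).1

theorem card_P : Nat.card D.P = Nat.card A.Q := by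
  have h1 := D.card
  have h2 := A.card_T hr hT
  omega

theorem z_P : H.z ∈ D.P := (D.mem _).2 ⟨hT.1, (H.mem_C.1 (A.QC (A.Y_le D.u_Y))).symm⟩

theorem u_P : D.u ∈ D.P := (D.mem _).2 ⟨A.Q_le hT (A.Y_le D.u_Y), rfl⟩

/-- The common part of `P` and `Q`. -/
def M0 : Subgroup G := D.P ⊓ A.Q

theorem mem_M0 {g : G} : g ∈ D.M0 ↔ g ∈ A.Q ∧ g * D.u = D.u * g :=
  ⟨fun h => ⟨h.2, ((D.mem g).1 h.1).2⟩, fun h => ⟨(D.mem g).2 ⟨A.Q_le hT h.1, h.2⟩, h.1⟩⟩

theorem M0_le : D.M0 ≤ A.Q := inf_le_right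

theorem card_M0 (h2 : 2 < Nat.card A.Q) : 2 * Nat.card D.M0 = Nat.card A.Q := by
  obtain ⟨q, hq, hqu⟩ : ∃ q ∈ A.Q, q * D.u * q⁻¹ = H.z * D.u := by
    by_contra hne
    push Not at hne
    refine (A.centre hr hT h2 ⟨A.Y_le D.u_Y, D.u_sq, fun g hg => ?_⟩).elim D.u_one D.u_z
    exact eq_conj_iff.1 ((A.Y_act D.u_Y (Or.inr hg)).resolve_right (hne g hg))
  refine card_two_cosets inf_le_right hq (fun h => ?_) fun g hg => ?_
  · have h1 := ((D.mem q).1 h.1).2
    rw [eq_conj_iff.2 h1] at hqu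
    exact H.z_ne (mul_eq_right.1 hqu.symm)
  · rcases A.Y_act D.u_Y (Or.inr hg) with h | h
    · exact Or.inl ((D.mem_M0 hr hT).2 ⟨hg, eq_conj_iff.1 h⟩)
    · refine Or.inr ((D.mem_M0 hr hT).2 ⟨mul_mem (inv_mem hq) hg, eq_conj_iff.1 ?_⟩)
      rw [← conj_conj', h, ← hqu]
      group

/-- The element of order three pushes part of `M0` out of `Q`. -/
theorem exists_push (h2 : 2 < Nat.card A.Q) : ∃ p ∈ D.M0, D.y * p * D.y⁻¹ ∉ A.Q := by
  by_contra hne
  push Not at hne
  exact A.pump_false (A.Y_le D.u_Y) D.u_sq D.u_one D.u_z (fun g hg => A.Y_act D.u_Y (Or.inr hg))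
    (fun g => D.mem_M0 hr hT) (D.card_M0 hr hT h2) D.y_three (fun p hp => ⟨D.y_P p hp.1, hne p hp⟩) D.y_z

/-- The odd part of the radical is trivial. -/
theorem W_trivial (h2 : 2 < Nat.card A.Q) : ∀ w ∈ A.W, w = 1 := by
  have hy3 := three_facts D.y_three
  -- `y` normalises `W`
  have hyW : ∀ w ∈ A.W, D.y * w * D.y⁻¹ ∈ A.W := by
    intro w hw
    have hwu : Commute w D.u := A.W_comm hw (A.Y_le D.u_Y)
    have hwz : Commute w H.z := H.mem_C.1 (A.WC hw)
    have hyzu : D.y * (H.z * D.u) * D.y⁻¹ = H.z := by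
      have e : D.u * (H.z * D.u) = H.z := by
        rw [← mul_assoc, H.mem_C.1 (A.QC (A.Y_le D.u_Y)), mul_assoc, D.u_sq, mul_one]
      rw [conj_mul', D.y_z, D.y_u, e]
    have hC : D.y * w * D.y⁻¹ ∈ H.C := by
      refine H.mem_C.2 ?_
      have h := (hwz.mul_right hwu).map (MulAut.conj D.y).toMonoidHom
      simp only [MulEquiv.coe_toMonoidHom, MulAut.conj_apply] at h
      rw [hyzu] at h
      exact h.eq
    have hodd : Odd (orderOf (D.y * w * D.y⁻¹)) := (orderOf_conj' D.y w).symm ▸ A.W_orderOf hw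
    refine A.mem_W_of_odd hC ?_ hodd
    rw [← orderOf_eq_one_iff]
    have hd1 : orderOf (A.f ⟨_, hC⟩) ∣ orderOf w :=
      (orderOf_map_dvd A.f _).trans (by rw [← orderOf_coe]; exact (orderOf_conj' D.y w).dvd)
    have hd2 : orderOf (A.f ⟨_, hC⟩) ∣ 6 := (_root_.orderOf_dvd_natCard _).trans (dvd_of_eq Three.card)
    refine Nat.eq_one_of_dvd_coprimes ?_ hd1 hd2
    show Nat.Coprime (orderOf w) (2 * 3)
    refine Nat.Coprime.mul_right ?_ ?_
    · exact Nat.coprime_two_right.2 (A.W_orderOf hw)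
    · refine Nat.Coprime.coprime_dvd_left (Subgroup.orderOf_dvd_natCard _ hw) ?_
      exact ((Nat.Prime.coprime_iff_not_dvd Nat.prime_three).2 A.W_three).symm
  obtain ⟨p, hp, hpQ⟩ := D.exists_push hr hT h2
  set g := D.y * p * D.y⁻¹ with hg
  have hgT : g ∈ (T : Subgroup G) := ((D.mem g).1 (D.y_P p hp.1)).1
  have hgW : ∀ w ∈ A.W, Commute g w := by
    intro w hw
    have h1 := hyW _ (hyW w hw)
    rw [conj_conj'] at h1
    have h3 : Commute p ((D.y * D.y) * w * (D.y * D.y)⁻¹) := (A.W_comm h1 hp.2).symm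
    have h4 := h3.map (MulAut.conj D.y).toMonoidHom
    simp only [MulEquiv.coe_toMonoidHom, MulAut.conj_apply] at h4
    rwa [conj_conj', ← mul_assoc, hy3.2.1, inv_one, one_mul, mul_one, ← hg] at h4
  have hxW : ∀ w ∈ A.W, Commute (g * (H.x * g * H.x⁻¹)) w := by
    intro w hw
    refine (hgW w hw).mul_left ?_
    have h1 : H.x⁻¹ * w * H.x⁻¹⁻¹ ∈ A.W := A.Wn _ (inv_mem H.x_mem) w hw
    have h2' := (hgW _ h1).map (MulAut.conj H.x).toMonoidHom
    simp only [MulEquiv.coe_toMonoidHom, MulAut.conj_apply] at h2'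
    rwa [show H.x * (H.x⁻¹ * w * H.x⁻¹⁻¹) * H.x⁻¹ = w by group] at h2'
  obtain ⟨k, hk⟩ := exists_three_pow (A.three_dvd hr hT hgT hpQ)
  intro w hw
  have hkC : (g * (H.x * g * H.x⁻¹)) ^ k ∈ H.C :=
    pow_mem (mul_mem (hT.le hgT) (H.C.mul_mem (H.C.mul_mem H.x_mem (hT.le hgT)) (inv_mem H.x_mem))) k
  obtain ⟨c, hc, hcx⟩ := H.three_conj hkC hk
  have h := ((hxW w hw).pow_left k).map (MulAut.conj c).toMonoidHom
  simp only [MulEquiv.coe_toMonoidHom, MulAut.conj_apply] at h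
  have hfix : H.x * (c * w * c⁻¹) * H.x⁻¹ = c * w * c⁻¹ := by
    refine eq_conj_iff.2 ?_
    rcases hcx with e | e <;> rw [e] at h
    · exact h.eq
    · exact (Commute.inv_left_iff.1 h).eq
  exact conj_eq_one_iff.1 (A.fixed_W (A.Wn c hc w hw) hfix)

theorem mem_Q_of_ker (h2 : 2 < Nat.card A.Q) {g : G} (hg : g ∈ H.C) (h : A.f ⟨g, hg⟩ = 1) : g ∈ A.Q := by
  obtain ⟨q, hq, w, hw, rfl⟩ := (A.ker_iff hg).1 h
  rw [D.W_trivial hr hT h2 w hw, mul_one]
  exact hq

theorem f_ker (h2 : 2 < Nat.card A.Q) : A.f.ker = A.Q.subgroupOf H.C := by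
  ext g
  refine ⟨fun h => D.mem_Q_of_ker hr hT h2 g.2 h, fun h => (A.ker g).2 ⟨g, h, 1, one_mem _, (mul_one _).symm⟩⟩

theorem card_C (h2 : 2 < Nat.card A.Q) : Nat.card H.C = 3 * Nat.card T := by
  have h := card_mul_index A.f.ker
  rw [index_ker, hr, D.f_ker hr hT h2, Nat.card_congr (subgroupOfEquivOfLe A.QC).toEquiv] at h
  have := A.card_T hr hT
  omega

theorem two_group_of_cent (h2 : 2 < Nat.card A.Q) {g : G} (hg : g ∈ H.C) (hgu : g * D.u = D.u * g) :
    ∃ k : ℕ, g ^ 2 ^ k = 1 := by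
  obtain ⟨n, hn⟩ := two_group_card T.isPGroup'
  have hd : orderOf g ∣ 2 ^ n * 3 := by
    refine (Subgroup.orderOf_dvd_natCard _ hg).trans ?_
    rw [D.card_C hr hT h2, hn, mul_comm]
  by_cases h3 : 3 ∣ orderOf g
  · exfalso
    have hD : IsPGroup 2 ↥(closure ({H.z, D.u} : Set G)) :=
      A.hQ.to_le ((closure_le _).2 (by rintro a (rfl | rfl); exacts [A.zQ, A.Y_le D.u_Y]))
    have hle := H.card_two_of_dvd h3 hD fun d hd' => by
      refine (mem_centralizer_singleton_iff.1 ((closure_le _).2 ?_ hd' : d ∈ centralizer ({g} : Set G)))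
      rintro a (rfl | rfl)
      · exact mem_centralizer_singleton_iff.2 (H.mem_C.1 hg).symm
      · exact mem_centralizer_singleton_iff.2 hgu.symm
    have hsub : ({1, H.z, D.u} : Set G) ⊆ (closure ({H.z, D.u} : Set G) : Subgroup G) := by
      rintro a (rfl | rfl | rfl)
      exacts [one_mem _, subset_closure (Or.inl rfl), subset_closure (Or.inr rfl)]
    have h := Set.ncard_le_ncard hsub (Set.toFinite _)
    rw [Set.ncard_eq_three.2 ⟨1, H.z, D.u, H.z_ne.symm, D.u_one.symm, D.u_z.symm, rfl⟩,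
      ← Nat.card_coe_set_eq] at h
    exact absurd (h.trans hle) (by norm_num)
  · exact ⟨n, orderOf_dvd_iff_pow_eq_one.1
      ((((Nat.Prime.coprime_iff_not_dvd Nat.prime_three).2 h3).symm).dvd_of_dvd_mul_right hd)⟩

/-- The centralizer of both involutions is `P`. -/
theorem cent_mem (h2 : 2 < Nat.card A.Q) {g : G} (hg : g ∈ H.C) (hgu : g * D.u = D.u * g) : g ∈ D.P := by
  haveI : Fact (Nat.Prime 2) := ⟨Nat.prime_two⟩
  set K := H.C ⊓ centralizer ({D.u} : Set G) with hK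
  have hKp : IsPGroup 2 K := by
    rintro ⟨a, ha⟩
    obtain ⟨k, hk⟩ := D.two_group_of_cent hr hT h2 ha.1 (mem_centralizer_singleton_iff.1 ha.2)
    exact ⟨k, Subtype.ext (by simpa using hk)⟩
  obtain ⟨c, hc, hcT⟩ := hT.exists_conj hKp inf_le_left
  have hPK : D.P ≤ K := fun p hp =>
    ⟨hT.le ((D.mem p).1 hp).1, mem_centralizer_singleton_iff.2 ((D.mem p).1 hp).2⟩
  by_contra hgP
  have hgK : g ∈ K := ⟨hg, mem_centralizer_singleton_iff.2 hgu⟩
  have hlt : Nat.card D.P < Nat.card K := by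
    by_contra hlt
    exact hgP (eq_of_le_of_card_ge hPK (not_lt.1 hlt) ▸ hgK)
  obtain ⟨a, ha⟩ := two_group_card hKp
  obtain ⟨b, hb⟩ := two_group_card (T.isPGroup'.to_le (D.P_le hr hT))
  have hKT : Nat.card T ≤ Nat.card K := by
    rw [hb, ha] at hlt
    rw [← D.card, hb, ha, ← pow_succ']
    exact Nat.pow_le_pow_right (by norm_num) ((Nat.pow_lt_pow_iff_right (by norm_num)).1 hlt)
  have hmap : K.map (MulAut.conj c).toMonoidHom = (T : Subgroup G) := by
    refine eq_of_le_of_card_ge ?_ ?_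
    · rintro _ ⟨k, hk, rfl⟩
      exact hcT k hk
    · rwa [card_map_of_injective (MulAut.conj c).injective]
  have huK : D.u ∈ K := hPK (D.u_P hr hT)
  have h := A.six_lone hr hT h2 (c * D.u * c⁻¹) (hcT _ huK)
    ((orderOf_conj' c D.u).trans (orderOf_eq_two D.u_sq D.u_one)) fun t ht => by
      obtain ⟨k, hk, rfl⟩ := hmap.ge ht
      exact ((show Commute k D.u from mem_centralizer_singleton_iff.1 hk.2).map (MulAut.conj c).toMonoidHom).eq
  exact D.u_z ((MulAut.conj c).injective (h.trans (H.conj_z hc).symm))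

/-- The three involutions of the four group. -/
def four : Set G := {H.z, D.u, H.z * D.u}

/-- The normalizer of the four group. -/
def M2 : Subgroup G := normalizer D.four

theorem card_four : Nat.card ↥D.four = 3 := by
  rw [Nat.card_coe_set_eq, four]
  exact Set.ncard_eq_three.2 ⟨_, _, _, D.u_z.symm, fun h => D.u_one (mul_eq_left.1 h.symm),
    fun h => H.z_ne (mul_eq_right.1 h.symm), rfl⟩

theorem mem_M2_of {g : G} (hg : ∀ a ∈ D.four, g * a * g⁻¹ ∈ D.four) : g ∈ D.M2 := by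
  intro a
  refine ⟨hg a, fun h => ?_⟩
  obtain ⟨⟨b, hb⟩, e⟩ := Finite.surjective_of_injective (f := fun v : ↥D.four => (⟨_, hg v v.2⟩ : ↥D.four))
    (fun v w h => Subtype.ext ((MulAut.conj g).injective (congrArg Subtype.val h))) ⟨_, h⟩
  exact (MulAut.conj g).injective (congrArg Subtype.val e) ▸ hb

theorem y_M2 : D.y ∈ D.M2 := by
  have e : D.y * (H.z * D.u) * D.y⁻¹ = H.z := by
    rw [conj_mul', D.y_z, D.y_u, ← mul_assoc, H.mem_C.1 (A.QC (A.Y_le D.u_Y)), mul_assoc, D.u_sq, mul_one]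
  refine D.mem_M2_of hr hT fun a ha => ?_
  rcases ha with rfl | rfl | rfl
  · rw [D.y_z]; exact Or.inr (Or.inl rfl)
  · rw [D.y_u]; exact Or.inr (Or.inr rfl)
  · rw [e]; exact Or.inl rfl

theorem T_M2 : (T : Subgroup G) ≤ D.M2 := by
  intro g hg
  have hz : g * H.z * g⁻¹ = H.z := H.conj_z (hT.le hg)
  refine D.mem_M2_of hr hT fun a ha => ?_
  rcases A.Y_act D.u_Y (Or.inl hg) with e | e
  · rcases ha with rfl | rfl | rfl
    · rw [hz]; exact Or.inl rfl
    · rw [e]; exact Or.inr (Or.inl rfl)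
    · rw [conj_mul', hz, e]; exact Or.inr (Or.inr rfl)
  · rcases ha with rfl | rfl | rfl
    · rw [hz]; exact Or.inl rfl
    · rw [e]; exact Or.inr (Or.inr rfl)
    · rw [conj_mul', hz, e, ← mul_assoc, H.zz, one_mul]; exact Or.inr (Or.inl rfl)

/-- The action of the normalizer on the four group. -/
noncomputable def perm : ↥D.M2 →* Equiv.Perm ↥D.four where
  toFun n := Equiv.ofBijective (fun a => ⟨n * a * (n : G)⁻¹, (n.2 (a : G)).1 a.2⟩)
    (Finite.injective_iff_bijective.1 fun a b h =>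
      Subtype.ext ((MulAut.conj (n : G)).injective (congrArg Subtype.val h)))
  map_one' := Equiv.ext fun a => Subtype.ext (show (1 : G) * a * 1⁻¹ = a by simp)
  map_mul' n m := Equiv.ext fun a => Subtype.ext
    (show (n : G) * m * a * ((n : G) * m)⁻¹ = n * (m * a * (m : G)⁻¹) * (n : G)⁻¹ by group)

theorem perm_eq_one (h2 : 2 < Nat.card A.Q) {n : ↥D.M2} (h : D.perm n = 1) : (n : G) ∈ D.P := by
  have hz := congrArg Subtype.val (congrArg (fun σ : Equiv.Perm ↥D.four => σ ⟨H.z, Or.inl rfl⟩) h)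
  have hu := congrArg Subtype.val (congrArg (fun σ : Equiv.Perm ↥D.four => σ ⟨D.u, Or.inr (Or.inl rfl)⟩) h)
  exact D.cent_mem hr hT h2 (H.mem_C.2 (eq_conj_iff.1 hz)) (eq_conj_iff.1 hu)

theorem perm_P {n : ↥D.M2} (hn : (n : G) ∈ D.P) : D.perm n = 1 := by
  obtain ⟨hnT, hnu⟩ := (D.mem _).1 hn
  have hz : (n : G) * H.z = H.z * n := hT.2 _ hnT
  refine Equiv.ext fun a => Subtype.ext ?_
  refine eq_conj_iff.2 ?_
  rcases a.2 with e | e | e <;> rw [e]
  · exact hz
  · exact hnu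
  · exact ((show Commute (n : G) H.z from hz).mul_right hnu).eq

/-- The quotient of the normalizer is `S₃`. -/
theorem exists_quot (h2 : 2 < Nat.card A.Q) :
    ∃ f : ↥D.M2 →* Equiv.Perm (Fin 3), Function.Surjective f ∧ f.ker = D.P.subgroupOf D.M2 := by
  haveI : Fact (Nat.Prime 2) := ⟨Nat.prime_two⟩
  haveI : Fact (Nat.Prime 3) := ⟨Nat.prime_three⟩
  set e := Finite.equivFinOfCardEq (D.card_four hr hT)
  set f : ↥D.M2 →* Equiv.Perm (Fin 3) := e.permCongrHom.toMonoidHom.comp (D.perm) with hf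
  have hk : f.ker = D.P.subgroupOf D.M2 := by
    ext n
    rw [MonoidHom.mem_ker, hf, MonoidHom.comp_apply, MulEquiv.coe_toMonoidHom, map_eq_one_iff _ (MulEquiv.injective _)]
    exact ⟨D.perm_eq_one hr hT h2, D.perm_P hr hT⟩
  refine ⟨f, MonoidHom.range_eq_top.1 (eq_top_of_card_eq _ ?_), hk⟩
  have hdvd : Nat.card f.range ∣ Nat.card (Equiv.Perm (Fin 3)) := card_subgroup_dvd_card _
  have h3 : 3 ∣ Nat.card f.range := by
    have hy1 : (⟨D.y, D.y_M2 hr hT⟩ : ↥D.M2) ∉ f.ker := by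
      rw [hk]
      intro h
      exact (three_facts D.y_three).2.2.1 (by
        have hd : orderOf D.y ∣ Nat.card D.P := Subgroup.orderOf_dvd_natCard _ h
        rw [D.y_three] at hd
        exact absurd hd (not_dvd_card (T.isPGroup'.to_le (D.P_le hr hT)) Nat.prime_three (by norm_num)))
    have ho : orderOf (f ⟨D.y, D.y_M2 hr hT⟩) = 3 := orderOf_eq_three (by
      rw [← map_pow, show (⟨D.y, D.y_M2 hr hT⟩ : ↥D.M2) ^ 3 = 1 from Subtype.ext (three_facts D.y_three).1, map_one]) hy1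
    have hd := Subgroup.orderOf_dvd_natCard f.range (MonoidHom.mem_range.2 ⟨(⟨D.y, D.y_M2 hr hT⟩ : ↥D.M2), rfl⟩)
    rwa [ho] at hd
  have h2' : 2 ∣ Nat.card f.range := by
    obtain ⟨t, htT, htP⟩ : ∃ t ∈ (T : Subgroup G), t ∉ D.P := by
      by_contra hne
      push Not at hne
      have h1 := card_le_of_le (show (T : Subgroup G) ≤ D.P from hne)
      have := D.card
      have := Nat.card_pos (α := D.P)
      omega
    set tM : ↥D.M2 := ⟨t, D.T_M2 hr hT htT⟩
    have h1 : f tM ≠ 1 := fun h => htP (by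
      have : tM ∈ f.ker := h
      rwa [hk] at this)
    obtain ⟨k, hk'⟩ := T.isPGroup' ⟨t, htT⟩
    obtain ⟨j, -, hj⟩ := (Nat.dvd_prime_pow Nat.prime_two).1 ((orderOf_map_dvd f tM).trans
      (orderOf_dvd_of_pow_eq_one (Subtype.ext (by simpa using congrArg Subtype.val hk') : tM ^ 2 ^ k = 1)))
    rcases j with _ | j
    · exact absurd (orderOf_eq_one_iff.1 (hj.trans (pow_zero 2))) h1
    · exact ((dvd_pow_self 2 (Nat.succ_ne_zero j)).trans hj.symm.dvd).trans
        (Subgroup.orderOf_dvd_natCard f.range (MonoidHom.mem_range.2 ⟨tM, rfl⟩))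
  rw [Three.card] at hdvd ⊢
  exact Nat.dvd_antisymm hdvd ((show Nat.Coprime 2 3 by norm_num).mul_dvd_of_dvd_of_dvd h2' h3)

theorem card_M2 (h2 : 2 < Nat.card A.Q) : Nat.card D.M2 = 3 * Nat.card T := by
  obtain ⟨f, hf, hk⟩ := D.exists_quot hr hT h2
  have h := card_mul_index f.ker
  rw [index_ker, MonoidHom.range_eq_top.2 hf, card_top, Three.card, hk,
    Nat.card_congr (subgroupOfEquivOfLe ((D.P_le hr hT).trans (D.T_M2 hr hT))).toEquiv] at h
  have := D.card
  omega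

/-- The two subgroups meet in the Sylow subgroup. -/
theorem inf_eq (h2 : 2 < Nat.card A.Q) : H.C ⊓ D.M2 = (T : Subgroup G) := by
  refine le_antisymm ?_ (le_inf hT.le (D.T_M2 hr hT))
  obtain ⟨t, htT, htP⟩ : ∃ t ∈ (T : Subgroup G), t ∉ D.P := by
    by_contra hne
    push Not at hne
    have h1 := card_le_of_le (show (T : Subgroup G) ≤ D.P from hne)
    have := D.card
    have := Nat.card_pos (α := D.P)
    omega
  rintro g ⟨hgC, hgM⟩
  rcases (hgM D.u).1 (Or.inr (Or.inl rfl)) with e | e | e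
  · exact absurd ((MulAut.conj g).injective (e.trans (H.conj_z hgC).symm)) D.u_z
  · exact D.P_le hr hT (D.cent_mem hr hT h2 hgC (eq_conj_iff.1 e))
  · have h : t⁻¹ * g ∈ D.P := by
      refine D.cent_mem hr hT h2 (mul_mem (inv_mem (hT.le htT)) hgC) (eq_conj_iff.1 ?_)
      have ht : t * D.u * t⁻¹ = H.z * D.u :=
        (A.Y_act D.u_Y (Or.inl htT)).resolve_left fun h => htP ((D.mem t).2 ⟨htT, eq_conj_iff.1 h⟩)
      rw [← conj_conj', show g * D.u * g⁻¹ = H.z * D.u from e, ← ht]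
      group
    have := (T : Subgroup G).mul_mem htT (D.P_le hr hT h)
    rwa [mul_inv_cancel_left] at this

end Moved

end CaseA

end Hyp

end Cfsg.Agent.SelfSix
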