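import Cfsg.Agent.Lib.SelfSix.CaseASixBase

/-!
# The quotient `S₃` without a normal four-group: `Q` is quaternion, `T` semidihedral
-/

set_option autoImplicit false
set_option linter.style.haveILetI false
set_option linter.unusedSectionVars false

namespace Cfsg.Agent.SelfSix

open Subgroup

namespace Three

theorem rot_cases : ∀ r g : Equiv.Perm (Fin 3), r ^ 3 = 1 → r ≠ 1 → g ^ 3 = 1 → g = 1 ∨ g = r ∨ g = r * r := by
  decide +kernel

theorem cent_two : ∀ a g : Equiv.Perm (Fin 3), a * a = 1 → a ≠ 1 → g * a = a * g → g * g = 1 := by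
  decide +kernel

end Three

variable {G : Type*} [Group G] [Finite G]

namespace Hyp

variable {H : Hyp G}

namespace CaseA

variable (A : H.CaseA)

/-- The hypothesis: no involution of `Q` other than `z` is moved only modulo `z`. -/
def NoFour : Prop :=
  ∀ u ∈ A.Q, u * u = 1 → (∀ q ∈ A.Q, q * u * q⁻¹ = u ∨ q * u * q⁻¹ = H.z * u) → u = 1 ∨ u = H.z

variable {A}

theorem Y_inv (hfour : A.NoFour) {d : G} (hd : d ∈ A.Y ⊥) (h : d * d = 1) : d = 1 ∨ d = H.z :=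
  hfour d hd.1 h fun _ hq => A.Y_act hd (Or.inr hq)

theorem z_act {a : G} (ha : a ∈ A.Q) : a * H.z = H.z * a := H.mem_C.1 (A.QC ha)

/-- A noncommuting pair in the layer leaves only `1`, `z` commuting with it. -/
theorem Y_cent (hfour : A.NoFour) {a b : G} (ha : a ∈ A.Y ⊥) (ha2 : a * a = H.z) (hab : a * b ≠ b * a) {d : G}
    (hd : d ∈ A.Y ⊥) (hda : d * a = a * d) (hdb : d * b = b * d) : d = 1 ∨ d = H.z := by
  rcases A.Y_sq hd with h | h
  · exact Y_inv hfour hd h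
  exfalso
  have h2 : (d * a) * (d * a) = 1 := by
    rw [(show Commute a d from hda.symm).mul_mul_mul_comm, h, ha2, H.zz]
  have hca : ∀ e : G, e * b = b * e → d * a = e → False := by
    intro e he hde
    have : a = d⁻¹ * e := by rw [← hde]; group
    exact hab (this ▸ ((show Commute d b from hdb).inv_left.mul_left he).eq)
  rcases Y_inv hfour (mul_mem hd ha) h2 with e | e
  · exact hca 1 (by simp) e
  · refine hca H.z ?_ e
    have hzd : Commute (d * d) b := (show Commute d b from hdb).mul_left hdb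
    rwa [h] at hzd

theorem exists_layer_Y (_h2 : 2 < Nat.card A.Q) {D : Subgroup G} (hDQ : D ≤ A.Q) (hz : H.z ∈ D)
    (hDn : ∀ g ∈ A.Q, ∀ d ∈ D, g * d * g⁻¹ ∈ D) (hne : ¬ D ≤ zpowers H.z) :
    ∃ d ∈ D, d ∈ A.Y ⊥ ∧ d ∉ zpowers H.z := by
  obtain ⟨d, hd, hdz, hd2, hdc⟩ := exists_layer A.hQ (zpowers_le.2 hz) hDQ
    (fun g hg d hd => by rw [conj_zpowers (A.QC hg) hd]; exact hd) hDn hne
  refine ⟨d, hd, ⟨hDQ hd, hd2, fun g hg => ?_⟩, hdz⟩
  rcases hg with h | h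
  · rw [mem_bot.1 h]; simp
  · exact hdc g h

/-- An element of `C` with image of order three moves every element of `Q` outside `⟨z⟩` modulo `z`. -/
theorem three_free (hY : ∀ q ∈ A.Q, q ∈ A.Y ⊥) {c : G} (hc : c ∈ H.C) (h3 : A.f ⟨c, hc⟩ ^ 3 = 1)
    (h1 : A.f ⟨c, hc⟩ ≠ 1) {q : G} (hq : q ∈ A.Q) (h : c * q * c⁻¹ * q⁻¹ ∈ zpowers H.z) : q = 1 ∨ q = H.z := by
  rcases Three.rot_cases _ _ A.f_x_cube A.fx h3 with e | e | e
  · exact absurd e h1
  · obtain ⟨p, hp, w, hw, hpw⟩ := (A.ker_iff (mul_mem (inv_mem H.x_mem) hc)).1 (by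
      rw [show (⟨H.x⁻¹ * c, _⟩ : ↥H.C) = (⟨H.x, H.x_mem⟩ : ↥H.C)⁻¹ * ⟨c, hc⟩ from rfl, map_mul, map_inv, e]
      simp)
    have e1 : c = H.x * (p * w) := by rw [← hpw]; group
    refine A.fixed_Q_mod hq ?_
    have e2 : c * q * c⁻¹ = H.x * (p * q * p⁻¹) * H.x⁻¹ := by
      rw [e1, show H.x * (p * w) * q * (H.x * (p * w))⁻¹ = H.x * (p * (w * q * w⁻¹) * p⁻¹) * H.x⁻¹ by group,
        eq_conj_iff.2 (A.W_comm hw hq).eq]
    rcases A.Y_act (hY q hq) (Or.inr hp) with e3 | e3 <;> rw [e3] at e2 <;> rw [e2] at h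
    · exact h
    · rw [conj_mul', H.x_conj_z, mul_assoc H.z] at h
      exact (mul_mem_cancel_left (mem_zpowers _)).1 h
  · obtain ⟨p, hp, w, hw, hpw⟩ := (A.ker_iff (mul_mem H.x_mem hc)).1 (by
      rw [show (⟨H.x * c, _⟩ : ↥H.C) = (⟨H.x, H.x_mem⟩ : ↥H.C) * ⟨c, hc⟩ from rfl, map_mul, e, ← pow_two,
        ← pow_succ', A.f_x_cube])
    have e1 : c = H.x⁻¹ * (p * w) := by rw [← hpw]; group
    refine A.fixed_Q_mod hq ?_
    have e2 : c * q * c⁻¹ = H.x⁻¹ * (p * q * p⁻¹) * H.x := by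
      rw [e1, show H.x⁻¹ * (p * w) * q * (H.x⁻¹ * (p * w))⁻¹ = H.x⁻¹ * (p * (w * q * w⁻¹) * p⁻¹) * H.x by group,
        eq_conj_iff.2 (A.W_comm hw hq).eq]
    have h' : H.x⁻¹ * q * H.x * q⁻¹ ∈ zpowers H.z := by
      rcases A.Y_act (hY q hq) (Or.inr hp) with e3 | e3 <;> rw [e3] at e2 <;> rw [e2] at h
      · exact h
      · rw [show H.x⁻¹ * (H.z * q) * H.x = (H.x⁻¹ * H.z * H.x) * (H.x⁻¹ * q * H.x) by group,
          show H.x⁻¹ * H.z * H.x = H.z by rw [mul_assoc, H.zx, inv_mul_cancel_left],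
          mul_assoc H.z] at h
        exact (mul_mem_cancel_left (mem_zpowers _)).1 h
    have h'' := conj_zpowers H.x_mem h'
    rw [show H.x * (H.x⁻¹ * q * H.x * q⁻¹) * H.x⁻¹ = (H.x * q * H.x⁻¹ * q⁻¹)⁻¹ by group] at h''
    exact inv_mem_iff.1 (h''.symm ▸ h')

/-- The elements in terms of a noncommuting pair. -/
theorem pair_list (hfour : A.NoFour) (h2 : 2 < Nat.card A.Q) {a b : G} (ha : a ∈ A.Y ⊥) (hb : b ∈ A.Y ⊥)
    (ha2 : a * a = H.z) (hab : a * b ≠ b * a) {q : G} (hq : q ∈ A.Q) :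
    ∃ e ∈ ({1, a, b, a * b} : Set G), q = e ∨ q = e * H.z := by
  set D := A.Q ⊓ centralizer ({a} : Set G) ⊓ centralizer ({b} : Set G)
  have hD : D ≤ zpowers H.z := by
    by_contra hne
    have hzab : H.z ∈ D := ⟨⟨A.zQ, mem_centralizer_singleton_iff.2 (z_act ha.1).symm⟩,
      mem_centralizer_singleton_iff.2 (z_act hb.1).symm⟩
    have hfix : ∀ g ∈ A.Q, ∀ v, v ∈ A.Y ⊥ → ∀ d ∈ A.Q, d * v = v * d → g * d * g⁻¹ * v = v * (g * d * g⁻¹) := by
      intro g hg v hv d hdQ hdv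
      have h0 : Commute (g * d * g⁻¹) (g * v * g⁻¹) := (show Commute d v from hdv).map (MulAut.conj g).toMonoidHom
      rcases A.Y_act hv (Or.inr hg) with e | e <;> rw [e] at h0
      · exact h0.eq
      · have hz : Commute (g * d * g⁻¹) H.z := z_act (mul_mem (mul_mem hg hdQ) (inv_mem hg))
        have := hz.inv_right.mul_right h0
        rwa [inv_mul_cancel_left] at this
    obtain ⟨d, hd, hdY, hdz⟩ := exists_layer_Y h2 (inf_le_left.trans inf_le_left) hzab (fun g hg d hd =>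
      ⟨⟨A.Q.mul_mem (A.Q.mul_mem hg hd.1.1) (A.Q.inv_mem hg), mem_centralizer_singleton_iff.2
        (hfix g hg a ha d hd.1.1 (mem_centralizer_singleton_iff.1 hd.1.2))⟩, mem_centralizer_singleton_iff.2
        (hfix g hg b hb d hd.1.1 (mem_centralizer_singleton_iff.1 hd.2))⟩) hne
    exact hdz (H.mem_zpowers_z.2 (Y_cent hfour ha ha2 hab hdY (mem_centralizer_singleton_iff.1 hd.1.2)
      (mem_centralizer_singleton_iff.1 hd.2)))
  have hconj : ∀ u v : G, u ∈ A.Q → v ∈ A.Q → u * v ≠ v * u → v ∈ A.Y ⊥ → u * v * u⁻¹ = H.z * v :=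
    fun u v hu _ hne hvY => (A.Y_act hvY (Or.inr hu)).resolve_left fun e => hne (eq_conj_iff.1 e)
  -- a multiple of `q` commutes with both
  suffices h : ∃ e ∈ ({1, a, b, a * b} : Set G), e⁻¹ * q ∈ D by
    obtain ⟨e, he, hd⟩ := h
    refine ⟨e, he, ?_⟩
    rcases H.mem_zpowers_z.1 (hD hd) with h1 | h1
    · exact Or.inl (inv_mul_eq_one.1 h1).symm
    · exact Or.inr (inv_mul_eq_iff_eq_mul.1 h1)
  have hmem : ∀ g : G, g ∈ A.Q → g * a * g⁻¹ = a → g * b * g⁻¹ = b → g ∈ D := fun g hg h1 h2 =>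
    ⟨⟨hg, mem_centralizer_singleton_iff.2 (eq_conj_iff.1 h1)⟩, mem_centralizer_singleton_iff.2 (eq_conj_iff.1 h2)⟩
  have hinv : ∀ g v : G, g ∈ A.Q → g * v * g⁻¹ = v → g⁻¹ * v * g⁻¹⁻¹ = v := fun g v _ h => by
    conv_lhs => rw [← h]
    group
  have hflip : ∀ g v : G, g ∈ A.Q → g * v * g⁻¹ = H.z * v → g⁻¹ * v * g⁻¹⁻¹ = H.z * v := fun g v hg h => by
    have e : g * (H.z * v) * g⁻¹ = v := by rw [conj_mul', H.conj_z (A.QC hg), h, ← mul_assoc, H.zz, one_mul]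
    conv_lhs => rw [← e]
    group
  have haa : a * a * a⁻¹ = a := by group
  have hbb : b * b * b⁻¹ = b := by group
  have hab' : a * b * a⁻¹ = H.z * b := hconj a b ha.1 hb.1 hab hb
  have hba' : b * a * b⁻¹ = H.z * a := hconj b a hb.1 ha.1 (fun h => hab h.symm) ha
  have hcomp : ∀ g h v : G, (g * h) * v * (g * h)⁻¹ = g * (h * v * h⁻¹) * g⁻¹ := fun g h v => by group
  have hzz : ∀ v : G, H.z * (H.z * v) = v := fun v => by rw [← mul_assoc, H.zz, one_mul]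
  rcases A.Y_act ha (Or.inr hq) with e1 | e1 <;> rcases A.Y_act hb (Or.inr hq) with e2 | e2
  · exact ⟨1, by simp, by rw [inv_one, one_mul]; exact hmem q hq e1 e2⟩
  · refine ⟨a, by simp, hmem _ (mul_mem (inv_mem ha.1) hq) ?_ ?_⟩
    · rw [hcomp, e1, hinv a a ha.1 haa]
    · rw [hcomp, e2, conj_mul', H.conj_z (A.QC (inv_mem ha.1)), hflip a b ha.1 hab', hzz]
  · refine ⟨b, by simp, hmem _ (mul_mem (inv_mem hb.1) hq) ?_ ?_⟩
    · rw [hcomp, e1, conj_mul', H.conj_z (A.QC (inv_mem hb.1)), hflip b a hb.1 hba', hzz]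
    · rw [hcomp, e2, hinv b b hb.1 hbb]
  · have habQ : a * b ∈ A.Q := mul_mem ha.1 hb.1
    have f1 : (a * b) * a * (a * b)⁻¹ = H.z * a := by
      rw [hcomp, hba', conj_mul', H.conj_z (A.QC ha.1), haa]
    have f2 : (a * b) * b * (a * b)⁻¹ = H.z * b := by rw [hcomp, hbb, hab']
    refine ⟨a * b, by simp, hmem _ (mul_mem (inv_mem habQ) hq) ?_ ?_⟩
    · rw [hcomp, e1, conj_mul', H.conj_z (A.QC (inv_mem habQ)), hflip _ a habQ f1, hzz]
    · rw [hcomp, e2, conj_mul', H.conj_z (A.QC (inv_mem habQ)), hflip _ b habQ f2, hzz]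

variable (A)

/-- `Q` is a quaternion group of order eight: all of it is the layer. -/
theorem eight (hfour : A.NoFour) (h2 : 2 < Nat.card A.Q) :
    Nat.card A.Q = 8 ∧ ∀ q ∈ A.Q, q ∈ A.Y ⊥ := by
  have hz : H.z ∈ A.Y ⊥ := A.z_Y bot_le
  have hne : ¬ A.Q ≤ zpowers H.z := fun h => by
    have := card_le_of_le h
    rw [Nat.card_zpowers, H.z_inv] at this
    omega
  obtain ⟨a, haQ, ha, haz⟩ := exists_layer_Y h2 le_rfl A.zQ
    (fun g hg d hd => mul_mem (mul_mem hg hd) (inv_mem hg)) hne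
  set b := H.x * a * H.x⁻¹ with hb'
  have hb : b ∈ A.Y ⊥ := A.Y_x H.x_mem (fun g hg => by rw [mem_bot.1 hg]; simp) ha
  have ha2 : a * a = H.z := (A.Y_sq ha).resolve_left fun h => haz (H.mem_zpowers_z.2 (Y_inv hfour ha h))
  have hb2 : b * b = H.z := by rw [hb', ← conj_mul', ha2, H.x_conj_z]
  have hab : a * b ≠ b * a := fun h => by
    have h1 : (b * a⁻¹) * (b * a⁻¹) = 1 := by
      rw [((show Commute a b from h).inv_left).mul_mul_mul_comm, hb2, ← mul_inv_rev, ha2, mul_inv_cancel]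
    exact haz (H.mem_zpowers_z.2 (A.fixed_Q_mod haQ (H.mem_zpowers_z.2 (Y_inv hfour (mul_mem hb (inv_mem ha)) h1))))
  have hlist := fun {q : G} (hq : q ∈ A.Q) => pair_list hfour h2 ha hb ha2 hab hq
  refine ⟨?_, fun q hq => ?_⟩
  · obtain ⟨k, hk⟩ := two_group_card A.hQ
    have h8 : Nat.card A.Q ≤ 8 := by
      have hsub : (A.Q : Set G) ⊆ ({1, a, b, a * b} : Set G) ∪ (fun e => e * H.z) '' {1, a, b, a * b} := by
        intro q hq
        obtain ⟨e, he, h | h⟩ := hlist hq <;> subst h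
        exacts [Or.inl he, Or.inr ⟨e, he, rfl⟩]
      have h4 : ({1, a, b, a * b} : Set G).ncard ≤ 4 :=
        (Set.ncard_insert_le _ _).trans (Nat.succ_le_succ ((Set.ncard_insert_le _ _).trans
          (Nat.succ_le_succ ((Set.ncard_insert_le _ _).trans (by simp)))))
      have := (Set.ncard_le_ncard hsub (Set.toFinite _)).trans (Set.ncard_union_le _ _)
      have := Set.ncard_image_le (f := fun e => e * H.z) (Set.toFinite ({1, a, b, a * b} : Set G))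
      have e := Nat.card_coe_set_eq (A.Q : Set G)
      change Nat.card (A.Q : Set G) ≤ 8
      omega
    have h3 := A.card_Q_mod
    rw [hk] at h2 h8 h3 ⊢
    have : k ≤ 3 := by
      by_contra hc
      have := Nat.pow_le_pow_right (show 1 ≤ 2 by norm_num) (show 4 ≤ k by omega)
      omega
    interval_cases k <;> simp_all
  · obtain ⟨e, he, h⟩ := hlist hq
    have : e ∈ A.Y ⊥ := by
      rcases he with rfl | rfl | rfl | rfl
      exacts [one_mem _, ha, hb, mul_mem ha hb]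
    rcases h with rfl | rfl
    exacts [this, mul_mem this hz]

/-- Generators of `C` modulo `W` and of the Sylow 2-subgroup. -/
structure Quat (T : Sylow 2 G) where
  /-- the involution outside `Q` -/
  s : G
  /-- the element of order eight -/
  σ : G
  /-- the element of order three modulo `W` -/
  r : G
  hY : ∀ q ∈ A.Q, q ∈ A.Y ⊥
  card_Q : Nat.card A.Q = 8
  single : ∀ q ∈ A.Q, q * q = 1 → q = 1 ∨ q = H.z
  s_mem : s ∈ (T : Subgroup G)
  s_sq : s * s = 1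
  s_out : s ∉ A.Q
  σ_mem : σ ∈ (T : Subgroup G)
  σ_eight : orderOf σ = 8
  σ_four : σ ^ 4 = H.z
  rel : s * σ * s⁻¹ = σ ^ 3
  sq_mem : σ ^ 2 ∈ A.Q
  r_mem : r ∈ H.C
  r_cube : r ^ 3 ∈ A.W
  r_image : A.f ⟨r, r_mem⟩ ^ 3 = 1 ∧ A.f ⟨r, r_mem⟩ ≠ 1
  s_r : s * r * s⁻¹ = r⁻¹
  cycle : r * (r * σ ^ 2 * r⁻¹) * r⁻¹ = σ ^ 2 * (r * σ ^ 2 * r⁻¹)

variable (hr : Nat.card A.f.range = 6) {T : Sylow 2 G} (hT : H.Central T)
include hr hT

theorem exists_quat (hfour : A.NoFour) (h2 : 2 < Nat.card A.Q) : Nonempty (A.Quat T) := by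
  obtain ⟨h8, hY⟩ := A.eight hfour h2
  have hone : ∀ q ∈ A.Q, q * q = 1 → q = 1 ∨ q = H.z := fun q hq h => Y_inv hfour (hY q hq) h
  have hsq : ∀ q ∈ A.Q, q ∉ zpowers H.z → q * q = H.z := fun q hq hn =>
    (A.Y_sq (hY q hq)).resolve_left fun h => hn (H.mem_zpowers_z.2 (hone q hq h))
  obtain ⟨hTn, -⟩ := A.T_facts hr hT
  obtain ⟨s, hsT, hs2, hsz⟩ := H.exists_involution hT
  obtain ⟨hss, hs1, hsinv⟩ := two_sq hs2
  have hsQ : s ∉ A.Q := fun h => (hone s h hss).elim hs1 hsz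
  obtain ⟨hf1, hf2⟩ := A.outside hr hT hsT hsQ
  set sC : ↥H.C := ⟨s, hT.le hsT⟩ with hsC
  set xC : ↥H.C := ⟨H.x, H.x_mem⟩ with hxC
  set s' := H.x * s * H.x⁻¹ with hs'
  have hs'C : s' ∈ H.C := mul_mem (mul_mem H.x_mem (hT.le hsT)) (inv_mem H.x_mem)
  set c := s * s' with hc'
  have hcC : c ∈ H.C := mul_mem (hT.le hsT) hs'C
  have hfc : A.f ⟨c, hcC⟩ ^ 3 = 1 ∧ A.f ⟨c, hcC⟩ ≠ 1 := by
    rw [show (⟨c, hcC⟩ : ↥H.C) = sC * (xC * sC * xC⁻¹) from rfl, map_mul, map_mul, map_mul, map_inv]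
    exact Three.pair _ _ hf1 hf2 A.f_x_cube A.fx
  -- an element of `Q` moved by `s` modulo `z`
  obtain ⟨q, hq, hqs⟩ : ∃ q ∈ A.Q, s * q * s⁻¹ * q⁻¹ ∉ zpowers H.z := by
    by_contra hno
    push Not at hno
    have hall : ∀ q ∈ A.Q, s' * q * s'⁻¹ * q⁻¹ ∈ zpowers H.z := by
      intro q hq
      have hq' : H.x⁻¹ * q * H.x ∈ A.Q := by simpa using A.Qn _ (inv_mem H.x_mem) q hq
      have := hno _ hq'
      have h2 := conj_zpowers H.x_mem this
      rw [show H.x * (s * (H.x⁻¹ * q * H.x) * s⁻¹ * (H.x⁻¹ * q * H.x)⁻¹) * H.x⁻¹ = s' * q * s'⁻¹ * q⁻¹ by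
        rw [hs']; group] at h2
      exact h2 ▸ this
    have hprod : ∀ q ∈ A.Q, c * q * c⁻¹ * q⁻¹ ∈ zpowers H.z := by
      intro q hq
      have h1 := hno _ (A.Qn _ hs'C q hq)
      rw [show c * q * c⁻¹ * q⁻¹ = (s * (s' * q * s'⁻¹) * s⁻¹ * (s' * q * s'⁻¹)⁻¹) * (s' * q * s'⁻¹ * q⁻¹) by
        rw [hc']; group]
      exact mul_mem h1 (hall q hq)
    have hsub : (A.Q : Set G) ⊆ {1, H.z} := fun q hq => three_free hY hcC hfc.1 hfc.2 hq (hprod q hq)
    have := (Set.ncard_le_ncard hsub (Set.toFinite _)).trans (Set.ncard_insert_le _ _)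
    rw [Set.ncard_singleton, ← Nat.card_coe_set_eq] at this
    change Nat.card A.Q ≤ 1 + 1 at this
    omega
  set σ := s * q with hσ
  have hσT : σ ∈ (T : Subgroup G) := mul_mem hsT (A.Q_le hT hq)
  have hqz : q ∉ zpowers H.z := fun h => hqs (mul_mem (by rw [conj_zpowers (hT.le hsT) h]; exact h) (inv_mem h))
  have hσ2 : σ ^ 2 = (s * q * s⁻¹) * q := by rw [hσ, pow_two, hsinv]; group
  have hsqQ : σ ^ 2 ∈ A.Q := by rw [hσ2]; exact mul_mem (hTn s hsT q hq) hq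
  have hσ2z : σ ^ 2 ∉ zpowers H.z := by
    rw [hσ2]
    intro h
    refine hqs ?_
    have hqq : (q * q)⁻¹ ∈ zpowers H.z := inv_mem (by rw [hsq q hq hqz]; exact mem_zpowers _)
    have := mul_mem h hqq
    rwa [show s * q * s⁻¹ * q * (q * q)⁻¹ = s * q * s⁻¹ * q⁻¹ by group] at this
  have hσ4 : σ ^ 4 = H.z := by
    rw [show σ ^ 4 = σ ^ 2 * σ ^ 2 by rw [← pow_add]]
    exact hsq _ hsqQ hσ2z
  have hσ8 : orderOf σ = 8 := by
    refine orderOf_eq_prime_pow (p := 2) (n := 2) ?_ ?_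
    · rw [show (2 : ℕ) ^ 2 = 4 from rfl, hσ4]; exact H.z_ne
    · rw [show (2 : ℕ) ^ 3 = 4 * 2 from rfl, pow_mul, hσ4, pow_two, H.zz]
  have hrel : s * σ * s⁻¹ = σ ^ 3 := by
    have e1 : s * σ * s⁻¹ = q * s⁻¹ := by rw [hσ, ← mul_assoc, hss, one_mul]
    have e2 : σ⁻¹ = q⁻¹ * s⁻¹ := by rw [hσ, mul_inv_rev]
    rw [e1, show q * s⁻¹ = (q * q) * σ⁻¹ by rw [e2]; group, hsq q hq hqz, ← hσ4]
    group
  -- the element of order three modulo `W`
  obtain ⟨p, hp, w, hw, hpw⟩ := (A.ker_iff (pow_mem hcC 3)).1 (by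
    rw [show (⟨c ^ 3, _⟩ : ↥H.C) = (⟨c, hcC⟩ : ↥H.C) ^ 3 from rfl, map_pow, hfc.1])
  have hpz : p = 1 ∨ p = H.z := by
    refine three_free hY hcC hfc.1 hfc.2 hp ?_
    have e : c * (p * w) * c⁻¹ = p * w := by rw [← hpw]; group
    rw [conj_mul'] at e
    have hQW : ∀ g : G, g ∈ A.Q → g ∈ A.W → g = 1 := fun g hgQ hgW => by
      obtain ⟨k, hk⟩ := A.hQ ⟨g, hgQ⟩
      exact odd_orderOf_eq_one_of_two_pow (A.W_orderOf hgW) (by simpa using congrArg Subtype.val hk)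
    have hw' : c * w * c⁻¹ ∈ A.W := A.Wn c hcC w hw
    have e2 : p⁻¹ * (c * p * c⁻¹) = w * (c * w * c⁻¹)⁻¹ := by
      rw [eq_mul_inv_iff_mul_eq, mul_assoc, e]
      group
    have := hQW _ (mul_mem (inv_mem hp) (A.Qn c hcC p hp)) (e2 ▸ mul_mem hw (inv_mem hw'))
    rw [← inv_mul_eq_one.1 this]
    simp
  have hw6 : c ^ 6 ∈ A.W := by
    have hcp : Commute p w := A.comm p hp w hw
    rw [show c ^ 6 = (c ^ 3) ^ 2 by rw [← pow_mul], hpw, hcp.mul_pow, show p ^ 2 = 1 by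
      rcases hpz with rfl | rfl <;> simp [pow_two, H.zz], one_mul]
    exact pow_mem hw 2
  have hsc : s * c * s⁻¹ = c⁻¹ := by
    rw [hc', mul_inv_rev, hs', hsinv, show (H.x * s * H.x⁻¹)⁻¹ = H.x * s⁻¹ * H.x⁻¹ by group, hsinv,
      ← mul_assoc, ← mul_assoc, ← mul_assoc, hss, one_mul]
  set r := c ^ 4 with hr'
  have hrC : r ∈ H.C := pow_mem hcC 4
  have hfr : A.f ⟨r, hrC⟩ = A.f ⟨c, hcC⟩ := by
    rw [show (⟨r, hrC⟩ : ↥H.C) = ⟨c, hcC⟩ ^ 4 from rfl, map_pow, pow_succ, hfc.1, one_mul]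
  have hr3 : r ^ 3 ∈ A.W := by
    rw [hr', ← pow_mul, show 4 * 3 = 6 * 2 by norm_num, pow_mul]
    exact pow_mem hw6 2
  have hsr : s * r * s⁻¹ = r⁻¹ := by rw [hr', conj_pow', hsc, inv_pow]
  -- the cycle on the quaternion group
  set i := σ ^ 2 with hi
  set j := r * i * r⁻¹ with hj
  have hjQ : j ∈ A.Q := A.Qn r hrC i hsqQ
  have hfree : ∀ v ∈ A.Q, r * v * r⁻¹ * v⁻¹ ∈ zpowers H.z → v = 1 ∨ v = H.z := fun v hv h =>
    three_free hY hrC (by rw [hfr]; exact hfc.1) (by rw [hfr]; exact hfc.2) hv h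
  have hii : i * i = H.z := hsq i hsqQ hσ2z
  have hjj : j * j = H.z := by rw [hj, ← conj_mul', hii, H.conj_z hrC]
  have hij : i * j ≠ j * i := fun h => by
    have h1 : (j * i⁻¹) * (j * i⁻¹) = 1 := by
      rw [((show Commute i j from h).inv_left).mul_mul_mul_comm, hjj, ← mul_inv_rev, hii, mul_inv_cancel]
    exact hσ2z (H.mem_zpowers_z.2 (hfree i hsqQ (H.mem_zpowers_z.2 (hone _ (mul_mem hjQ (inv_mem hsqQ)) h1))))
  set k := r * j * r⁻¹ with hk
  have hkQ : k ∈ A.Q := A.Qn r hrC j hjQ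
  have hrrr : r * (r * (r * i * r⁻¹) * r⁻¹) * r⁻¹ = i := by
    rw [show r * (r * (r * i * r⁻¹) * r⁻¹) * r⁻¹ = r ^ 3 * i * (r ^ 3)⁻¹ by rw [pow_three]; group]
    exact eq_conj_iff.2 (A.W_comm hr3 hsqQ).eq
  have hkz : k ∉ zpowers H.z := fun h => hσ2z (by rw [← hrrr, ← hj, ← hk, conj_zpowers hrC h]; exact h)
  obtain ⟨e, he, hek⟩ := pair_list hfour h2 (hY i hsqQ) (hY j hjQ) hii hij hkQ
  simp only [Set.mem_insert_iff, Set.mem_singleton_iff] at he
  have hjz : j ∉ zpowers H.z := fun h => hkz (by rw [hk, conj_zpowers hrC h]; exact h)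
  have hk' : k = i * j ∨ k = i * j * H.z := by
    rcases he with rfl | rfl | rfl | rfl
    · refine absurd ?_ hkz
      rcases hek with h | h <;> rw [h] <;> simp
    · exfalso
      refine hσ2z (H.mem_zpowers_z.2 (hfree i hsqQ ?_))
      have hki : r * k * r⁻¹ = i := hrrr
      rcases hek with h | h <;> rw [h] at hki
      · rw [hki]; simp
      · rw [conj_mul', H.conj_z hrC] at hki
        refine H.mem_zpowers_z.2 (Or.inr ?_)
        rw [mul_inv_eq_iff_eq_mul, eq_mul_inv_of_mul_eq hki, inv_eq_of_mul_eq_one_right H.zz, z_act hsqQ]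
    · exfalso
      refine hjz (H.mem_zpowers_z.2 (hfree j hjQ ?_))
      rw [← hk]
      rcases hek with h | h <;> rw [h]
      · simp
      · rw [mul_assoc, ← z_act (inv_mem hjQ), mul_inv_cancel_left]
        exact mem_zpowers _
    · exact hek
  rcases hk' with hk' | hk'
  · exact ⟨⟨s, σ, r, hY, h8, hone, hsT, hss, hsQ, hσT, hσ8, hσ4, hrel, hsqQ, hrC, hr3,
      by rw [hfr]; exact hfc, hsr, hk'⟩⟩
  · -- the inverse rotation
    have hinv : r⁻¹ * i * r = k := by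
      conv_lhs => rw [← hrrr]
      rw [← hj, ← hk]; group
    refine ⟨⟨s, σ, r⁻¹, hY, h8, hone, hsT, hss, hsQ, hσT, hσ8, hσ4, hrel, hsqQ, inv_mem hrC,
      by rw [inv_pow]; exact inv_mem hr3, ?_, by rw [conj_inv', hsr], ?_⟩⟩
    · rw [show (⟨r⁻¹, _⟩ : ↥H.C) = (⟨r, hrC⟩ : ↥H.C)⁻¹ from rfl, map_inv, hfr, inv_pow, hfc.1, inv_one]
      exact ⟨rfl, inv_ne_one.2 hfc.2⟩
    · rw [inv_inv, ← hi, hinv, show r⁻¹ * k * r = j by rw [hk]; group, hk',
        show i * (i * j * H.z) = i * i * (j * H.z) by group, hii, z_act hjQ, ← mul_assoc, H.zz, one_mul]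

end CaseA

end Hyp

end Cfsg.Agent.SelfSix
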