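import Cfsg.Agent.Lib.SelfSix.CaseASixThirtyTwo
import Cfsg.Agent.Lib.SelfSix.Absorb
import Cfsg.Agent.Lib.SelfSix.CaseASixQuat

/-!
# The quotient `S₃`: the radical has one involution
-/

set_option autoImplicit false
set_option linter.style.haveILetI false
set_option linter.unusedSectionVars false

namespace Cfsg.Agent.SelfSix

open Subgroup

variable {G : Type*} [Group G] [Finite G]

namespace Hyp

variable {H : Hyp G}

namespace CaseA

variable (A : H.CaseA) (hr : Nat.card A.f.range = 6) {T : Sylow 2 G} (hT : H.Central T)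
include hr hT

set_option maxHeartbeats 800000 in
theorem noFour (h2 : 2 < Nat.card A.Q) : A.NoFour := by
  classical
  haveI : Fact (Nat.Prime 2) := ⟨Nat.prime_two⟩
  have hno : ∀ v ∈ A.Y (T : Subgroup G), v * v = 1 → v = 1 ∨ v = H.z := by
    intro v hv hv2
    by_contra hne
    push Not at hne
    obtain ⟨D⟩ := A.exists_moved hr hT h2 ⟨v, hv, hv2, hne.1, hne.2⟩
    exact D.false_of_moved hr hT h2
  have hx3 := three_facts H.x_three
  obtain ⟨hQn, hQm⟩ := A.T_facts hr hT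
  have hxQ : ∀ g ∈ A.Q, H.x⁻¹ * g * H.x ∈ A.Q := fun g hg => by simpa using A.Qn _ (inv_mem H.x_mem) g hg
  have hYQT : ∀ {d : G}, d ∈ A.Y (T : Subgroup G) → d ∈ A.Y A.Q := fun {d} hd =>
    ⟨A.Y_le hd, hd.2.1, fun g hg => hd.2.2 g (Or.inr (hg.elim id id))⟩
  have hxY : ∀ {d : G}, d ∈ A.Y A.Q → H.x * d * H.x⁻¹ ∈ A.Y A.Q := fun {d} hd => A.Y_x H.x_mem hxQ hd
  have hcom : ∀ {g d : G}, g ∈ A.Q → d ∈ A.Y A.Q → g * d * g⁻¹ * d⁻¹ ∈ zpowers H.z := fun hg hd =>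
    hd.2.2 _ (Or.inr hg)
  -- an element outside `Q` maps `b₁` to `b₂`
  have hswap : ∀ t ∈ (T : Subgroup G), t ∉ A.Q → ∀ d ∈ A.Y (T : Subgroup G),
      t * (H.x * d * H.x⁻¹) * t⁻¹ * ((H.x * H.x) * d * (H.x * H.x)⁻¹)⁻¹ ∈ zpowers H.z := by
    intro t ht htQ d hd
    obtain ⟨h1, h1'⟩ := A.outside hr hT ht htQ
    set tC : ↥H.C := ⟨t, hT.le ht⟩
    set xC : ↥H.C := ⟨H.x, H.x_mem⟩
    have hinv := (Three.inverts (A.f tC) (A.f xC) h1 h1' A.f_x_cube).resolve_right A.fx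
    obtain ⟨q, hq, k, hk, e⟩ := (A.ker (tC * xC * tC⁻¹ * xC)).1 (by
      rw [map_mul, map_mul, map_mul, map_inv, hinv, inv_mul_cancel])
    have hk' : t * H.x * t⁻¹ = q * k * H.x⁻¹ := eq_mul_inv_of_mul_eq (show t * H.x * t⁻¹ * H.x = q * k from e)
    set d2 := (H.x * H.x) * d * (H.x * H.x)⁻¹ with hd2
    have hd2Y : d2 ∈ A.Y A.Q := by
      rw [hd2, ← conj_conj']
      exact hxY (hxY (hYQT hd))
    have hdd : t * d * t⁻¹ * d⁻¹ ∈ zpowers H.z := hd.2.2 t (Or.inl ht)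
    have e1 : t * (H.x * d * H.x⁻¹) * t⁻¹ = q * k * ((H.x⁻¹ * (t * d * t⁻¹ * d⁻¹) * H.x⁻¹⁻¹) * (H.x⁻¹ * d * H.x⁻¹⁻¹)) * (q * k)⁻¹ := by
      rw [show t * (H.x * d * H.x⁻¹) * t⁻¹ = (t * H.x * t⁻¹) * (t * d * t⁻¹) * (t * H.x * t⁻¹)⁻¹ by group, hk']
      group
    have e2 : H.x⁻¹ * d * H.x⁻¹⁻¹ = d2 := by rw [hd2, ← hx3.2.2.2]
    have hke : k * d2 * k⁻¹ = d2 := eq_conj_iff.2 (A.W_comm hk (A.Y_le hd2Y)).eq
    rw [e1, conj_zpowers (inv_mem H.x_mem) hdd, e2, conj_mul',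
      conj_zpowers (mul_mem (A.QC hq) (A.WC hk)) hdd, ← conj_conj', hke, mul_assoc]
    exact mul_mem hdd (hcom hq hd2Y)
  -- the first layer of `T` is abelian
  obtain ⟨t, htT, htQ⟩ := A.exists_out hr hT
  have hcommT : ∀ a ∈ A.Y (T : Subgroup G), ∀ d ∈ A.Y (T : Subgroup G), a * d = d * a := by
    intro a ha d hd
    set d1 := H.x * d * H.x⁻¹ with hd1
    set d2 := (H.x * H.x) * d * (H.x * H.x)⁻¹ with hd2
    have hdY := hYQT hd
    have hd1Y : d1 ∈ A.Y A.Q := hxY hdY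
    have hd12 : H.x * d1 * H.x⁻¹ = d2 := by rw [hd1, hd2, conj_conj']
    have hd2Y : d2 ∈ A.Y A.Q := hd12 ▸ hxY hd1Y
    have hd20 : H.x * d2 * H.x⁻¹ = d := by rw [hd2, conj_conj', ← mul_assoc, hx3.2.1]; simp
    have haQ : a ∈ A.Q := A.Y_le ha
    have hfix : d * d1 * d2 = 1 ∨ d * d1 * d2 = H.z := by
      refine A.fixed_Q_mod (mul_mem (mul_mem (A.Y_le hd) (A.Y_le hd1Y)) (A.Y_le hd2Y)) ?_
      rw [conj_mul', conj_mul', ← hd1, hd12, hd20,
        show d1 * d2 * d * (d * d1 * d2)⁻¹ = (d1 * d2) * d * (d1 * d2)⁻¹ * d⁻¹ by group]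
      exact hcom (mul_mem (A.Y_le hd1Y) (A.Y_le hd2Y)) hdY
    have hcz : a * (d * d1 * d2) * a⁻¹ * (d * d1 * d2)⁻¹ = 1 := by
      rw [conj_zpowers (A.QC haQ) (H.mem_zpowers_z.2 hfix), mul_inv_cancel]
    have hsplit : a * d * a⁻¹ * d⁻¹ * ((a * d1 * a⁻¹ * d1⁻¹) * (a * d2 * a⁻¹ * d2⁻¹)) = 1 := by
      rw [show a * (d * d1 * d2) * a⁻¹ * (d * d1 * d2)⁻¹ = (a * d * a⁻¹ * d⁻¹) *
        (d * ((a * d1 * a⁻¹ * d1⁻¹) * (d1 * (a * d2 * a⁻¹ * d2⁻¹) * d1⁻¹)) * d⁻¹) by group,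
        conj_zpowers (A.QC (A.Y_le hd1Y)) (hcom haQ hd2Y),
        conj_zpowers (A.QC (A.Y_le hd)) (mul_mem (hcom haQ hd1Y) (hcom haQ hd2Y))] at hcz
      exact hcz
    have heq : a * d1 * a⁻¹ * d1⁻¹ = a * d2 * a⁻¹ * d2⁻¹ := by
      set e := t * a * t⁻¹ * a⁻¹ with he
      set e' := t * d1 * t⁻¹ * d2⁻¹ with he'
      have hez : e ∈ zpowers H.z := ha.2.2 t (Or.inl htT)
      have hez' : e' ∈ zpowers H.z := hswap t htT htQ d hd
      calc a * d1 * a⁻¹ * d1⁻¹ = t * (a * d1 * a⁻¹ * d1⁻¹) * t⁻¹ :=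
            (conj_zpowers (hT.le htT) (hcom haQ hd1Y)).symm
        _ = (e * a) * (e' * d2) * (e * a)⁻¹ * (e' * d2)⁻¹ := by rw [he, he']; group
        _ = e * (a * e' * a⁻¹) * (a * d2 * a⁻¹) * e⁻¹ * d2⁻¹ * e'⁻¹ := by group
        _ = e * e' * (a * d2 * a⁻¹ * d2⁻¹) * (d2 * e⁻¹ * d2⁻¹) * e'⁻¹ := by
          rw [conj_zpowers (A.QC haQ) hez']; group
        _ = (e * e') * (a * d2 * a⁻¹ * d2⁻¹) * (e * e')⁻¹ := by
          rw [conj_zpowers (A.QC (A.Y_le hd2Y)) (inv_mem hez), mul_assoc (e * e' * (a * d2 * a⁻¹ * d2⁻¹)) e⁻¹ e'⁻¹,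
            ← mul_inv_rev, show e' * e = e * e' from eq_conj_iff.1 (conj_zpowers (zpowers_le.2 H.z_mem hez') hez)]
        _ = a * d2 * a⁻¹ * d2⁻¹ := conj_zpowers (H.C.mul_mem (zpowers_le.2 H.z_mem hez) (zpowers_le.2 H.z_mem hez'))
          (hcom haQ hd2Y)
    refine eq_conj_iff.1 (mul_inv_eq_one.1 ?_)
    rw [heq] at hsplit
    rcases H.mem_zpowers_z.1 (hcom haQ hd2Y) with e | e <;> rw [e] at hsplit
    · simpa using hsplit
    · rw [H.zz, mul_one] at hsplit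
      exact hsplit
  have hYT4 : Nat.card (A.Y (T : Subgroup G)) ≤ 4 := by
    by_contra hlt
    obtain ⟨u, hu, hu2, hu1, huz⟩ := H.exists_inv_of_abelian (fun v hv => A.Y_sq hv) hcommT (not_le.1 hlt)
    exact (hno u hu hu2).elim hu1 huz
  -- the first layer of `Q` has order eight
  set Y1 := A.Y A.Q with hY1
  have htY : ∀ d ∈ Y1, t * d * t⁻¹ ∈ Y1 := fun d hd => A.Y_x (hT.le htT) (fun g hg => by
    simpa using hQn _ ((T : Subgroup G).inv_mem htT) g hg) hd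
  have hφ : ∀ d ∈ Y1, t * d * t⁻¹ * d⁻¹ ∈ A.Y (T : Subgroup G) := by
    intro d hd
    have hc : t * d * t⁻¹ * d⁻¹ ∈ Y1 := mul_mem (htY d hd) (inv_mem hd)
    refine ⟨A.Y_le hc, hc.2.1, fun g hg => ?_⟩
    rcases hg with hg | hg
    swap
    · exact hcom hg hc
    by_cases hgQ : g ∈ A.Q
    · exact hcom hgQ hc
    -- `g = t q`
    have hq : t⁻¹ * g ∈ A.Q := hQm _ ((T : Subgroup G).inv_mem htT) g hg (fun h => htQ (inv_mem_iff.1 h)) hgQ
    set c := t * d * t⁻¹ * d⁻¹ with hc'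
    have h1 := hcom hq hc
    have ht2 : t * t ∈ A.Q := hQm t htT t htT htQ htQ
    have htc : t * c * t⁻¹ * c⁻¹ ∈ zpowers H.z := by
      have h2 := hcom ht2 hd
      have h4 : c * c ∈ zpowers H.z := hc.2.1
      rw [show t * c * t⁻¹ * c⁻¹ = ((t * t) * d * (t * t)⁻¹ * d⁻¹) * (c * c)⁻¹ by rw [hc']; group]
      exact mul_mem h2 (inv_mem h4)
    rw [show g * c * g⁻¹ * c⁻¹ = t * ((t⁻¹ * g) * c * (t⁻¹ * g)⁻¹ * c⁻¹) * t⁻¹ * (t * c * t⁻¹ * c⁻¹) by group,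
      conj_zpowers (hT.le htT) h1]
    exact mul_mem h1 htc
  have hfib : ∀ d ∈ Y1, ∀ d' ∈ Y1, t * d * t⁻¹ * d⁻¹ = t * d' * t⁻¹ * d'⁻¹ → d'⁻¹ * d ∈ A.Y (T : Subgroup G) := by
    intro d hd d' hd' h
    have hdd : d'⁻¹ * d ∈ Y1 := mul_mem (inv_mem hd') hd
    refine ⟨A.Y_le hdd, hdd.2.1, fun g hg => ?_⟩
    rcases hg with hg | hg
    swap
    · exact hcom hg hdd
    by_cases hgQ : g ∈ A.Q
    · exact hcom hgQ hdd
    have hq : t⁻¹ * g ∈ A.Q := hQm _ ((T : Subgroup G).inv_mem htT) g hg (fun h => htQ (inv_mem_iff.1 h)) hgQ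
    have htd : t * (d'⁻¹ * d) * t⁻¹ = d'⁻¹ * d := by
      rw [show t * (d'⁻¹ * d) * t⁻¹ = (t * d' * t⁻¹)⁻¹ * (t * d * t⁻¹) by group,
        mul_inv_eq_iff_eq_mul.1 h, show t * d' * t⁻¹ * d'⁻¹ * d = (t * d' * t⁻¹) * (d'⁻¹ * d) by group]
      group
    rw [show g * (d'⁻¹ * d) * g⁻¹ * (d'⁻¹ * d)⁻¹ =
      t * ((t⁻¹ * g) * (d'⁻¹ * d) * (t⁻¹ * g)⁻¹ * (d'⁻¹ * d)⁻¹) * t⁻¹ * (t * (d'⁻¹ * d) * t⁻¹ * (d'⁻¹ * d)⁻¹) by group,
      htd, mul_inv_cancel, mul_one, conj_zpowers (hT.le htT) (hcom hq hdd)]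
    exact hcom hq hdd
  have hY16 : Nat.card Y1 ≤ 16 := by
    haveI : Nonempty ↥Y1 := ⟨1⟩
    let φ : ↥Y1 → ↥(A.Y (T : Subgroup G)) := fun d => ⟨_, hφ d d.2⟩
    have hsec : ∀ d : ↥Y1, φ (Function.invFun φ (φ d)) = φ d := fun d => Function.invFun_eq ⟨d, rfl⟩
    refine (Nat.card_le_card_of_injective (β := ↥(A.Y (T : Subgroup G)) × ↥(A.Y (T : Subgroup G)))
      (fun d => (φ d, ⟨_, hfib d d.2 _ (Function.invFun φ (φ d)).2 (congrArg Subtype.val (hsec d)).symm⟩)) ?_).trans ?_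
    · intro d d' h
      obtain ⟨h1, h1'⟩ := Prod.mk.inj h
      have h3 := congrArg Subtype.val h1'
      simp only [h1] at h3
      exact Subtype.ext (mul_left_cancel h3)
    · rw [Nat.card_prod]
      exact (Nat.mul_le_mul hYT4 hYT4).trans (by norm_num)
  have hzY1 : H.z ∈ Y1 := A.z_Y A.QC
  have hY1card : Nat.card Y1 = 2 ∨ Nat.card Y1 = 8 := by
    obtain ⟨m, hm⟩ := two_group_card (A.hQ.to_le (A.Y_le : Y1 ≤ A.Q))
    have hmod := A.card_mod (A.Y_le : Y1 ≤ A.Q) hzY1 (fun d hd => hxY hd)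
    rw [hm] at hY16 hmod ⊢
    have hm4 : m ≤ 4 := (Nat.pow_le_pow_iff_right (le_refl 2)).1 (hY16.trans (by norm_num))
    interval_cases m <;> simp_all
  -- a generator
  have hgen : ¬ Y1 ≤ zpowers H.z → ∃ a ∈ A.Y (T : Subgroup G), a ∉ zpowers H.z := by
    intro hne
    obtain ⟨a, ha, haz, ha2, hac⟩ := exists_layer T.isPGroup' (zpowers_le.2 hzY1)
      ((A.Y_le : Y1 ≤ A.Q).trans (A.Q_le hT))
      (fun g hg d hd => by rw [conj_zpowers (hT.le hg) hd]; exact hd)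
      (fun g hg d hd => A.Y_x (hT.le hg) (fun q hq => by simpa using hQn _ ((T : Subgroup G).inv_mem hg) q hq) hd) hne
    exact ⟨a, ⟨A.Y_le ha, ha2, fun g hg => hg.elim (hac g) fun h => hac g (A.Q_le hT h)⟩, haz⟩
  have hno1 : ∀ v ∈ Y1, v * v = 1 → v = 1 ∨ v = H.z := by
    intro v hv hv2
    by_contra hne
    push Not at hne
    have hvz : v ∉ zpowers H.z := fun h => (H.mem_zpowers_z.1 h).elim hne.1 hne.2
    obtain ⟨a, ha, haz⟩ := hgen fun h => hvz (h hv)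
    set v1 := H.x * v * H.x⁻¹ with hv1
    have hvQ : v ∈ A.Q := A.Y_le hv
    have hvv1 : v * v1 = v1 * v := A.twist_comm hvQ hv2 fun g hg => A.Y_act hv (Or.inr hg)
    have hv12 : v1 * v1 = 1 := by rw [hv1, ← conj_mul', hv2]; simp
    set E := closure ({H.z, v, v1} : Set G) with hE
    have hEY : E ≤ Y1 := (closure_le _).2 (by rintro c (rfl | rfl | rfl); exacts [hzY1, hv, hxY hv])
    have hEc : ∀ e ∈ E, e * e = 1 ∧ Commute e H.z ∧ Commute e v ∧ Commute e v1 := by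
      intro e he
      induction he using closure_induction with
      | mem c hc =>
        rcases hc with rfl | rfl | rfl
        · exact ⟨H.zz, Commute.refl _, (H.mem_C.1 (A.QC hvQ)).symm,
            (H.mem_C.1 (H.C.mul_mem (H.C.mul_mem H.x_mem (A.QC hvQ)) (inv_mem H.x_mem))).symm⟩
        · exact ⟨hv2, H.mem_C.1 (A.QC hvQ), Commute.refl _, hvv1⟩
        · exact ⟨hv12, H.mem_C.1 (A.QC (A.Qn _ H.x_mem v hvQ)), hvv1.symm, Commute.refl _⟩
      | one => exact ⟨one_mul 1, Commute.one_left _, Commute.one_left _, Commute.one_left _⟩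
      | mul c d hc _ ihc ihd =>
        have hdc : Commute d c := by
          refine Commute.symm ?_
          have : c ∈ centralizer ({d} : Set G) := by
            refine (closure_le _).2 ?_ hc
            rintro e (rfl | rfl | rfl)
            exacts [mem_centralizer_singleton_iff.2 ihd.2.1.eq.symm, mem_centralizer_singleton_iff.2 ihd.2.2.1.eq.symm,
              mem_centralizer_singleton_iff.2 ihd.2.2.2.eq.symm]
          exact mem_centralizer_singleton_iff.1 this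
        exact ⟨by rw [hdc.mul_mul_mul_comm, ihc.1, ihd.1, one_mul], ihc.2.1.mul_left ihd.2.1,
          ihc.2.2.1.mul_left ihd.2.2.1, ihc.2.2.2.mul_left ihd.2.2.2⟩
      | inv c _ ihc => exact ⟨by rw [← mul_inv_rev, ihc.1, inv_one], ihc.2.1.inv_left, ihc.2.2.1.inv_left,
          ihc.2.2.2.inv_left⟩
    have haE : a ∉ E := fun h => (hno a ha (hEc a h).1).elim (fun e => haz (e ▸ one_mem _)) fun e => haz (e ▸ mem_zpowers _)
    have hlt : Nat.card E < Nat.card Y1 := by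
      by_contra hge
      exact haE (eq_of_le_of_card_ge hEY (not_lt.1 hge) ▸ hYQT ha)
    obtain ⟨l, hl⟩ := two_group_card (A.hQ.to_le (hEY.trans A.Y_le))
    have hw1 : v1 ≠ 1 := fun h => hne.1 (conj_eq_one_iff.1 h)
    have hwz : v1 ≠ H.z := fun h => hne.2 ((MulAut.conj H.x).injective (h.trans H.x_conj_z.symm))
    have hwv : v1 ≠ v := fun h => (A.fixed_Q hvQ h).elim hne.1 hne.2
    have hp1 : v * v1 ≠ 1 := fun h =>
      hwv ((eq_inv_of_mul_eq_one_right h).trans (inv_eq_of_mul_eq_one_right hv2))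
    have hpz : v * v1 ≠ H.z := fun h => (A.fixed_Q_mod hvQ (H.mem_zpowers_z.2 (Or.inr (by
      rw [← hv1, inv_eq_of_mul_eq_one_right hv2, ← hvv1, h])))).elim hne.1 hne.2
    have hsub : ({1, H.z, v, v1, v * v1} : Set G) ⊆ (E : Set G) := by
      have hz := subset_closure (show H.z ∈ ({H.z, v, v1} : Set G) from Or.inl rfl)
      have hu' := subset_closure (show v ∈ ({H.z, v, v1} : Set G) from Or.inr (Or.inl rfl))
      have hw' := subset_closure (show v1 ∈ ({H.z, v, v1} : Set G) from Or.inr (Or.inr rfl))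
      rintro c (rfl | rfl | rfl | rfl | rfl)
      exacts [one_mem _, hz, hu', hw', mul_mem hu' hw']
    have h5 : ({1, H.z, v, v1, v * v1} : Set G).ncard = 5 := by
      rw [Set.ncard_insert_of_notMem (by
        simp only [Set.mem_insert_iff, Set.mem_singleton_iff]
        rintro (h | h | h | h)
        exacts [H.z_ne h.symm, hne.1 h.symm, hw1 h.symm, hp1 h.symm]) (Set.toFinite _),
        Set.ncard_insert_of_notMem (by
        simp only [Set.mem_insert_iff, Set.mem_singleton_iff]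
        rintro (h | h | h)
        exacts [hne.2 h.symm, hwz h.symm, hpz h.symm]) (Set.toFinite _),
        Set.ncard_eq_three.2 ⟨v, v1, v * v1, hwv.symm, fun h => hw1 (mul_eq_left.1 h.symm),
          fun h => hne.1 (mul_eq_right.1 h.symm), rfl⟩]
    have h := Set.ncard_le_ncard hsub (Set.toFinite _)
    rw [h5, ← Nat.card_coe_set_eq] at h
    change 5 ≤ Nat.card E at h
    rw [hl] at h hlt
    rcases hY1card with e | e <;> rw [e] at hlt
    · omega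
    · have hl3 : l < 3 := (Nat.pow_lt_pow_iff_right (by norm_num : 1 < 2)).1 (by norm_num; omega)
      interval_cases l <;> simp_all
  -- absorption
  have habs := H.absorb A.hQ le_rfl (Y := Y1) A.Y_le A.QC hzY1 (fun g hg q hq => mul_mem (mul_mem hg hq) (inv_mem hg))
    (fun g hg v hv => A.Y_conj A.QC hv (Or.inr hg))
    (fun d hd hd2 hdc => ⟨hd, H.mem_zpowers_z.2 hd2, fun g hg => hdc g (hg.elim id id)⟩)
    (fun v hv => A.Y_sq hv) hno1 (fun q hq v hv => A.Y_act hv (Or.inr hq)) (fun v hv => hxY hv)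
    (fun v hv => A.fixed_Q_mod (A.Y_le hv))
  have hQY : A.Q = Y1 := by
    rcases habs with h | ⟨h, -⟩
    · exfalso
      have := card_le_of_le h
      rw [Nat.card_zpowers, H.z_inv] at this
      omega
    · exact le_antisymm h A.Y_le
  exact fun u hu hu2 _ => hno1 u (hQY.le hu) hu2

end CaseA

end Hyp

end Cfsg.Agent.SelfSix
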