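import Cfsg.Agent.Lib.SelfSix.CaseASixQuat
import Cfsg.Agent.InvChar.GL23
import Cfsg.Agent.Lib.CycSD.Data

/-!
# The centralizer modulo `W` is `GL(2,3)`: the data of the semidihedral block computation
-/

set_option autoImplicit false
set_option linter.style.haveILetI false
set_option linter.unusedSectionVars false

namespace Cfsg.Agent.SelfSix

open Subgroup Matrix

universe u

variable {G : Type u} [Group G] [Finite G]

namespace Hyp

variable {H : Hyp G}

namespace CaseA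

variable {A : H.CaseA} (hr : Nat.card A.f.range = 6) {T : Sylow 2 G} (hT : H.Central T) (D : A.Quat T)
include hr hT D

omit hr hT D in
theorem W_Q_trivial {g : G} (hgQ : g ∈ A.Q) (hgW : g ∈ A.W) : g = 1 := by
  obtain ⟨k, hk⟩ := A.hQ ⟨g, hgQ⟩
  exact odd_orderOf_eq_one_of_two_pow (A.W_orderOf hgW) (by simpa using congrArg Subtype.val hk)

theorem card_T_sixteen : Nat.card T = 16 := by rw [← A.card_T hr hT, D.card_Q]

/-- The generators satisfy the relations of `GL(2,3)` modulo `W`. -/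
theorem exists_gl : ∃ φ : ↥H.C →* GL (Fin 2) (ZMod 3), Function.Surjective φ ∧
    ∀ c : ↥H.C, φ c = 1 ↔ (c : G) ∈ A.W := by
  haveI hWn : (A.W.subgroupOf H.C).Normal := ⟨fun w hw g => A.Wn g g.2 w hw⟩
  set π := QuotientGroup.mk' (A.W.subgroupOf H.C) with hπ
  have hker : ∀ c : ↥H.C, π c = 1 ↔ (c : G) ∈ A.W := fun c => QuotientGroup.eq_one_iff c
  set i : ↥H.C := ⟨D.σ ^ 2, A.QC D.sq_mem⟩ with hi
  set r : ↥H.C := ⟨D.r, D.r_mem⟩ with hr'
  set j : ↥H.C := r * i * r⁻¹ with hj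
  set s : ↥H.C := ⟨D.s, hT.le D.s_mem⟩ with hs
  have hjQ : (j : G) ∈ A.Q := A.Qn D.r D.r_mem _ D.sq_mem
  have hii : (D.σ ^ 2) * (D.σ ^ 2) = H.z := by rw [← pow_add]; exact D.σ_four
  have hzc : ∀ {g : G}, g ∈ H.C → g * H.z * g⁻¹ = H.z := fun hg => H.conj_z hg
  have hiz : D.σ ^ 2 ∉ zpowers H.z := fun h => by
    rcases H.mem_zpowers_z.1 h with e | e
    · rw [e, one_mul] at hii; exact H.z_ne hii.symm
    · rw [e, H.zz] at hii; exact H.z_ne hii.symm
  have hjj : (j : G) * j = H.z := by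
    show D.r * D.σ ^ 2 * D.r⁻¹ * (D.r * D.σ ^ 2 * D.r⁻¹) = H.z
    rw [← conj_mul', hii, hzc D.r_mem]
  have hji : (j : G) * D.σ ^ 2 * (j : G)⁻¹ = H.z * D.σ ^ 2 := by
    refine (A.Y_act (D.hY _ D.sq_mem) (Or.inr hjQ)).resolve_left fun h => ?_
    have hc : Commute (D.σ ^ 2) (j : G) := (eq_conj_iff.1 h).symm
    have h1 : ((j : G) * (D.σ ^ 2)⁻¹) * ((j : G) * (D.σ ^ 2)⁻¹) = 1 := by
      rw [(hc.inv_left).mul_mul_mul_comm, hjj, ← _root_.mul_inv_rev, hii, mul_inv_cancel]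
    refine hiz (H.mem_zpowers_z.2 ?_)
    exact three_free D.hY D.r_mem D.r_image.1 D.r_image.2 D.sq_mem
      (H.mem_zpowers_z.2 (D.single _ (mul_mem hjQ (inv_mem D.sq_mem)) h1))
  have hsi : D.s * D.σ ^ 2 * D.s⁻¹ = (D.σ ^ 2)⁻¹ := by
    rw [conj_pow', D.rel, ← pow_mul]
    refine eq_inv_of_mul_eq_one_left ?_
    rw [← pow_add, show 3 * 2 + 2 = 8 from rfl, ← D.σ_eight, pow_orderOf_eq_one]
  have hrel : InvChar.GL23.Rel (π i) (π j) (π r) (π s) := by
    constructor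
    · rw [← map_pow, show i ^ 4 = 1 from Subtype.ext (by
        show (D.σ ^ 2) ^ 4 = 1
        rw [← pow_mul, show 2 * 4 = 8 from rfl, ← D.σ_eight, pow_orderOf_eq_one]), map_one]
    · rw [← map_mul, ← map_mul]; exact congrArg π (Subtype.ext (by show (j : G) * j = _; rw [hjj]; exact hii.symm))
    · rw [← map_mul, ← map_pow, ← map_mul]
      refine congrArg π (Subtype.ext ?_)
      show (j : G) * D.σ ^ 2 = (D.σ ^ 2) ^ 3 * j
      rw [mul_inv_eq_iff_eq_mul.1 hji, show (D.σ ^ 2) ^ 3 = H.z * D.σ ^ 2 by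
        rw [pow_succ, pow_two (D.σ ^ 2), hii]]
    · rw [← map_pow, hker]; exact D.r_cube
    · rw [← map_inv, ← map_mul, ← map_mul]
    · rw [← map_inv, ← map_mul, ← map_mul, ← map_mul]
      exact congrArg π (Subtype.ext D.cycle)
    · rw [← map_mul, show s * s = 1 from Subtype.ext D.s_sq, map_one]
    · rw [← map_inv, ← map_mul, ← map_mul, ← map_inv]; exact congrArg π (Subtype.ext hsi)
    · rw [← map_inv, ← map_mul, ← map_mul, ← map_inv]; exact congrArg π (Subtype.ext D.s_r)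
  have hgen : Subgroup.closure ({π i, π j, π r, π s} : Set (↥H.C ⧸ A.W.subgroupOf H.C)) = ⊤ := by
    set K := Subgroup.closure ({π i, π j, π r, π s} : Set (↥H.C ⧸ A.W.subgroupOf H.C)) with hK
    have hm : ∀ a ∈ ({π i, π j, π r, π s} : Set _), a ∈ K := fun a ha => subset_closure ha
    have hQK : ∀ q : ↥H.C, (q : G) ∈ A.Q → π q ∈ K := by
      intro q hq
      set L := (K.comap π).map H.C.subtype ⊓ A.Q with hL
      suffices hLQ : L = A.Q by
        obtain ⟨a, ha, e⟩ := (hLQ.symm ▸ hq : (q : G) ∈ L).1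
        exact (Subtype.ext e : a = q) ▸ ha
      have hiL : D.σ ^ 2 ∈ L := ⟨⟨i, hm _ (by simp), rfl⟩, D.sq_mem⟩
      have hjL : (j : G) ∈ L := ⟨⟨j, hm _ (by simp), rfl⟩, hjQ⟩
      have h4 : Nat.card (zpowers (D.σ ^ 2)) = 4 := by
        rw [Nat.card_zpowers, orderOf_pow' _ two_ne_zero, D.σ_eight]; rfl
      have hlt : zpowers (D.σ ^ 2) < L := lt_of_le_of_ne (zpowers_le.2 hiL) fun e => by
        obtain ⟨k, hk⟩ := mem_zpowers_iff.1 (e.symm ▸ hjL)
        have hc : (j : G) * D.σ ^ 2 * (j : G)⁻¹ = D.σ ^ 2 := eq_conj_iff.2 (by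
          rw [← hk]; exact ((Commute.refl (D.σ ^ 2)).zpow_left k).eq)
        rw [hji] at hc
        exact H.z_ne (mul_eq_right.1 hc)
      refine eq_of_le_of_card_ge inf_le_right ?_
      obtain ⟨e, he⟩ := card_dvd_of_le hlt.le
      have h8 : Nat.card L ∣ 8 := D.card_Q ▸ card_dvd_of_le inf_le_right
      have hne : Nat.card L ≠ 4 := fun e4 => hlt.ne (eq_of_le_of_card_ge hlt.le (by omega))
      rw [D.card_Q]
      rw [h4] at he
      have := Nat.le_of_dvd (by norm_num) h8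
      have := Nat.card_pos (α := L)
      rcases e with _ | _ | e <;> omega
    refine eq_top_iff.2 fun a _ => ?_
    obtain ⟨c, rfl⟩ := QuotientGroup.mk'_surjective _ a
    show π c ∈ K
    have hout := A.outside hr hT D.s_mem D.s_out
    obtain ⟨a', -, b', -, hab⟩ := Three.decomp _ _ (A.f c) hout.1 hout.2 D.r_image.1 D.r_image.2
    set g := r ^ b' * s ^ a' with hg
    obtain ⟨q, hq, w, hw, hqw⟩ := (A.ker (g⁻¹ * c)).1 (by
      rw [map_mul, map_inv, hg, map_mul, map_pow, map_pow, hab, inv_mul_cancel])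
    have e : c = g * (⟨q, A.QC hq⟩ * ⟨w, A.WC hw⟩) := by
      rw [← inv_mul_eq_iff_eq_mul]
      exact Subtype.ext hqw
    rw [e, map_mul π g, map_mul π ⟨q, A.QC hq⟩, (hker ⟨w, A.WC hw⟩).2 hw, mul_one, hg, map_mul, map_pow,
      map_pow]
    exact mul_mem (mul_mem (pow_mem (hm _ (by simp)) _) (pow_mem (hm _ (by simp)) _)) (hQK _ hq)
  have h48 : Nat.card (↥H.C ⧸ A.W.subgroupOf H.C) = 48 := by
    have h := Subgroup.card_eq_card_quotient_mul_card_subgroup (A.W.subgroupOf H.C)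
    rw [A.card, hr, D.card_Q, Nat.card_congr (subgroupOfEquivOfLe A.WC).toEquiv] at h
    refine Nat.eq_of_mul_eq_mul_right (Nat.card_pos (α := A.W)) ?_
    rw [← h]; ring
  obtain ⟨e⟩ := InvChar.GL23.nonempty_equiv h48 hrel hgen
  refine ⟨e.toMonoidHom.comp π, e.surjective.comp (QuotientGroup.mk'_surjective _), fun c => ?_⟩
  rw [← hker]
  exact map_eq_one_iff e e.injective

omit hr hT D in
theorem card_center_gl : Nat.card (center (GL (Fin 2) (ZMod 3))) ≤ 2 := by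
  rw [GeneralLinearGroup.center_eq_range_scalar]
  refine (Nat.card_le_card_of_surjective _ (MonoidHom.rangeRestrict_surjective _)).trans ?_
  rw [Nat.card_eq_fintype_card, Fintype.card_units, ZMod.card]

/-- The data of the semidihedral block computation at `p = 3`. -/
theorem exists_data : ∃ E : CycSD.Data G, E.p = 3 ∧ E.S = T ∧ E.σ = D.σ ∧ E.N = 8 ∧ E.t = D.s := by
  haveI := Fact.mk Nat.prime_three
  obtain ⟨φ, hφs, hφ⟩ := exists_gl hr hT D
  set zC : ↥H.C := ⟨H.z, H.z_mem⟩ with hzC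
  have hzW : H.z ∉ A.W := fun h => H.z_ne (W_Q_trivial A.zQ h)
  have hcen : (center (GL (Fin 2) (ZMod 3)) : Set _) = {1, φ zC} := by
    refine (Set.eq_of_subset_of_ncard_le ?_ ?_ (Set.toFinite _)).symm
    · rintro a (rfl | rfl)
      · exact one_mem _
      · refine mem_center_iff.2 fun g => ?_
        obtain ⟨c, rfl⟩ := hφs g
        rw [← map_mul, ← map_mul]
        exact congrArg φ (Subtype.ext (H.mem_C.1 c.2))
    · rw [← Nat.card_coe_set_eq, Set.ncard_pair (fun e => hzW ((hφ zC).1 e.symm))]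
      exact card_center_gl
  have key : ∀ z' : G, z' = H.z → ∃ (K : Subgroup (centralizer ({z'} : Set G)))
      (π : centralizer ({z'} : Set G) →* ProjGenLinGroup (Fin 2) (ZMod 3)), K.Normal ∧ ¬ 2 ∣ Nat.card K ∧
        Function.Surjective π ∧ ∀ c : centralizer ({z'} : Set G),
          π c = 1 ↔ c ∈ K ∨ c * ⟨z', mem_centralizer_singleton_iff.2 rfl⟩ ∈ K := by
    rintro z' rfl
    refine ⟨A.W.subgroupOf H.C, ProjGenLinGroup.mk.comp φ, ⟨fun w hw g => A.Wn g g.2 w hw⟩, ?_,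
      ProjGenLinGroup.mk_surjective.comp hφs, fun c => ?_⟩
    · rw [Nat.card_congr (subgroupOfEquivOfLe A.WC).toEquiv]
      exact fun h => (Nat.not_even_iff_odd.2 A.W_odd) (even_iff_two_dvd.2 h)
    · have hz2 : φ zC * φ zC = 1 := by
        rw [← map_mul, show zC * zC = 1 from Subtype.ext H.zz, map_one]
      rw [MonoidHom.comp_apply, ProjGenLinGroup.mk_eq_one, ← SetLike.mem_coe, hcen, Set.mem_insert_iff,
        Set.mem_singleton_iff, hφ c, mem_subgroupOf, mem_subgroupOf]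
      refine or_congr_right ⟨fun h => (hφ (c * zC)).1 (by rw [map_mul, h, hz2]), fun h => ?_⟩
      have := (hφ (c * zC)).2 h
      rw [map_mul] at this
      exact (eq_inv_of_mul_eq_one_left this).trans (inv_eq_of_mul_eq_one_right hz2)
  obtain ⟨K, π, hKn, hKo, hπs, hπk⟩ := key (D.σ ^ (8 / 2)) D.σ_four
  have ht : D.s ∉ zpowers D.σ := fun h => by
    obtain ⟨k, hk⟩ := mem_zpowers_iff.1 h
    have hc : D.s * D.σ * D.s⁻¹ = D.σ := eq_conj_iff.2 (by rw [← hk]; exact ((Commute.refl D.σ).zpow_left k).eq)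
    rw [D.rel, pow_succ, mul_eq_right, ← orderOf_dvd_iff_pow_eq_one, D.σ_eight] at hc
    norm_num at hc
  exact ⟨⟨3, ⟨Nat.prime_three⟩, by norm_num, T, D.σ, D.s, 8, ⟨3, le_rfl, rfl⟩, D.σ_mem, D.s_mem, D.σ_eight,
    D.s_sq, ht, D.rel, card_T_sixteen hr hT D, K, hKn, hKo, π, hπs, hπk, fun l hl hl2 => by
      obtain ⟨m, rfl⟩ := hl
      have h8 : D.σ ^ 8 = 1 := by rw [← D.σ_eight, pow_orderOf_eq_one]
      rcases (show (m + m) % 8 = 2 ∨ (m + m) % 8 = 6 by omega) with e | e <;> rw [pow_eq_pow_mod (m + m) h8, e]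
      have e6 : D.σ ^ 6 = (D.σ ^ 2)⁻¹ := eq_inv_of_mul_eq_one_left (by rw [← pow_add]; exact h8)
      rw [e6]
      ext g
      rw [mem_centralizer_singleton_iff, mem_centralizer_singleton_iff]
      exact ⟨fun h => by simpa using (show Commute g (D.σ ^ 2)⁻¹ from h).inv_right.eq,
        fun h => (show Commute g (D.σ ^ 2) from h).inv_right.eq⟩⟩, rfl, rfl, rfl, rfl, rfl⟩

end CaseA

end Hyp

end Cfsg.Agent.SelfSix
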