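import Cfsg.Agent.Lib.CycSD.Table
import Cfsg.Agent.Lib.CycSD.Count
import Cfsg.Agent.Lib.CycSD.Inverters
import Cfsg.Agent.Lib.CentFour.Setup

/-!
# The principal 2-block at `p = 3` and a Sylow 2-subgroup of order sixteen: a character of degree 11 or 13
-/

set_option autoImplicit false
set_option linter.unusedSectionVars false
set_option linter.style.haveILetI false

open scoped Classical

namespace Cfsg.Agent.SelfSix.Deg

open Cfsg.Agent.CycSD Cfsg.Agent.CycSD.Data Cfsg.Agent.Blocks Cfsg.Agent.Characters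

universe u

variable {G : Type u} [Group G] [Finite G] {D : Data G}

theorem exists_nums [IsSimpleGroup G] [Fintype (Cfsg.IrrCharacter G)] {M : Ideal Cfsg.AlgInt}
    (hM : Cfsg.IsPModular 2 M) :
    ∃ (F1 F2 : ℤ) (χ₁ χ₂ : Cfsg.IrrCharacter G) (e₁ e₂ : ℤ), (e₁ = 1 ∨ e₁ = -1) ∧ (e₂ = 1 ∨ e₂ = -1) ∧
      F1 = e₁ * Cfsg.charDegree (χ₁ : G → ℂ) ∧
      (e₁ : ℂ) * (χ₁ : G → ℂ) D.z = ((XGroup.sgnP D.p * D.p : ℤ) : ℂ) ∧
      F2 = -(e₂ * Cfsg.charDegree (χ₂ : G → ℂ)) ∧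
      (e₂ : ℂ) * (χ₂ : G → ℂ) D.z = -((XGroup.sgnP D.p * D.p : ℤ) : ℂ) ∧
      F1 % 2 = 1 ∧ F1 + 1 ≠ 0 ∧
      (-F1 - (D.p : ℤ) ^ 2) * (F2 - (D.p : ℤ) ^ 2) = (D.p : ℤ) ^ 2 * ((D.p : ℤ) ^ 2 - 1) ∧
      ∑ χ ∈ bb M G, (D.dv χ : ℂ) * (χ : G → ℂ) D.z ^ 2 / (χ : G → ℂ) 1 =
        ((F1 : ℂ) - XGroup.sgnP D.p * D.p) ^ 2 / ((F1 : ℂ) * ((F1 : ℂ) + 1)) := by
  haveI := D.hp
  obtain ⟨Q, Z1, Z2, Z3, Z4, hf1, hf4⟩ := Data.exists_signed (D := D) hM
  obtain ⟨m1, m2, m3, mY⟩ := Q.mem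
  obtain ⟨u1, u2, u3, uY⟩ := Q.unit
  set o := trivIrr G with hodef
  have ho : o ∈ bb M G := mem_principal_triv hM
  have hsub : ({o, Q.c₁, Q.c₂, Q.c₃} : Finset _) ⊆ bb M G := by
    simp [Finset.insert_subset_iff, ho, m1, m2, m3]
  set s := XGroup.sgnP D.p with hs
  have hss : s * s = 1 := by rcases XGroup.sgnP_eq D.p with e | e <;> rw [← hs] at e <;> simp [e]
  set f : Cfsg.IrrCharacter G → ℤ := fun χ => (Cfsg.charDegree (χ : G → ℂ) : ℤ) with hfdef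
  have hfC : ∀ χ, (f χ : ℂ) = (χ : G → ℂ) 1 := fun χ => by
    rw [← charDegree_cast]; simp [hfdef]
  have hfpos : ∀ χ, 0 < f χ := fun χ => Int.natCast_pos.2 (charDegree_pos _)
  change 1 + D.ev Q.c₁ * f Q.c₁ + D.ev Q.c₂ * f Q.c₂ + D.ev Q.c₃ * f Q.c₃ = 0 at hf1
  change 1 + D.ev Q.c₁ * f Q.c₁ + D.dv Q.Y * f Q.Y = 0 at hf4
  set F1 : ℤ := D.ev Q.c₁ * f Q.c₁ with hF1
  set F2 : ℤ := -(D.ev Q.c₂ * f Q.c₂) with hF2
  have hne1 : F1 ≠ 0 := mul_ne_zero (by omega) (hfpos _).ne'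
  have hne2 : F2 ≠ 0 := neg_ne_zero.2 (mul_ne_zero (by omega) (hfpos _).ne')
  have hF3 : D.ev Q.c₃ * f Q.c₃ = -(1 + F1 - F2) := by rw [hF1, hF2]; linarith
  have hne3 : 1 + F1 - F2 ≠ 0 := fun h => by
    rw [h, neg_zero] at hF3
    exact mul_ne_zero (by omega) (hfpos _).ne' hF3
  have hF4 : D.dv Q.Y * f Q.Y = -(1 + F1) := by rw [hF1]; linarith
  have hne4 : F1 + 1 ≠ 0 := fun h => by
    rw [show (1 + F1) = 0 by linarith, neg_zero] at hF4
    exact mul_ne_zero (by omega) (hfpos _).ne' hF4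
  have hne : F1 ≠ F2 := fun h => by
    refine Q.ne₃.1 (one_of_simple D.not_comm ?_)
    have : f Q.c₃ = 1 := by
      rw [h, add_sub_cancel_right] at hF3
      have := hfpos Q.c₃
      rcases u3 with e | e <;> rw [e] at hF3 <;> omega
    rw [← hfC, this, Int.cast_one]
  have c1 : (D.ev Q.c₁ : ℂ) * (Q.c₁ : G → ℂ) 1 = (F1 : ℂ) := by rw [← hfC, hF1]; push_cast; rfl
  have c2 : (D.ev Q.c₂ : ℂ) * (Q.c₂ : G → ℂ) 1 = -(F2 : ℂ) := by rw [← hfC, hF2]; push_cast; ring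
  have c3 : (D.ev Q.c₃ : ℂ) * (Q.c₃ : G → ℂ) 1 = -((1 + F1 - F2 : ℤ) : ℂ) := by
    rw [← hfC, ← Int.cast_mul, hF3, Int.cast_neg]
  have c4 : (D.dv Q.Y : ℂ) * (Q.Y : G → ℂ) 1 = -((1 + F1 : ℤ) : ℂ) := by
    rw [← hfC, ← Int.cast_mul, hF4, Int.cast_neg]
  have hsq := D.sum_ev_sq hM
  have hoC : (o : G → ℂ) D.z = 1 ∧ (o : G → ℂ) 1 = 1 := by simp [hodef]
  rw [← Finset.sum_subset hsub (fun χ hχ hn => by
      simp only [Finset.mem_insert, Finset.mem_singleton, not_or] at hn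
      rw [(Q.supp χ hχ hn.1 hn.2.1).2 hn.2.2.1 hn.2.2.2, Int.cast_zero, zero_mul, zero_div]),
    Finset.sum_insert (by simp [Q.ne₁.symm, Q.ne₂.1.symm, Q.ne₃.1.symm, hodef]),
    Finset.sum_insert (by simp [Q.ne₂.2.symm, Q.ne₃.2.1.symm]), Finset.sum_pair Q.ne₃.2.2.symm,
    D.ev_triv, hoC.1, hoC.2, sq_div_signed u1, sq_div_signed u2, sq_div_signed u3,
    Z1, Z2, Z3, c1, c2, c3] at hsq
  refine ⟨F1, F2, Q.c₁, Q.c₂, D.ev Q.c₁, D.ev Q.c₂, u1, u2, rfl, Z1, rfl, Z2, ?_, hne4, ?_, ?_⟩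
  · have := (Q.ev_odd (D := D) m1).2 (Or.inr (Or.inl rfl))
    have h2 := D.ev_cong Q.c₁
    have h3 : f Q.c₁ % 2 = 1 := by
      rw [sign_mod_two]; rw [sign_mod_two] at this; exact h2.trans this
    rw [hF1]; rcases u1 with e | e <;> rw [e] <;> omega
  · refine degree_relation hne1 hne2 hne3 hne ?_
    apply Rat.cast_injective (α := ℂ)
    have hs2 : (s : ℂ) * s = 1 := by exact_mod_cast hss
    push_cast at hsq ⊢
    simp only [div_neg, neg_sq, one_pow] at hsq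
    linear_combination hsq - ((D.p : ℂ) ^ 2 / (F1 : ℂ) - (D.p : ℂ) ^ 2 / (F2 : ℂ)) * hs2
  · rw [← Finset.sum_subset (s₁ := {o, Q.c₁, Q.Y})
      (by simp [Finset.insert_subset_iff, ho, m1, mY])
      (fun χ hχ hn => by
        simp only [Finset.mem_insert, Finset.mem_singleton, not_or] at hn
        rw [(Q.supp χ hχ hn.1 hn.2.1).1 hn.2.2, Int.cast_zero, zero_mul, zero_div]),
      Finset.sum_insert (by simp [Q.ne₁.symm, Q.neY.1.symm, hodef]), Finset.sum_pair Q.neY.2.1.symm,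
      D.dv_triv, hoC.1, hoC.2, Q.dv₁, sq_div_signed u1, sq_div_signed uY, Z1, Z4, c1, c4]
    push_cast
    have e1 : (F1 : ℂ) ≠ 0 := Int.cast_ne_zero.2 hne1
    have e4 : (F1 : ℂ) + 1 ≠ 0 := by exact_mod_cast hne4
    have e4' : (1 : ℂ) + F1 ≠ 0 := by rwa [add_comm]
    field_simp
    ring

/-- At `p = 3` and `N = 8` there is a character of degree `11` with value `3` at the involution, or one of
degree `13` with value `-3`. -/
theorem exists_small_char [IsSimpleGroup G] (hp : D.p = 3) (hN : D.N = 8) :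
    ∃ χ : Cfsg.IrrCharacter G, ((χ : G → ℂ) 1 = 11 ∧ (χ : G → ℂ) D.z = 3) ∨
      ((χ : G → ℂ) 1 = 13 ∧ (χ : G → ℂ) D.z = -3) := by
  haveI := D.hp
  haveI := Fintype.ofFinite (Cfsg.IrrCharacter G)
  obtain ⟨M, hM⟩ := CentFour.exists_modular_two
  obtain ⟨F1, F2, χ₁, χ₂, e₁, e₂, he₁, he₂, hd1, hz1, hd2, hz2, hFo, hne, hrel, hsum⟩ :=
    exists_nums (D := D) hM
  have hcount := D.count hM
  rw [hsum] at hcount
  have hs3 : XGroup.sgnP D.p = -1 := by rw [XGroup.sgnP, if_neg (by omega)]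
  rw [hs3, hp] at hz1 hz2 hcount
  rw [hp] at hrel
  set g := Nat.card G with hg
  set c := Nat.card (Subgroup.centralizer ({D.z} : Set G)) with hc
  have hg0 : g ≠ 0 := Nat.card_pos.ne'
  have hc0 : c ≠ 0 := Nat.card_pos.ne'
  have hF0 : F1 ≠ 0 := by omega
  have heqI : 4 * (D.ot : ℤ) ^ 2 * g * (F1 + 3) ^ 2 = (c : ℤ) ^ 2 * D.o * D.N * (F1 * (F1 + 1)) := by
    apply Int.cast_injective (α := ℂ)
    push_cast at hcount ⊢
    have e1 : (F1 : ℂ) ≠ 0 := Int.cast_ne_zero.2 hF0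
    have e2 : (F1 : ℂ) + 1 ≠ 0 := by exact_mod_cast hne
    rw [← mul_div_assoc, div_eq_iff (mul_ne_zero e1 e2)] at hcount
    linear_combination hcount
  have ho0 : D.o ≠ 0 := fun h => by
    have := D.card_H2; rw [h, mul_zero] at this; exact Nat.card_pos.ne' this
  have hoodd : ¬ 2 ∣ D.o := by
    obtain ⟨O, -, hodd', hO, -⟩ := D.exists_O
    rwa [Nat.eq_of_mul_eq_mul_left (NeZero.pos D.N) (D.card_H2.symm.trans hO)]
  have hto : D.ot ∣ D.o := by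
    refine Dvd.intro_left _ (D.card_J (i := D.t) ?_ ?_)
    · exact orderOf_eq_prime ((pow_two _).trans D.t_sq) fun h => D.t_notMem (h ▸ one_mem _)
    · rw [D.t_sq]; exact one_mem _
  have htodd : ¬ 2 ∣ D.ot := fun h => hoodd (h.trans hto)
  have hot0 : D.ot ≠ 0 := fun h => ho0 (Nat.eq_zero_of_zero_dvd (h ▸ hto))
  have hN2 : D.N.factorization 2 = 3 := by
    rw [hN, show (8 : ℕ) = 2 ^ 3 from rfl, Nat.prime_two.factorization_pow]; simp
  have hg2 : g.factorization 2 = 4 := by rw [hg, D.factorization_G, hN2]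
  have hc2 : c.factorization 2 = 4 := by rw [hc, D.factorization_C, hN2]
  have ha : F1 + 3 ≠ 0 := fun h => by
    rw [h] at heqI
    simp [hc0, ho0, hN, hF0, hne] at heqI
  have hnat : 4 * D.ot ^ 2 * g * (F1 + 3).natAbs ^ 2 = c ^ 2 * D.o * D.N * (F1.natAbs * (F1 + 1).natAbs) := by
    have := congrArg Int.natAbs heqI
    simpa [Int.natAbs_mul, Int.natAbs_pow] using this
  set a := (F1 + 3).natAbs
  set b := (F1 + 1).natAbs
  set f := F1.natAbs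
  have ha0 : a ≠ 0 := Int.natAbs_ne_zero.2 ha
  have hb : b ≠ 0 := Int.natAbs_ne_zero.2 hne
  have hf : f ≠ 0 := Int.natAbs_ne_zero.2 hF0
  have key := congrArg (fun n => n.factorization 2) hnat
  simp [Nat.factorization_mul, Nat.factorization_pow, hot0, hg0, hc0, ho0, hN, ha0, hb, hf] at key
  rw [show (4 : ℕ) = 2 ^ 2 from rfl, show (8 : ℕ) = 2 ^ 3 from rfl, Nat.prime_two.factorization_pow,
    Nat.prime_two.factorization_pow, Finsupp.single_eq_same, Finsupp.single_eq_same, hg2, hc2,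
    Nat.factorization_eq_zero_of_not_dvd hoodd, Nat.factorization_eq_zero_of_not_dvd htodd,
    Nat.factorization_eq_zero_of_not_dvd (show ¬ 2 ∣ f by omega)] at key
  have hb2 : 1 ≤ b.factorization 2 :=
    (Nat.prime_two.dvd_iff_one_le_factorization hb).1 (by omega)
  have h8 : 2 ^ 3 ∣ a := (Nat.prime_two.pow_dvd_iff_le_factorization ha0).2 (by omega)
  norm_num at hrel
  obtain ⟨k, hk⟩ : ∃ k, -F1 - 9 = 8 * k + 2 := ⟨(-F1 - 9) / 8, by omega⟩
  have hdvd : (8 * k + 2) ∣ 72 := ⟨F2 - 9, by rw [← hk]; linarith⟩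
  have hle := Int.natAbs_le_of_dvd_ne_zero hdvd (by norm_num)
  have hk1 : -9 ≤ k := by omega
  have hk2 : k ≤ 8 := by omega
  have hcase : k = 0 ∨ k = 2 ∨ k = -1 := by interval_cases k <;> revert hdvd <;> decide
  have hval : ∀ (χ : Cfsg.IrrCharacter G) (n : ℤ), (Cfsg.charDegree (χ : G → ℂ) : ℤ) = n →
      (χ : G → ℂ) 1 = (n : ℂ) := fun χ n h => by rw [← charDegree_cast, ← h]; simp
  rcases hcase with rfl | rfl | rfl
  · have e1 : F1 = -11 := by omega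
    refine ⟨χ₁, Or.inl ?_⟩
    rcases he₁ with e | e <;> subst e
    · have := Cfsg.charDegree (χ₁ : G → ℂ) |>.zero_le
      omega
    refine ⟨by simpa using hval χ₁ 11 (by omega), ?_⟩
    push_cast at hz1
    linear_combination -hz1
  · have e1 : F1 = -27 := by omega
    subst e1
    have e2 : F2 = 13 := by linarith
    refine ⟨χ₂, Or.inr ?_⟩
    rcases he₂ with e | e <;> subst e
    · omega
    refine ⟨by simpa using hval χ₂ 13 (by omega), ?_⟩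
    push_cast at hz2
    linear_combination -hz2
  · omega

end Cfsg.Agent.SelfSix.Deg
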