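import Mathlib

/-!
# An abelian group with a symmetric group of degree three acting without fixed points, in a representation
-/

set_option autoImplicit false
set_option linter.style.haveILetI false
set_option linter.unusedSectionVars false

namespace Cfsg.Agent.SelfSix.Rep

open Subgroup Module

variable {G : Type*} [Group G] {V : Type*} [AddCommGroup V] [Module ℂ V] (ρ : G →* End ℂ V)

theorem apply_mul (a b : G) (v : V) : ρ (a * b) v = ρ a (ρ b v) := by rw [map_mul]; rfl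

theorem apply_one (v : V) : ρ 1 v = v := by rw [map_one]; rfl

theorem apply_ne_zero {g : G} {v : V} (hv : v ≠ 0) : ρ g v ≠ 0 := fun h => hv (by
  rw [← apply_one ρ v, ← inv_mul_cancel g, apply_mul, h, map_zero])

/-- A weight vector. -/
def IsWeight (A : Subgroup G) (v : V) (l : G → ℂ) : Prop := v ≠ 0 ∧ ∀ a ∈ A, ρ a v = l a • v

theorem IsWeight.mul {A : Subgroup G} {v : V} {l : G → ℂ} (h : IsWeight ρ A v l) {a b : G} (ha : a ∈ A)
    (hb : b ∈ A) : l (a * b) = l a * l b := by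
  have h1 := h.2 (a * b) (mul_mem ha hb)
  rw [apply_mul, h.2 b hb, map_smul, h.2 a ha, smul_smul, mul_comm] at h1
  exact (smul_left_injective ℂ h.1 h1).symm

theorem IsWeight.one {A : Subgroup G} {v : V} {l : G → ℂ} (h : IsWeight ρ A v l) : l 1 = 1 := by
  have h1 := h.2 1 (one_mem A)
  rw [apply_one] at h1
  exact smul_left_injective ℂ h.1 (show l 1 • v = (1 : ℂ) • v by rw [one_smul]; exact h1.symm)

variable [FiniteDimensional ℂ V]

/-- A common eigenvector. -/
theorem exists_weight {A : Subgroup G} (hA : ∀ a ∈ A, ∀ b ∈ A, a * b = b * a) {U : Submodule ℂ V}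
    (hU : ∀ a ∈ A, ∀ v ∈ U, ρ a v ∈ U) (hne : U ≠ ⊥) : ∃ v ∈ U, ∃ l, IsWeight ρ A v l := by
  classical
  induction hn : finrank ℂ U using Nat.strong_induction_on generalizing U with
  | _ n ih =>
    by_cases hall : ∀ a ∈ A, ∃ μ : ℂ, ∀ v ∈ U, ρ a v = μ • v
    · obtain ⟨v, hv, hv0⟩ := Submodule.exists_mem_ne_zero_of_ne_bot hne
      refine ⟨v, hv, fun a => if ha : a ∈ A then (hall a ha).choose else 0, hv0, fun a ha => ?_⟩
      simp only [dif_pos ha]
      exact (hall a ha).choose_spec v hv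
    push Not at hall
    obtain ⟨a, ha, hsc⟩ := hall
    haveI : Nontrivial U := (Submodule.nontrivial_iff_ne_bot).2 hne
    obtain ⟨μ, hμ⟩ := End.exists_eigenvalue ((ρ a).restrict (hU a ha))
    obtain ⟨w, hw⟩ := hμ.exists_hasEigenvector
    set U' : Submodule ℂ V := U ⊓ End.eigenspace (ρ a) μ with hU'
    have hlt : finrank ℂ U' < n := by
      rw [← hn]
      refine Submodule.finrank_lt_finrank_of_lt (lt_of_le_of_ne inf_le_left fun e => ?_)
      obtain ⟨v, hv, hv'⟩ := hsc μ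
      exact hv' (End.mem_eigenspace_iff.1 ((e.symm ▸ hv : v ∈ U').2))
    have hne' : U' ≠ ⊥ := fun e => hw.2 (Subtype.ext ((Submodule.mem_bot ℂ).1 (e ▸ (⟨w.2,
      End.mem_eigenspace_iff.2 (congrArg Subtype.val (End.mem_eigenspace_iff.1 hw.1))⟩ : (w : V) ∈ U'))))
    obtain ⟨v, hv, h⟩ := ih _ hlt (U := U') (fun b hb v hv => ⟨hU b hb v hv.1, End.mem_eigenspace_iff.2 (by
      rw [← apply_mul, hA a ha b hb, apply_mul, End.mem_eigenspace_iff.1 hv.2, map_smul])⟩) hne' rfl
    exact ⟨v, hv.1, h⟩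

/-- If all weights on an invariant subspace are trivial, so is the action. -/
theorem trivial_of_weights [Finite G] {A : Subgroup G} (hA : ∀ a ∈ A, ∀ b ∈ A, a * b = b * a) {F : Submodule ℂ V}
    (hF : ∀ a ∈ A, ∀ v ∈ F, ρ a v ∈ F)
    (h : ∀ v ∈ F, ∀ l, IsWeight ρ A v l → ∀ a ∈ A, l a = 1) : ∀ a ∈ A, ∀ v ∈ F, ρ a v = v := by
  intro a ha v hv
  set U : Submodule ℂ V := F.map (ρ a - 1) with hUdef
  have hUF : U ≤ F := by
    rintro _ ⟨w, hw, rfl⟩
    exact sub_mem (hF a ha w hw) hw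
  have hU : ∀ b ∈ A, ∀ u ∈ U, ρ b u ∈ U := by
    rintro b hb _ ⟨w, hw, rfl⟩
    refine ⟨ρ b w, hF b hb w hw, ?_⟩
    simp only [LinearMap.sub_apply, End.one_apply, map_sub]
    rw [← apply_mul, hA a ha b hb, apply_mul]
  by_cases hne : U = ⊥
  · have h1 : (ρ a - 1) v ∈ U := ⟨v, hv, rfl⟩
    rw [hne, Submodule.mem_bot, LinearMap.sub_apply, End.one_apply, sub_eq_zero] at h1
    exact h1
  exfalso
  obtain ⟨u, hu, l, hl⟩ := exists_weight ρ hA hU hne
  have hfix : ρ a u = u := by rw [hl.2 a ha, h u (hUF hu) l hl a ha, one_smul]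
  obtain ⟨w, -, hwu⟩ := hu
  rw [LinearMap.sub_apply, End.one_apply, sub_eq_iff_eq_add'] at hwu
  have hpow : ∀ k : ℕ, ρ (a ^ k) w = w + k • u := by
    intro k
    induction k with
    | zero => simp
    | succ k ih =>
      rw [pow_succ', apply_mul, ih, map_add, map_nsmul, hfix, hwu, succ_nsmul']
      abel
  have h0 := hpow (orderOf a)
  rw [pow_orderOf_eq_one, apply_one, left_eq_add, ← Nat.cast_smul_eq_nsmul ℂ, smul_eq_zero, Nat.cast_eq_zero] at h0
  exact h0.elim (orderOf_pos a).ne' hl.1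

/-- A weight unchanged by a fixed-point-free element is trivial. -/
theorem weight_one [Finite G] {A : Subgroup G} {v : V} {l : G → ℂ}
    (hl : IsWeight ρ A v l) {r : G} (hr : ∀ a ∈ A, r * a * r⁻¹ ∈ A)
    (hfree : ∀ a ∈ A, r * a * r⁻¹ = a → a = 1) (hinv : ∀ a ∈ A, l (r * a * r⁻¹) = l a) :
    ∀ a ∈ A, l a = 1 := by
  intro a ha
  have hinj : Function.Injective (fun b : A => (⟨(b : G)⁻¹ * (r * b * r⁻¹), mul_mem (inv_mem b.2) (hr b b.2)⟩ : A)) := by
    intro b c hbc
    have e : (b : G)⁻¹ * (r * b * r⁻¹) = (c : G)⁻¹ * (r * c * r⁻¹) := congrArg Subtype.val hbc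
    have hbc' : (c : G) * (b : G)⁻¹ ∈ A := mul_mem c.2 (inv_mem b.2)
    have e1 : r * ((c : G) * (b : G)⁻¹) * r⁻¹ = (c : G) * (b : G)⁻¹ := by
      rw [show r * ((c : G) * (b : G)⁻¹) * r⁻¹ = (r * c * r⁻¹) * (r * b * r⁻¹)⁻¹ by group,
        show r * (c : G) * r⁻¹ = c * ((c : G)⁻¹ * (r * c * r⁻¹)) by group, ← e,
        show (c : G) * ((b : G)⁻¹ * (r * b * r⁻¹)) * (r * b * r⁻¹)⁻¹ = c * (b : G)⁻¹ by group]
    exact Subtype.ext (mul_inv_eq_one.1 (hfree _ hbc' e1)).symm
  obtain ⟨b, hb⟩ := Finite.surjective_of_injective hinj ⟨a, ha⟩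
  have e : (b : G)⁻¹ * (r * b * r⁻¹) = a := congrArg Subtype.val hb
  rw [← e, hl.mul ρ (inv_mem b.2) (hr b b.2), hinv b b.2, ← hl.mul ρ (inv_mem b.2) b.2, inv_mul_cancel, hl.one ρ]

/-- Three involutions with fixed-point-free products: if on `F` each acts as `e` modulo the fixed points of
the elements of `A` commuting with it, then `A` is trivial on `F`. -/
theorem trivial_of_twists [Finite G] {A : Subgroup G} (hA : ∀ a ∈ A, ∀ b ∈ A, a * b = b * a) {F : Submodule ℂ V}
    (hF : ∀ a ∈ A, ∀ v ∈ F, ρ a v ∈ F) (t : Fin 3 → G) (ht : ∀ k, t k * t k = 1)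
    (htA : ∀ k, ∀ a ∈ A, t k * a * (t k)⁻¹ ∈ A)
    (hfree : ∀ k m, k ≠ m → ∀ a ∈ A, t k * t m * a * (t k * t m)⁻¹ = a → a = 1) {e : ℂ}
    (htw : ∀ k, ∀ d ∈ A, d * t k = t k * d → ∀ v ∈ F, ρ d (ρ (t k) v - e • v) = ρ (t k) v - e • v) :
    ∀ a ∈ A, ∀ v ∈ F, ρ a v = v := by
  refine trivial_of_weights ρ hA hF fun v hv l hl => ?_
  have hinv : ∀ k, (t k)⁻¹ = t k := fun k => inv_eq_of_mul_eq_one_right (ht k)
  set σ : Fin 3 → G → G := fun k a => t k * a * (t k)⁻¹ with hσ
  have hσσ : ∀ k a, σ k (σ k a) = a := fun k a => by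
    show t k * (t k * a * (t k)⁻¹) * (t k)⁻¹ = a
    rw [hinv, show t k * (t k * a * t k) * t k = (t k * t k) * a * (t k * t k) by group, ht, one_mul, mul_one]
  have hkind : ∀ k, (∀ a ∈ A, l (σ k a) = l a) ∨ ∀ a ∈ A, l (σ k a) * l a = 1 := by
    intro k
    set w := ρ (t k) v with hw
    have hww : ∀ a ∈ A, ρ a w = l (σ k a) • w := by
      intro a ha
      rw [hw, ← apply_mul, show a * t k = t k * σ k a by
        show a * t k = t k * (t k * a * (t k)⁻¹)
        rw [hinv, ← mul_assoc, ← mul_assoc, ht, one_mul], apply_mul, hl.2 _ (htA k a ha), map_smul]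
    by_cases hd : ∀ a ∈ A, l (a * σ k a) = 1
    · exact Or.inr fun a ha => by rw [mul_comm, ← hl.mul ρ ha (htA k a ha)]; exact hd a ha
    push Not at hd
    obtain ⟨b, hb, hb1⟩ := hd
    set d := b * σ k b with hd'
    have hdA : d ∈ A := mul_mem hb (htA k b hb)
    have hdd : σ k d = d := by
      rw [hd', show σ k (b * σ k b) = σ k b * σ k (σ k b) by
        show t k * (b * σ k b) * (t k)⁻¹ = (t k * b * (t k)⁻¹) * (t k * σ k b * (t k)⁻¹)
        group, hσσ, hA _ (htA k b hb) b hb]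
    have hdc : d * t k = t k * d := (mul_inv_eq_iff_eq_mul.1 (show t k * d * (t k)⁻¹ = d from hdd)).symm
    have h1 := htw k d hdA hdc v hv
    rw [← hw, map_sub, map_smul, hl.2 d hdA, hww d hdA, hdd, smul_comm, ← smul_sub] at h1
    have h2 : w - e • v = 0 := by
      by_contra hne
      exact hb1 (smul_left_injective ℂ hne (h1.trans (one_smul ℂ _).symm))
    rw [sub_eq_zero] at h2
    refine Or.inl fun a ha => smul_left_injective ℂ (apply_ne_zero ρ (g := t k) hl.1) ?_
    show l (σ k a) • w = l a • w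
    rw [← hww a ha, h2, map_smul, hl.2 a ha, smul_comm]
  obtain ⟨k, m, hkm, hsame⟩ : ∃ k m : Fin 3, k ≠ m ∧
      ((∀ a ∈ A, l (σ k a) = l a) ∧ (∀ a ∈ A, l (σ m a) = l a) ∨
        (∀ a ∈ A, l (σ k a) * l a = 1) ∧ (∀ a ∈ A, l (σ m a) * l a = 1)) := by
    rcases hkind 0 with h0 | h0 <;> rcases hkind 1 with h1 | h1 <;> rcases hkind 2 with h2 | h2
    all_goals first
      | exact ⟨0, 1, by decide, Or.inl ⟨h0, h1⟩⟩
      | exact ⟨0, 1, by decide, Or.inr ⟨h0, h1⟩⟩
      | exact ⟨0, 2, by decide, Or.inl ⟨h0, h2⟩⟩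
      | exact ⟨0, 2, by decide, Or.inr ⟨h0, h2⟩⟩
      | exact ⟨1, 2, by decide, Or.inl ⟨h1, h2⟩⟩
      | exact ⟨1, 2, by decide, Or.inr ⟨h1, h2⟩⟩
  refine weight_one ρ hl (r := t k * t m) (fun a ha => ?_) (hfree k m hkm) fun a ha => ?_
  · rw [show t k * t m * a * (t k * t m)⁻¹ = σ k (σ m a) by
      show _ = t k * (t m * a * (t m)⁻¹) * (t k)⁻¹
      group]
    exact htA k _ (htA m a ha)
  · rw [show t k * t m * a * (t k * t m)⁻¹ = σ k (σ m a) by
      show _ = t k * (t m * a * (t m)⁻¹) * (t k)⁻¹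
      group]
    rcases hsame with ⟨hk, hm⟩ | ⟨hk, hm⟩
    · rw [hk _ (htA m a ha), hm a ha]
    · have h1 := hk _ (htA m a ha)
      have h2 := hm a ha
      calc l (σ k (σ m a)) = l (σ k (σ m a)) * (l (σ m a) * l a) := by rw [h2, mul_one]
        _ = l (σ k (σ m a)) * l (σ m a) * l a := by ring
        _ = l a := by rw [h1, one_mul]

/-- On a space of dimension at most five where `i` squares to `-1` and `j` anticommutes with it, a group
centralised by both and moved freely by `x` is trivial. -/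
theorem trivial_small [Finite G] {A : Subgroup G} (hA : ∀ a ∈ A, ∀ b ∈ A, a * b = b * a) {F : Submodule ℂ V}
    (hF : ∀ a ∈ A, ∀ v ∈ F, ρ a v ∈ F) (hdim : finrank ℂ F ≤ 5) {x i j : G}
    (hxA : ∀ a ∈ A, x * a * x⁻¹ ∈ A) (hxF : ∀ v ∈ F, ρ x⁻¹ v ∈ F)
    (hxfree : ∀ a ∈ A, x * a * x⁻¹ = a → a = 1) (hxfree2 : ∀ a ∈ A, x * x * a * (x * x)⁻¹ = a → a = 1)
    (hiA : ∀ a ∈ A, a * i = i * a) (hjA : ∀ a ∈ A, a * j = j * a)
    (hiF : ∀ v ∈ F, ρ i v ∈ F) (hjF : ∀ v ∈ F, ρ j v ∈ F)
    (hii : ∀ v ∈ F, ρ i (ρ i v) = -v) (hij : ∀ v ∈ F, ρ i (ρ j v) = -(ρ j (ρ i v))) :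
    ∀ a ∈ A, ∀ v ∈ F, ρ a v = v := by
  classical
  refine trivial_of_weights ρ hA hF fun v hv l hl => ?_
  by_contra hnt
  push Not at hnt
  obtain ⟨a₀, ha₀, ha₀1⟩ := hnt
  have split : ∀ v ∈ F, ∀ l, IsWeight ρ A v l → ∀ s : ℂ, s * s = -1 →
      ∃ u ∈ F, IsWeight ρ A u l ∧ ρ i u = s • u := by
    intro v hv l hl s hs
    by_cases h0 : ρ i v + s • v = 0
    · have hiv : ρ i v = -(s • v) := eq_neg_of_add_eq_zero_left h0
      refine ⟨ρ j v, hjF v hv, ⟨apply_ne_zero ρ hl.1, fun a ha => ?_⟩, ?_⟩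
      · rw [← apply_mul, hjA a ha, apply_mul, hl.2 a ha, map_smul]
      · rw [hij v hv, hiv, map_neg, neg_neg, map_smul]
    · refine ⟨ρ i v + s • v, add_mem (hiF v hv) (Submodule.smul_mem _ _ hv), ⟨h0, fun a ha => ?_⟩, ?_⟩
      · rw [map_add, map_smul, ← apply_mul, hiA a ha, apply_mul, hl.2 a ha, map_smul, smul_add, smul_comm]
      · rw [map_add, map_smul, hii v hv, smul_add, smul_smul, hs, neg_one_smul, add_comm]
  -- the three weights
  set y : Fin 3 → G := fun k => (x ^ (k : ℕ))⁻¹ with hy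
  have hxk : ∀ k : ℕ, ∀ a ∈ A, x ^ k * a * (x ^ k)⁻¹ ∈ A := by
    intro k
    induction k with
    | zero => intro a ha; simpa using ha
    | succ k ih =>
      intro a ha
      rw [pow_succ', show x * x ^ k * a * (x * x ^ k)⁻¹ = x * (x ^ k * a * (x ^ k)⁻¹) * x⁻¹ by group]
      exact hxA _ (ih a ha)
  have hyF : ∀ k : ℕ, ∀ v ∈ F, ρ (x⁻¹ ^ k) v ∈ F := by
    intro k
    induction k with
    | zero => intro v hv; rwa [pow_zero, apply_one]
    | succ k ih =>
      intro v hv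
      rw [pow_succ', apply_mul]
      exact hxF _ (ih v hv)
  set L : Fin 3 → G → ℂ := fun k a => l (x ^ (k : ℕ) * a * (x ^ (k : ℕ))⁻¹) with hL
  have hweight : ∀ k : Fin 3, IsWeight ρ A (ρ (y k) v) (L k) := fun k => by
    refine ⟨apply_ne_zero ρ hl.1, fun a ha => ?_⟩
    rw [← apply_mul, show a * y k = y k * (x ^ (k : ℕ) * a * (x ^ (k : ℕ))⁻¹) by rw [hy]; group, apply_mul,
      hl.2 _ (hxk _ a ha), map_smul]
  have hLinj : ∀ k m : Fin 3, k < m → ∃ a ∈ A, L k a ≠ L m a := by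
    intro k m hkm
    by_contra hsame
    push Not at hsame
    have hx1 : (∀ a ∈ A, l (x * a * x⁻¹) = l a) ∨ ∀ a ∈ A, l (x * x * a * (x * x)⁻¹) = l a := by
      fin_cases k <;> fin_cases m <;> simp only [hL] at hsame ⊢ <;> try (exfalso; exact absurd hkm (by decide))
      · exact Or.inl fun a ha => by simpa using (hsame a ha).symm
      · exact Or.inr fun a ha => by simpa [pow_two] using (hsame a ha).symm
      · refine Or.inl fun a ha => ?_
        obtain ⟨⟨b, hb⟩, e⟩ := Finite.surjective_of_injective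
          (f := fun a : A => (⟨x * a * x⁻¹, hxA a a.2⟩ : A))
          (fun a b hab => Subtype.ext ((MulAut.conj x).injective (congrArg Subtype.val hab))) ⟨a, ha⟩
        have e' : x * b * x⁻¹ = a := congrArg Subtype.val e
        have h := (hsame b hb).symm
        simp only [pow_one, pow_two] at h
        rw [← e']
        rwa [show x * x * b * (x * x)⁻¹ = x * (x * b * x⁻¹) * x⁻¹ by group] at h
    rcases hx1 with h | h
    · exact ha₀1 (weight_one ρ hl hxA hxfree h a₀ ha₀)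
    · exact ha₀1 (weight_one ρ hl (fun a ha => by simpa [pow_two] using hxk 2 a ha) hxfree2 h a₀ ha₀)
  -- six vectors
  let sg : Fin 2 → ℂ := ![Complex.I, -Complex.I]
  have hsg : ∀ b, sg b * sg b = -1 := fun b => by fin_cases b <;> simp [sg]
  have hex : ∀ p : Fin 3 × Fin 2, ∃ u ∈ F, IsWeight ρ A u (L p.1) ∧ ρ i u = sg p.2 • u := fun p =>
    split _ (by rw [hy]; simp only [← inv_pow]; exact hyF _ v hv) _ (hweight p.1) _ (hsg p.2)
  choose u huF huW hui using hex
  let χ : Fin 3 × Fin 2 → (↥A × Multiplicative ℕ →* ℂ) := fun p =>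
    { toFun := fun m => L p.1 m.1 * sg p.2 ^ m.2.toAdd
      map_one' := by simp [(hweight p.1).one ρ]
      map_mul' := fun m m' => by
        simp only [Prod.fst_mul, Prod.snd_mul, toAdd_mul, Subgroup.coe_mul, pow_add,
          (hweight p.1).mul ρ m.1.2 m'.1.2]
        ring }
  have hχ : Function.Injective χ := by
    intro p q hpq
    have hLeq : ∀ a ∈ A, L p.1 a = L q.1 a := fun a ha => by
      simpa [χ] using DFunLike.congr_fun hpq (⟨a, ha⟩, 1)
    have h1 : p.1 = q.1 := by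
      rcases lt_trichotomy p.1 q.1 with h | h | h
      · obtain ⟨a, ha, hne⟩ := hLinj _ _ h
        exact absurd (hLeq a ha) hne
      · exact h
      · obtain ⟨a, ha, hne⟩ := hLinj _ _ h
        exact absurd (hLeq a ha).symm hne
    refine Prod.ext h1 ?_
    have h2 : sg p.2 = sg q.2 := by
      simpa [χ, (hweight _).one ρ] using DFunLike.congr_fun hpq ((1 : ↥A), Multiplicative.ofAdd 1)
    generalize hb : p.2 = b at h2 ⊢
    generalize hc : q.2 = c at h2 ⊢
    fin_cases b <;> fin_cases c <;> first | rfl | (exfalso; simp [sg, Complex.ext_iff] at h2; norm_num at h2)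
  have hact : ∀ p (m : ↥A × Multiplicative ℕ), ρ ((m.1 : G) * i ^ m.2.toAdd) (u p) = χ p m • u p := by
    intro p m
    have hip : ∀ k : ℕ, ρ (i ^ k) (u p) = sg p.2 ^ k • u p := by
      intro k
      induction k with
      | zero => simp
      | succ k ih => rw [pow_succ', apply_mul, ih, map_smul, hui, smul_smul, ← pow_succ]
    rw [apply_mul, hip, map_smul, (huW p).2 _ m.1.2, smul_smul]
    show (sg p.2 ^ _ * L p.1 m.1) • u p = (L p.1 m.1 * sg p.2 ^ _) • u p
    rw [mul_comm]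
  have hind : LinearIndependent ℂ (fun p => (⟨u p, huF p⟩ : F)) := by
    rw [Fintype.linearIndependent_iff]
    intro c hc p
    have hc' : ∑ q, c q • u q = 0 := by simpa using congrArg Subtype.val hc
    obtain ⟨φ, hφ⟩ : ∃ φ : Module.Dual ℂ V, φ (u p) ≠ 0 := by
      by_contra hno
      push Not at hno
      exact (huW p).1 ((forall_dual_apply_eq_zero_iff ℂ (u p)).1 hno)
    have hsum : ∑ q, (c q * φ (u q)) • (χ q : ↥A × Multiplicative ℕ → ℂ) = 0 := by
      funext m
      have h1 := congrArg (fun w => φ (ρ ((m.1 : G) * i ^ m.2.toAdd) w)) hc'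
      simp only [map_sum, map_smul, map_zero, hact, smul_eq_mul] at h1
      simp only [Finset.sum_apply, Pi.smul_apply, smul_eq_mul, Pi.zero_apply]
      rw [← h1]
      exact Finset.sum_congr rfl fun q _ => by ring
    have hli := Fintype.linearIndependent_iff.1 ((linearIndependent_monoidHom _ ℂ).comp χ hχ) _ hsum p
    exact (mul_eq_zero.1 hli).resolve_right hφ
  have h6 := hind.fintype_card_le_finrank
  simp only [Fintype.card_prod, Fintype.card_fin] at h6
  omega

/-- The determinant bookkeeping of three projections adding up to one. -/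
theorem three_proj {R : Type*} [CommRing R] (P e₁ e₂ e₃ L : R) (h12 : e₁ * e₂ = L) (h13 : e₁ * e₃ = L)
    (h23 : e₂ * e₃ = L) (h123 : e₁ * e₂ * e₃ = L) (hsum : e₁ + e₂ + e₃ = 1 + 2 * L) (hL : L * L = L) :
    (1 + P * e₁) * (1 + P * e₂) * (1 + P * e₃) = (1 + P) * ((1 + P * L) * (1 + P * L)) := by
  linear_combination P * hsum + P ^ 2 * (h12 + h13 + h23) + P ^ 3 * h123 - (P ^ 2 + P ^ 3) * hL

/-- `1 + (ρ a - 1) e`. -/
def twist (e : End ℂ V) (a : G) : End ℂ V := 1 + (ρ a - 1) * e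

theorem twist_mul {e : End ℂ V} (he : e * e = e) {a b : G} (hb : Commute (ρ b) e) :
    twist ρ e (a * b) = twist ρ e a * twist ρ e b := by
  have h : e * (ρ b - 1) = (ρ b - 1) * e := (hb.symm.sub_right (Commute.one_right e)).eq
  simp only [twist, map_mul]
  calc 1 + (ρ a * ρ b - 1) * e = 1 + (ρ a - 1) * e + (ρ b - 1) * e + (ρ a - 1) * ((ρ b - 1) * e) := by noncomm_ring
    _ = 1 + (ρ a - 1) * e + (ρ b - 1) * e + (ρ a - 1) * ((ρ b - 1) * (e * e)) := by rw [he]
    _ = 1 + (ρ a - 1) * e + (ρ b - 1) * e + (ρ a - 1) * ((e * (ρ b - 1)) * e) := by rw [h, mul_assoc (ρ b - 1)]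
    _ = _ := by noncomm_ring

theorem twist_one (e : End ℂ V) : twist ρ e 1 = 1 := by simp [twist]

theorem twist_conj (g : G) (e : End ℂ V) (a : G) :
    ρ g * twist ρ e a * ρ g⁻¹ = twist ρ (ρ g * e * ρ g⁻¹) (g * a * g⁻¹) := by
  have h1 : ρ g⁻¹ * ρ g = 1 := by rw [← map_mul, inv_mul_cancel, map_one]
  have h2 : ρ g * ρ g⁻¹ = 1 := by rw [← map_mul, mul_inv_cancel, map_one]
  simp only [twist, map_mul]
  calc ρ g * (1 + (ρ a - 1) * e) * ρ g⁻¹ = ρ g * ρ g⁻¹ + ρ g * (ρ a - 1) * (1 : End ℂ V) * e * ρ g⁻¹ := by noncomm_ring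
    _ = 1 + ρ g * (ρ a - 1) * (ρ g⁻¹ * ρ g) * e * ρ g⁻¹ := by rw [h1, h2]
    _ = 1 + (ρ g * ρ a * ρ g⁻¹ - ρ g * ρ g⁻¹) * (ρ g * e * ρ g⁻¹) := by noncomm_ring
    _ = _ := by rw [h2]

/-- With a line of common fixed points of two involutions `z`, `s`, an element `d` of odd order commuting with
them fixes the line, if the twist of `d` on the fixed points of `z` has determinant one and the three
involutions are conjugate fixing `d`. -/
theorem line_fixed {z s d g h : G} (hz : z * z = 1) (hs : s * s = 1) (hzs : z * s = s * z) (hdz : d * z = z * d)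
    (hds : d * s = s * d) (hgd : g * d = d * g) (hhd : h * d = d * h) (hg : g * z * g⁻¹ = s)
    (hh : h * z * h⁻¹ = s * z) (hd : Odd (orderOf d)) (hdet : ∀ a : G, LinearMap.det (ρ a) = 1)
    (hplus : LinearMap.det (twist ρ ((2 : ℂ)⁻¹ • (1 + ρ z)) d) = 1)
    (htr : LinearMap.trace ℂ V (ρ 1) + LinearMap.trace ℂ V (ρ z) + LinearMap.trace ℂ V (ρ s) +
      LinearMap.trace ℂ V (ρ (z * s)) = 4) :
    ∀ v, ρ z v = v → ρ s v = v → ρ d v = v := by
  classical
  set c : ℂ := (2 : ℂ)⁻¹ with hc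
  set Z := ρ z with hZ
  set S := ρ s with hS
  set e₁ : End ℂ V := c • (1 + Z) with he₁
  set e₂ : End ℂ V := c • (1 + S) with he₂
  set e₃ : End ℂ V := c • (1 + S * Z) with he₃
  set L : End ℂ V := e₁ * e₂ with hLdef
  have hconj : ∀ a : G, a * d = d * a → ρ a * twist ρ e₁ d * ρ a⁻¹ = twist ρ (c • (1 + ρ (a * z * a⁻¹))) d := by
    intro a ha
    rw [twist_conj, mul_inv_eq_iff_eq_mul.2 ha, he₁, hc, mul_smul_comm, smul_mul_assoc, mul_add, add_mul, mul_one,
      hZ, ← map_mul, ← map_mul, ← map_mul, mul_inv_cancel, map_one]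
  have hdet' : ∀ a : G, a * d = d * a → LinearMap.det (twist ρ (c • (1 + ρ (a * z * a⁻¹))) d) = 1 := by
    intro a ha
    rw [← hconj a ha, map_mul, map_mul, hdet, hdet, one_mul, mul_one]
    exact hplus
  have h2 : LinearMap.det (twist ρ e₂ d) = 1 := by
    have := hdet' g hgd
    rwa [hg] at this
  have h3 : LinearMap.det (twist ρ e₃ d) = 1 := by
    have := hdet' h hhd
    rwa [hh, map_mul] at this
  -- in the commutative algebra
  have hcomm : ∀ a ∈ ({ρ d, Z, S} : Set (End ℂ V)), ∀ b ∈ ({ρ d, Z, S} : Set (End ℂ V)), a * b = b * a := by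
    have f : ∀ a b : G, a * b = b * a → ρ a * ρ b = ρ b * ρ a := fun a b e => by rw [← map_mul, e, map_mul]
    rintro a (rfl | rfl | rfl) b (rfl | rfl | rfl) <;> first | rfl | (apply f)
    all_goals first | exact hdz | exact hdz.symm | exact hds | exact hds.symm | exact hzs | exact hzs.symm
  haveI := Algebra.isMulCommutative_adjoin ℂ hcomm
  open scoped IsMulCommutative in
  have key : (twist ρ e₁ d * twist ρ e₂ d * twist ρ e₃ d = ρ d * (twist ρ L d * twist ρ L d)) ∧ L * L = L := by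
    set R := Algebra.adjoin ℂ ({ρ d, Z, S} : Set (End ℂ V))
    set P' : R := ⟨ρ d, Algebra.subset_adjoin (by simp)⟩ - 1 with hP'
    set Z' : R := ⟨Z, Algebra.subset_adjoin (by simp)⟩
    set S' : R := ⟨S, Algebra.subset_adjoin (by simp)⟩
    have hZ2 : Z' * Z' = 1 := Subtype.ext (by show ρ z * ρ z = 1; rw [← map_mul, hz, map_one])
    have hS2 : S' * S' = 1 := Subtype.ext (by show ρ s * ρ s = 1; rw [← map_mul, hs, map_one])
    set k : R := algebraMap ℂ R c with hk
    have hk2 : 2 * k = 1 := by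
      rw [hk, ← map_ofNat (algebraMap ℂ R) 2, ← map_mul, hc, mul_inv_cancel₀ (two_ne_zero), map_one]
    set f₁ := k * (1 + Z')
    set f₂ := k * (1 + S')
    set f₃ := k * (1 + S' * Z')
    have h12 : f₁ * f₂ = f₁ * f₂ := rfl
    have h11 : f₁ * f₁ = f₁ := by
      linear_combination k ^ 2 * hZ2 + (k * (1 + Z')) * hk2
    have h22 : f₂ * f₂ = f₂ := by
      linear_combination k ^ 2 * hS2 + (k * (1 + S')) * hk2
    have h13 : f₁ * f₃ = f₁ * f₂ := by linear_combination k ^ 2 * S' * hZ2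
    have h23 : f₂ * f₃ = f₁ * f₂ := by linear_combination k ^ 2 * Z' * hS2
    have hLL : f₁ * f₂ * (f₁ * f₂) = f₁ * f₂ := by linear_combination f₂ * f₂ * h11 + f₁ * h22
    have h123 : f₁ * f₂ * f₃ = f₁ * f₂ := by linear_combination f₁ * h23 + f₂ * h11
    have hsum : f₁ + f₂ + f₃ = 1 + 2 * (f₁ * f₂) := by
      linear_combination (1 - k * (1 + Z' + S' + S' * Z')) * hk2
    have h := congrArg Subtype.val (three_proj P' f₁ f₂ f₃ (f₁ * f₂) h12 h13 h23 h123 hsum hLL)
    have e := congrArg Subtype.val hLL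
    have hkv : ∀ a : End ℂ V, algebraMap ℂ (End ℂ V) c * a = c • a := fun a => (Algebra.smul_def c a).symm
    simp only [f₁, f₂, f₃, k, P', Z', S', MulMemClass.coe_mul, AddMemClass.coe_add, OneMemClass.coe_one,
      AddSubgroupClass.coe_sub, Subalgebra.coe_algebraMap, hkv, add_sub_cancel] at h e
    exact ⟨h, e⟩
  obtain ⟨key, hLL⟩ := key
  have hdetL2 : LinearMap.det (twist ρ L d) * LinearMap.det (twist ρ L d) = 1 := by
    have := congrArg LinearMap.det key
    rw [map_mul, map_mul, map_mul, map_mul, hplus, h2, h3, hdet] at this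
    simpa using this.symm
  have hLd : Commute (ρ d) L := by
    have f : ∀ a : G, d * a = a * d → Commute (ρ d) (c • (1 + ρ a)) := fun a e =>
      ((Commute.one_right _).add_right (show ρ d * ρ a = ρ a * ρ d by rw [← map_mul, e, map_mul])).smul_right c
    exact (f z hdz).mul_right (f s hds)
  have hdetL : LinearMap.det (twist ρ L d) = 1 := by
    have hpow : ∀ k : ℕ, twist ρ L (d ^ k) = twist ρ L d ^ k := by
      intro k
      induction k with
      | zero => simp [twist_one]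
      | succ k ih => rw [pow_succ, twist_mul ρ hLL hLd, ih, pow_succ]
    obtain ⟨m, hm⟩ := hd
    have := congrArg LinearMap.det (hpow (orderOf d))
    rw [pow_orderOf_eq_one, twist_one, map_one, map_pow, hm, pow_succ, pow_mul, pow_two, hdetL2, one_pow,
      one_mul] at this
    exact this.symm
  -- the line
  set p : Submodule ℂ V := LinearMap.range L
  have hproj : LinearMap.IsProj p L := LinearMap.IsIdempotentElem.isProj_range _ hLL
  have hp1 : finrank ℂ p = 1 := by
    have h4 : L = (c * c) • (ρ 1 + ρ z + ρ s + ρ (z * s)) := by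
      rw [hLdef, he₁, he₂, smul_mul_smul_comm, map_one, map_mul, hZ, hS]
      congr 1
      noncomm_ring
    have h := hproj.trace
    rw [h4, map_smul, map_add, map_add, map_add, htr, hc, smul_eq_mul] at h
    have h1 : (finrank ℂ p : ℂ) = 1 := by rw [← h]; norm_num
    exact_mod_cast h1
  intro v hzv hsv
  by_cases hv0 : v = 0
  · simp [hv0]
  have hLv : L v = v := by
    simp only [hLdef, he₁, he₂, End.mul_apply, LinearMap.smul_apply, LinearMap.add_apply, End.one_apply,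
      map_smul, map_add, hsv, hzv]
    rw [hc]
    module
  have hvp : v ∈ p := ⟨v, hLv⟩
  obtain ⟨μ, hμ⟩ := exists_smul_eq_of_finrank_eq_one hp1 (x := ⟨v, hvp⟩) (by simpa using hv0)
    ⟨ρ d v, ⟨ρ d v, by
      have := LinearMap.congr_fun hLd.eq v
      simp only [End.mul_apply] at this
      rw [← this, hLv]⟩⟩
  have hμv : μ • v = ρ d v := congrArg Subtype.val hμ
  set e := p.prodEquivOfIsCompl (LinearMap.ker L) hproj.isCompl
  have hblock : twist ρ L d = e.toLinearMap ∘ₗ (LinearMap.prodMap (μ • LinearMap.id) LinearMap.id) ∘ₗ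
      e.symm.toLinearMap := by
    rw [← LinearMap.comp_assoc, LinearEquiv.eq_comp_toLinearMap_symm]
    refine LinearMap.prod_ext (LinearMap.ext fun u => ?_) (LinearMap.ext fun u => ?_)
    · obtain ⟨t, ht⟩ := exists_smul_eq_of_finrank_eq_one hp1 (x := ⟨v, hvp⟩) (by simpa using hv0) u
      subst ht
      simp [e, twist, hLv, ← hμv, smul_smul, mul_comm]
    · have : L u = 0 := u.2
      simp [e, twist, this]
  rw [hblock, LinearMap.det_conj, LinearMap.det_prodMap, LinearMap.det_smul, LinearMap.det_id,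
    LinearMap.det_id, hp1, pow_one, mul_one, mul_one] at hdetL
  rw [← hμv, hdetL, one_smul]

end Cfsg.Agent.SelfSix.Rep
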