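import Cfsg.Agent.Lib.SelfSix.CaseASixQuatData
import Cfsg.Agent.Lib.SelfSix.CaseASixQuatDeg
import Cfsg.Agent.Lib.SelfSix.CaseASixQuatRep
import Cfsg.Agent.Lib.GLTwoThree.Fusion
import Cfsg.Agent.Lib.SmallSimple.Basic
import Cfsg.Agent.S2916

/-!
# No normal four-group: the centralizer is `GL(2,3)`
-/

set_option autoImplicit false
set_option linter.style.haveILetI false
set_option linter.unusedSectionVars false

namespace Cfsg.Agent.SelfSix

open Subgroup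

namespace Three

set_option synthInstance.maxSize 2000
set_option synthInstance.maxHeartbeats 100000

theorem conj_pairs : ∀ a r : Equiv.Perm (Fin 3), a * a = 1 → a ≠ 1 → r ^ 3 = 1 → r ≠ 1 → ∀ k m : Fin 3, k ≠ m →
    (r ^ (k : ℕ) * a * (r ^ (k : ℕ))⁻¹ * (r ^ (m : ℕ) * a * (r ^ (m : ℕ))⁻¹)) ^ 3 = 1 ∧
    r ^ (k : ℕ) * a * (r ^ (k : ℕ))⁻¹ * (r ^ (m : ℕ) * a * (r ^ (m : ℕ))⁻¹) ≠ 1 := by decide +kernel

end Three

universe u

variable {G : Type u} [Group G] [Finite G]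

namespace Hyp

variable {H : Hyp G}

namespace CaseA

/-- The centre of `W`. -/
def ZW (A : H.CaseA) : Subgroup G := A.W ⊓ centralizer (A.W : Set G)

variable (A : H.CaseA)

theorem ZW_comm : ∀ a ∈ A.ZW, ∀ b ∈ A.ZW, a * b = b * a := fun _ ha _ hb =>
  mem_centralizer_iff.1 hb.2 _ ha.1

theorem ZW_conj {c : G} (hc : c ∈ H.C) {a : G} (ha : a ∈ A.ZW) : c * a * c⁻¹ ∈ A.ZW := by
  refine ⟨A.Wn c hc a ha.1, mem_centralizer_iff.2 fun w hw => ?_⟩
  have h := mem_centralizer_iff.1 ha.2 (c⁻¹ * w * c) (by simpa using A.Wn _ (inv_mem hc) w hw)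
  calc w * (c * a * c⁻¹) = c * ((c⁻¹ * w * c) * a) * c⁻¹ := by group
    _ = c * (a * (c⁻¹ * w * c)) * c⁻¹ := by rw [h]
    _ = c * a * c⁻¹ * w := by group

/-- An element with image of order three has no fixed point in the centre of `W`. -/
theorem ZW_free {c : G} (hc : c ∈ H.C) (h3 : A.f ⟨c, hc⟩ ^ 3 = 1) (h1 : A.f ⟨c, hc⟩ ≠ 1) {a : G} (ha : a ∈ A.ZW)
    (hfix : c * a * c⁻¹ = a) : a = 1 := by
  refine A.fixed_W ha.1 ?_
  have key : ∀ y : G, ∀ (hy : y ∈ H.C), A.f ⟨y, hy⟩ = A.f ⟨c, hc⟩ → y * a * y⁻¹ = a := by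
    intro y hy he
    obtain ⟨q, hq, w, hw, hqw⟩ := (A.ker_iff (mul_mem (inv_mem hc) hy)).1 (by
      rw [show (⟨c⁻¹ * y, _⟩ : ↥H.C) = (⟨c, hc⟩ : ↥H.C)⁻¹ * ⟨y, hy⟩ from rfl, map_mul, map_inv, he, inv_mul_cancel])
    rw [inv_mul_eq_iff_eq_mul.1 hqw, show c * (q * w) * a * (c * (q * w))⁻¹ = c * (q * (w * a * w⁻¹) * q⁻¹) * c⁻¹ by
      group, eq_conj_iff.2 (mem_centralizer_iff.1 ha.2 w hw), eq_conj_iff.2 (A.comm q hq a ha.1), hfix]
  rcases Three.rot_cases _ _ A.f_x_cube A.fx h3 with e | e | e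
  · exact absurd e h1
  · exact key H.x H.x_mem e.symm
  · have h := key (H.x * H.x) (mul_mem H.x_mem H.x_mem) (by
      rw [show (⟨H.x * H.x, _⟩ : ↥H.C) = (⟨H.x, H.x_mem⟩ : ↥H.C) * ⟨H.x, H.x_mem⟩ from rfl, map_mul, e])
    rw [← (three_facts H.x_three).2.2.2] at h
    conv_lhs => rw [← h]
    group

variable {A}
variable (hr : Nat.card A.f.range = 6) {T : Sylow 2 G} (hT : H.Central T) (D : A.Quat T)
include hr hT D

omit hr hT in
theorem Quat.s_inv : D.s⁻¹ = D.s := inv_eq_of_mul_eq_one_right D.s_sq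

omit hr hT in
theorem Quat.s_i : D.s * D.σ ^ 2 * D.s⁻¹ = (D.σ ^ 2)⁻¹ := by
  rw [conj_pow', D.rel, ← pow_mul]
  refine eq_inv_of_mul_eq_one_left ?_
  rw [← pow_add, show 3 * 2 + 2 = 8 from rfl, ← D.σ_eight, pow_orderOf_eq_one]

omit hr hT in
theorem Quat.i_sq : D.σ ^ 2 * D.σ ^ 2 = H.z := by rw [← pow_add]; exact D.σ_four

omit hr hT in
theorem Quat.i_s : D.σ ^ 2 * D.s * (D.σ ^ 2)⁻¹ = D.s * H.z := by
  have h := mul_inv_eq_iff_eq_mul.1 D.s_i
  calc D.σ ^ 2 * D.s * (D.σ ^ 2)⁻¹ = D.σ ^ 2 * (D.s * D.σ ^ 2) * ((D.σ ^ 2)⁻¹ * (D.σ ^ 2)⁻¹) := by group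
    _ = D.s * ((D.σ ^ 2)⁻¹ * (D.σ ^ 2)⁻¹) := by rw [h, mul_inv_cancel_left]
    _ = _ := by rw [← mul_inv_rev, D.i_sq, (two_sq H.z_inv).2.2]

omit hr hT in
theorem Quat.i_not : D.σ ^ 2 ∉ zpowers H.z := fun h => by
  have e := D.i_sq
  rcases H.mem_zpowers_z.1 h with e' | e' <;> rw [e'] at e
  · rw [one_mul] at e; exact H.z_ne e.symm
  · rw [H.zz] at e; exact H.z_ne e.symm

/-- The second element of the quaternion group. -/
theorem exists_j : ∃ j ∈ A.Q, D.σ ^ 2 * j = H.z * (j * D.σ ^ 2) ∧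
    ∀ q ∈ A.Q, D.s * q * D.s⁻¹ = q⁻¹ → ∃ e ∈ ({1, D.σ ^ 2} : Set G), q = e ∨ q = e * H.z := by
  have h2 : 2 < Nat.card A.Q := by rw [D.card_Q]; norm_num
  have hfour : A.NoFour := fun u hu hu2 _ => D.single u hu hu2
  obtain ⟨hTn, hTm⟩ := A.T_facts hr hT
  have hσQ : D.σ ∉ A.Q := fun h => by
    rcases A.Y_sq (D.hY _ h) with e | e
    · exact D.i_not (by rw [pow_two, e]; exact one_mem _)
    · exact D.i_not (by rw [pow_two, e]; exact mem_zpowers _)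
  set j := D.s * D.σ with hj
  have hjQ : j ∈ A.Q := hTm _ D.s_mem _ D.σ_mem D.s_out hσQ
  have hsj : D.s * j * D.s⁻¹ * j⁻¹ = (D.σ ^ 2)⁻¹ := by
    rw [hj, show D.s * (D.s * D.σ) * D.s⁻¹ * (D.s * D.σ)⁻¹ =
      D.s * ((D.s * D.σ * D.s⁻¹) * D.σ⁻¹) * D.s⁻¹ by group, D.rel,
      show D.σ ^ 3 * D.σ⁻¹ = D.σ ^ 2 by group, D.s_i]
  have hij : D.σ ^ 2 * j ≠ j * D.σ ^ 2 := fun h => by
    have e : D.σ ^ 2 * D.s = D.s * D.σ ^ 2 := mul_right_cancel (b := D.σ) (by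
      rw [mul_assoc, ← hj, h, hj, mul_assoc, mul_assoc, ← pow_succ, ← pow_succ'])
    have := D.s_i
    rw [eq_conj_iff.2 e.symm] at this
    exact H.z_ne (by rw [← D.i_sq]; nth_rw 1 [this]; exact inv_mul_cancel _)
  refine ⟨j, hjQ, ?_, fun q hq hsq => ?_⟩
  · have e := mul_inv_eq_iff_eq_mul.1 ((A.Y_act (D.hY j hjQ) (Or.inr D.sq_mem)).resolve_left fun e =>
      hij (eq_conj_iff.1 e))
    rw [e, mul_assoc]
  obtain ⟨e, he, hqe⟩ := pair_list hfour h2 (D.hY _ D.sq_mem) (D.hY j hjQ) D.i_sq hij hq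
  simp only [Set.mem_insert_iff, Set.mem_singleton_iff] at he
  rcases he with he | he | he | he
  · exact ⟨e, Or.inl he, hqe⟩
  · exact ⟨e, Or.inr he, hqe⟩
  all_goals
    exfalso
    have hsC := hT.le D.s_mem
    have heQ : e ∈ A.Q := by rw [he]; first | exact hjQ | exact mul_mem D.sq_mem hjQ
    have h3 : D.s * e * D.s⁻¹ * e⁻¹ ∈ zpowers H.z := by
      have h4 : D.s * q * D.s⁻¹ * q⁻¹ ∈ zpowers H.z := by
        rw [hsq, ← mul_inv_rev]
        exact inv_mem (D.hY q hq).2.1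
      rcases hqe with rfl | rfl
      · exact h4
      · rwa [conj_mul', H.conj_z hsC, mul_inv_rev, mul_assoc (D.s * e * D.s⁻¹), ← mul_assoc H.z, mul_inv_cancel,
          one_mul] at h4
    rw [he] at h3
  · exact D.i_not (inv_mem_iff.1 (hsj ▸ h3))
  · rw [conj_mul', D.s_i, mul_inv_rev, show (D.σ ^ 2)⁻¹ * (D.s * j * D.s⁻¹) * (j⁻¹ * (D.σ ^ 2)⁻¹) =
      (D.σ ^ 2)⁻¹ * (D.s * j * D.s⁻¹ * j⁻¹) * (D.σ ^ 2)⁻¹ by group, hsj, ← mul_inv_rev, ← mul_inv_rev] at h3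
    have h5 := inv_mem_iff.1 h3
    rw [D.i_sq] at h5
    exact D.i_not ((mul_mem_cancel_right (mem_zpowers H.z)).1 (by rwa [← D.i_sq, ← mul_assoc, D.i_sq] at h5 ⊢))

/-- An element carrying `z` to `s` and centralising `C_W(s)`. -/
theorem exists_swap : ∃ g : G, g * H.z * g⁻¹ = D.s ∧ ∀ d ∈ A.W, d * D.s = D.s * d → g * d = d * g := by
  haveI : Fact (Nat.Prime 2) := ⟨Nat.prime_two⟩
  have hsC := hT.le D.s_mem
  have hs1 : D.s ≠ 1 := fun e => D.s_out (e ▸ one_mem _)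
  have hsz : D.s ≠ H.z := fun e => D.s_out (e ▸ A.zQ)
  obtain ⟨g₁, hg₁⟩ := H.to_z (orderOf_eq_two D.s_sq hs1)
  set z' := g₁ * H.z * g₁⁻¹ with hz'
  have hz'o : orderOf z' = 2 := (orderOf_conj' g₁ H.z).trans H.z_inv
  have hzs : H.z * D.s = D.s * H.z := (H.mem_C.1 hsC).symm
  have hz'C : z' ∈ H.C := H.mem_C.2 (by rw [← hg₁, hz', ← conj_mul', ← conj_mul', hzs])
  obtain ⟨c, hcC, hcT⟩ := hT.exists_conj (D := zpowers z')
    (IsPGroup.of_card (n := 1) (by rw [Nat.card_zpowers, hz'o, pow_one])) (zpowers_le.2 hz'C)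
  set v := c * z' * c⁻¹ with hv
  have hvT : v ∈ (T : Subgroup G) := hcT z' (mem_zpowers _)
  obtain ⟨hv2, hv1, hvi⟩ := two_sq ((orderOf_conj' c z').trans hz'o)
  have hvz : v ≠ H.z := fun e => by
    rw [hv, ← H.conj_z hcC] at e
    have h : z' = H.z := (MulAut.conj c).injective e
    exact hsz (((MulAut.conj g₁).injective (h.trans hg₁.symm)).symm)
  have hvQ : v ∉ A.Q := fun h => (D.single v h hv2).elim hv1 hvz
  obtain ⟨hTn, hTm⟩ := A.T_facts hr hT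
  obtain ⟨j, -, -, hlist⟩ := exists_j hr hT D
  have hqQ : D.s * v ∈ A.Q := hTm _ D.s_mem _ hvT D.s_out hvQ
  obtain ⟨e, he, hqe⟩ := hlist _ hqQ (by
    rw [mul_inv_rev, hvi, D.s_inv, ← mul_assoc, D.s_sq, one_mul])
  -- an element of `C` carrying `v` to `s`
  obtain ⟨c', hc'C, hc'⟩ : ∃ c' ∈ H.C, c' * v * c'⁻¹ = D.s := by
    have hvq : v = D.s * (D.s * v) := by rw [← mul_assoc, D.s_sq, one_mul]
    have hσs : D.σ * D.s * D.σ⁻¹ = D.s * D.σ ^ 2 := by
      have e := mul_inv_eq_iff_eq_mul.1 D.rel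
      calc D.σ * D.s * D.σ⁻¹ = (D.s * D.s) * D.σ * D.s * D.σ⁻¹ := by rw [D.s_sq, one_mul]
        _ = D.s * (D.s * D.σ) * D.s * D.σ⁻¹ := by group
        _ = D.s * (D.σ ^ 3 * D.s) * D.s * D.σ⁻¹ := by rw [e]
        _ = D.s * D.σ ^ 3 * (D.s * D.s) * D.σ⁻¹ := by group
        _ = D.s * D.σ ^ 2 := by rw [D.s_sq]; group
    have hσC : D.σ ∈ H.C := hT.le D.σ_mem
    have hiC : D.σ ^ 2 ∈ H.C := A.QC D.sq_mem
    have hback : ∀ b : G, b ∈ H.C → b * D.s * b⁻¹ = v → ∃ c' ∈ H.C, c' * v * c'⁻¹ = D.s := fun b hb h =>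
      ⟨b⁻¹, inv_mem hb, by rw [← h]; group⟩
    rcases he with rfl | he
    · rcases hqe with h | h <;> rw [h] at hvq
      · exact ⟨1, one_mem _, by rw [hvq]; simp⟩
      · exact hback _ hiC (by rw [D.i_s, hvq, one_mul])
    · rw [Set.mem_singleton_iff] at he
      subst he
      rcases hqe with h | h <;> rw [h] at hvq
      · exact hback _ hσC (by rw [hσs, hvq])
      · refine hback _ (mul_mem hσC hiC) ?_
        rw [show D.σ * D.σ ^ 2 * D.s * (D.σ * D.σ ^ 2)⁻¹ = D.σ * (D.σ ^ 2 * D.s * (D.σ ^ 2)⁻¹) * D.σ⁻¹ by group,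
          D.i_s, conj_mul', hσs, H.conj_z hσC, hvq, mul_assoc]
  set g₂ := c' * c * g₁ with hg₂
  have hg₂s : g₂ * D.s * g₂⁻¹ = H.z := by
    rw [hg₂, ← conj_conj', hg₁, H.conj_z (mul_mem hc'C hcC)]
  have hg₂z : g₂ * H.z * g₂⁻¹ = D.s := by
    rw [hg₂, ← conj_conj', ← conj_conj', ← hz', ← hv, hc']
  -- the centralizer of `C_W(s)`
  set D₀ := A.W ⊓ centralizer ({D.s} : Set G) with hD₀
  have hTX : (T : Subgroup G) ≤ centralizer (D₀ : Set G) := by
    intro t ht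
    refine mem_centralizer_iff.2 fun d hd => ?_
    have hds : Commute d D.s := mem_centralizer_singleton_iff.1 hd.2
    by_cases htQ : t ∈ A.Q
    · exact (A.comm t htQ d hd.1).symm
    · have hd' : Commute d (D.s * t) := A.W_comm hd.1 (hTm _ D.s_mem _ ht D.s_out htQ)
      have := hds.inv_right.mul_right hd'
      rwa [inv_mul_cancel_left] at this
  have hD₀g : ∀ d ∈ D₀, g₂⁻¹ * d * g₂ ∈ D₀ := by
    intro d hd
    have hdz : Commute d H.z := H.mem_C.1 (A.WC hd.1)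
    have hds : Commute d D.s := mem_centralizer_singleton_iff.1 hd.2
    have hez : g₂⁻¹ * D.s * g₂ = H.z := by rw [← hg₂z]; group
    have hes : g₂⁻¹ * H.z * g₂ = D.s := by rw [← hg₂s]; group
    have hc1 : Commute (g₂⁻¹ * d * g₂) H.z := by
      rw [← hez]; simpa using hds.map (MulAut.conj g₂⁻¹).toMonoidHom
    have hc2 : Commute (g₂⁻¹ * d * g₂) D.s := by
      rw [← hes]; simpa using hdz.map (MulAut.conj g₂⁻¹).toMonoidHom
    have heC : g₂⁻¹ * d * g₂ ∈ H.C := H.mem_C.2 hc1.eq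
    have hodd : Odd (orderOf (g₂⁻¹ * d * g₂)) := by
      rw [show orderOf (g₂⁻¹ * d * g₂) = orderOf d by simpa using orderOf_conj' g₂⁻¹ d]
      exact A.W_orderOf hd.1
    refine ⟨A.mem_W_of_odd heC ?_ hodd, mem_centralizer_singleton_iff.2 hc2.eq⟩
    obtain ⟨hs', hs''⟩ := A.outside hr hT D.s_mem D.s_out
    have h2 := Three.cent_two _ (A.f ⟨_, heC⟩) hs' hs'' (by
      rw [← map_mul, ← map_mul]; exact congrArg A.f (Subtype.ext hc2.eq))
    rw [← orderOf_eq_one_iff]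
    refine Nat.eq_one_of_dvd_coprimes (Nat.coprime_two_left.2 hodd) ?_
      ((orderOf_map_dvd A.f _).trans (orderOf_coe (⟨_, heC⟩ : ↥H.C)).symm.dvd)
    exact orderOf_dvd_of_pow_eq_one (by rw [pow_two, h2])
  have hTX' : ((g₂ • T : Sylow 2 G) : Subgroup G) ≤ centralizer (D₀ : Set G) := by
    rintro _ ⟨t, ht, rfl⟩
    refine mem_centralizer_iff.2 fun d hd => ?_
    have h : Commute (g₂⁻¹ * d * g₂) t := mem_centralizer_iff.1 (hTX ht) _ (hD₀g d hd)
    have h' := h.map (MulAut.conj g₂).toMonoidHom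
    simp only [MulEquiv.coe_toMonoidHom, MulAut.conj_apply] at h'
    rw [show g₂ * (g₂⁻¹ * d * g₂) * g₂⁻¹ = d by group] at h'
    exact h'
  obtain ⟨e, he⟩ := MulAction.exists_smul_eq ↥(centralizer (D₀ : Set G)) ((g₂ • T).subtype hTX') (T.subtype hTX)
  have hnT : ∀ t ∈ (T : Subgroup G), (e : G) * g₂ * t * ((e : G) * g₂)⁻¹ ∈ (T : Subgroup G) := by
    intro t ht
    have hm : (⟨g₂ * t * g₂⁻¹, hTX' ⟨t, ht, rfl⟩⟩ : ↥(centralizer (D₀ : Set G))) ∈
        ((g₂ • T).subtype hTX' : Subgroup ↥(centralizer (D₀ : Set G))) := ⟨t, ht, rfl⟩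
    have : e * ⟨g₂ * t * g₂⁻¹, hTX' ⟨t, ht, rfl⟩⟩ * e⁻¹ ∈
        ((T.subtype hTX : Sylow 2 _) : Subgroup ↥(centralizer (D₀ : Set G))) := by
      rw [← he]
      exact ⟨_, hm, rfl⟩
    rw [← conj_conj']
    exact this
  set n := (e : G) * g₂ with hn
  have hncen : ∀ t ∈ (T : Subgroup G), t * (n * H.z * n⁻¹) = n * H.z * n⁻¹ * t := by
    intro t ht
    obtain ⟨⟨t', ht'⟩, et⟩ := Finite.surjective_of_injective
      (f := fun a : (T : Subgroup G) => (⟨n * a * n⁻¹, hnT a a.2⟩ : (T : Subgroup G)))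
      (fun a b hab => Subtype.ext ((MulAut.conj n).injective (congrArg Subtype.val hab))) ⟨t, ht⟩
    have et' : n * t' * n⁻¹ = t := congrArg Subtype.val et
    rw [← et', ← conj_mul', ← conj_mul', hT.2 t' ht']
  have h2 : 2 < Nat.card A.Q := by rw [D.card_Q]; norm_num
  have hnQ : n * H.z * n⁻¹ ∈ A.Q := A.central_mem hr hT h2 (hnT _ hT.1) hncen
  obtain ⟨hw2, hw1, -⟩ := two_sq ((orderOf_conj' n H.z).trans H.z_inv)
  have hnz := (D.single _ hnQ hw2).resolve_left hw1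
  rw [hn, ← conj_conj', hg₂z] at hnz
  refine ⟨(e : G)⁻¹, by conv_rhs => rw [show D.s = (e : G)⁻¹ * ((e : G) * D.s * (e : G)⁻¹) * (e : G) by group, hnz]
                        simp, fun d hd hds => ?_⟩
  exact ((show Commute d (e : G) from mem_centralizer_iff.1 e.2 d
    ⟨hd, mem_centralizer_singleton_iff.2 hds⟩).inv_right).eq.symm

/-- If no non-trivial element of the centre of `W` commutes with `s`, the centre is trivial. -/
theorem ZW_inverted (hone : ∀ d ∈ A.ZW, d * D.s = D.s * d → d = 1) : ∀ a ∈ A.ZW, a = 1 := by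
  intro a ha
  have hsC := hT.le D.s_mem
  have hinv : ∀ b ∈ A.ZW, D.s * b * D.s⁻¹ = b⁻¹ := by
    intro b hb
    have hc := A.ZW_comm _ hb _ (A.ZW_conj hsC hb)
    refine eq_inv_of_mul_eq_one_right (hone _ (mul_mem hb (A.ZW_conj hsC hb)) ?_)
    have e : D.s * (b * (D.s * b * D.s⁻¹)) * D.s⁻¹ = b * (D.s * b * D.s⁻¹) := by
      rw [conj_mul', conj_conj', D.s_sq]
      simpa using hc.symm
    exact (eq_conj_iff.1 e).symm
  -- so the product with the conjugate by `x` fixes everything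
  set s' := H.x * D.s * H.x⁻¹ with hs'
  have hs'C : s' ∈ H.C := mul_mem (mul_mem H.x_mem hsC) (inv_mem H.x_mem)
  have hinv' : ∀ b ∈ A.ZW, s' * b * s'⁻¹ = b⁻¹ := by
    intro b hb
    have h := hinv _ (show H.x⁻¹ * b * H.x ∈ A.ZW by simpa using A.ZW_conj (inv_mem H.x_mem) hb)
    calc s' * b * s'⁻¹ = H.x * (D.s * (H.x⁻¹ * b * H.x) * D.s⁻¹) * H.x⁻¹ := by rw [hs']; group
      _ = b⁻¹ := by rw [h]; group
  obtain ⟨hf1, hf2⟩ := A.outside hr hT D.s_mem D.s_out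
  obtain ⟨e1, e2⟩ := Three.pair _ _ hf1 hf2 A.f_x_cube A.fx
  refine A.ZW_free (c := D.s * s') (mul_mem hsC hs'C) ?_ ?_ ha ?_
  · rw [show (⟨D.s * s', _⟩ : ↥H.C) = (⟨D.s, hsC⟩ : ↥H.C) * (⟨H.x, H.x_mem⟩ * ⟨D.s, hsC⟩ * ⟨H.x, H.x_mem⟩⁻¹)
      from rfl, map_mul, map_mul, map_mul, map_inv]
    exact e1
  · rw [show (⟨D.s * s', _⟩ : ↥H.C) = (⟨D.s, hsC⟩ : ↥H.C) * (⟨H.x, H.x_mem⟩ * ⟨D.s, hsC⟩ * ⟨H.x, H.x_mem⟩⁻¹)
      from rfl, map_mul, map_mul, map_mul, map_inv]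
    exact e2
  · rw [← conj_conj', hinv' a ha, hinv _ (inv_mem ha), inv_inv]

/-- The centre of `W` is trivial. -/
theorem ZW_eq_bot : ∀ a ∈ A.ZW, a = 1 := by
  classical
  haveI := H.simple
  obtain ⟨E, hEp, -, hEσ, hEN, -⟩ := exists_data hr hT D
  have hEz : E.z = H.z := by rw [CycSD.Data.z, hEσ, hEN]; exact D.σ_four
  obtain ⟨⟨χ, hχ⟩, hcases⟩ := Deg.exists_small_char (D := E) hEp hEN
  change (χ 1 = 11 ∧ χ E.z = 3) ∨ (χ 1 = 13 ∧ χ E.z = -3) at hcases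
  rw [hEz] at hcases
  obtain ⟨n, ρ, -, rfl⟩ := hχ
  change ((ρ.character 1 = 11 ∧ ρ.character H.z = 3) ∨ (ρ.character 1 = 13 ∧ ρ.character H.z = -3)) at hcases
  have htr : ∀ g, LinearMap.trace ℂ (Fin n → ℂ) (ρ g) = ρ.character g := fun g => rfl
  have hinj : ∀ a : G, ρ a = 1 → a = 1 := by
    intro a ha
    rcases IsSimpleGroup.eq_bot_or_eq_top_of_normal (MonoidHom.ker ρ) inferInstance with h | h
    · exact (Subgroup.mem_bot).1 (h ▸ (MonoidHom.mem_ker.2 ha))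
    · exfalso
      have hz : ρ H.z = ρ 1 := by
        rw [map_one]; exact MonoidHom.mem_ker.1 (h ▸ mem_top _)
      have e : ρ.character H.z = ρ.character 1 := by rw [← htr, ← htr, hz]
      rcases hcases with ⟨h1, h2⟩ | ⟨h1, h2⟩ <;> rw [h1, h2] at e <;> norm_num at e
  have hdet : ∀ a : G, LinearMap.det (ρ a) = 1 := fun a => by
    have h := SmallSimple.Basic.hom_eq_one H.na ((LinearMap.det.comp ρ).toHomUnits) a
    simpa using congrArg Units.val h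
  obtain ⟨g, hgz, hgd⟩ := exists_swap hr hT D
  obtain ⟨j, hjQ, hij, -⟩ := exists_j hr hT D
  set i := D.σ ^ 2 with hi
  set h := i * g with hh
  have hhz : h * H.z * h⁻¹ = D.s * H.z := by rw [hh, ← conj_conj', hgz]; exact D.i_s
  have hiW : ∀ d ∈ A.W, i * d = d * i := fun d hd => A.comm i D.sq_mem d hd
  have hhd : ∀ d ∈ A.W, d * D.s = D.s * d → h * d = d * h := fun d hd hds =>
    ((show Commute i d from hiW d hd).mul_left (hgd d hd hds)).eq
  have hsC := hT.le D.s_mem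
  have hzs : H.z * D.s = D.s * H.z := (H.mem_C.1 hsC).symm
  have hZ : ∀ a ∈ A.ZW, a * H.z = H.z * a := fun a ha => H.mem_C.1 (A.WC ha.1)
  set Ep : Submodule ℂ (Fin n → ℂ) := LinearMap.ker (ρ H.z - 1) with hEpdef
  set Em : Submodule ℂ (Fin n → ℂ) := LinearMap.ker (ρ H.z + 1) with hEmdef
  have memp : ∀ v, v ∈ Ep ↔ ρ H.z v = v := fun v => by
    rw [hEpdef, LinearMap.mem_ker, LinearMap.sub_apply, Module.End.one_apply, sub_eq_zero]
  have memm : ∀ v, v ∈ Em ↔ ρ H.z v = -v := fun v => by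
    rw [hEmdef, LinearMap.mem_ker, LinearMap.add_apply, Module.End.one_apply, add_eq_zero_iff_eq_neg]
  have hzz : ∀ v, ρ H.z (ρ H.z v) = v := fun v => by rw [← Rep.apply_mul, H.zz, Rep.apply_one]
  have presp : ∀ y ∈ H.C, ∀ v ∈ Ep, ρ y v ∈ Ep := fun y hy v hv => by
    rw [memp, ← Rep.apply_mul, ← H.mem_C.1 hy, Rep.apply_mul, (memp v).1 hv]
  have presm : ∀ y ∈ H.C, ∀ v ∈ Em, ρ y v ∈ Em := fun y hy v hv => by
    rw [memm, ← Rep.apply_mul, ← H.mem_C.1 hy, Rep.apply_mul, (memm v).1 hv, map_neg]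
  have hx2C : H.x * H.x ∈ H.C := mul_mem H.x_mem H.x_mem
  have hfx2 : A.f ⟨H.x * H.x, hx2C⟩ = A.f ⟨H.x, H.x_mem⟩ * A.f ⟨H.x, H.x_mem⟩ := by rw [← map_mul]; rfl
  have hxfree : ∀ a ∈ A.ZW, H.x * a * H.x⁻¹ = a → a = 1 := fun a ha => A.ZW_free H.x_mem A.f_x_cube A.fx ha
  have hxfree2 : ∀ a ∈ A.ZW, H.x * H.x * a * (H.x * H.x)⁻¹ = a → a = 1 := fun a ha => by
    refine A.ZW_free hx2C ?_ ?_ ha
    · rw [hfx2, ← pow_two, ← pow_mul, show 2 * 3 = 3 * 2 from rfl, pow_mul, A.f_x_cube, one_pow]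
    · rw [hfx2]
      intro e
      refine A.fx ?_
      have := A.f_x_cube
      rw [pow_succ, pow_two, e, one_mul] at this
      exact this
  -- conjugation
  have hmove : ∀ y : G, ∀ d : G, y * d = d * y → (∀ v, ρ d (v - ρ H.z v) = v - ρ H.z v) →
      ∀ v, ρ d (v - ρ (y * H.z * y⁻¹) v) = v - ρ (y * H.z * y⁻¹) v := by
    intro y d hyd hd v
    have e : v - ρ (y * H.z * y⁻¹) v = ρ y (ρ y⁻¹ v - ρ H.z (ρ y⁻¹ v)) := by
      rw [map_sub, ← Rep.apply_mul, mul_inv_cancel, Rep.apply_one, ← Rep.apply_mul, ← Rep.apply_mul, mul_assoc]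
    rw [e, ← Rep.apply_mul, ← hyd, Rep.apply_mul, hd]
  -- the twists
  let t : Fin 3 → G := fun k => H.x ^ (k : ℕ) * D.s * (H.x ^ (k : ℕ))⁻¹
  have htC : ∀ k, t k ∈ H.C := fun k => mul_mem (mul_mem (pow_mem H.x_mem _) hsC) (inv_mem (pow_mem H.x_mem _))
  have hfree : ∀ k m, k ≠ m → ∀ a ∈ A.ZW, t k * t m * a * (t k * t m)⁻¹ = a → a = 1 := by
    intro k m hkm a ha
    obtain ⟨hs1, hs2⟩ := A.outside hr hT D.s_mem D.s_out
    obtain ⟨e1, e2⟩ := Three.conj_pairs _ _ hs1 hs2 A.f_x_cube A.fx k m hkm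
    refine A.ZW_free (mul_mem (htC k) (htC m)) ?_ ?_ ha
    all_goals
      rw [show (⟨t k * t m, _⟩ : ↥H.C) = ((⟨H.x, H.x_mem⟩ : ↥H.C) ^ (k : ℕ) * ⟨D.s, hsC⟩ *
          ((⟨H.x, H.x_mem⟩ : ↥H.C) ^ (k : ℕ))⁻¹) * ((⟨H.x, H.x_mem⟩ : ↥H.C) ^ (m : ℕ) * ⟨D.s, hsC⟩ *
          ((⟨H.x, H.x_mem⟩ : ↥H.C) ^ (m : ℕ))⁻¹) from rfl]
      simp only [map_mul, map_pow, map_inv]
    exacts [e1, e2]
  have plus : ∀ e : ℂ, (∀ d ∈ A.ZW, d * D.s = D.s * d → ∀ v ∈ Ep, ρ d (ρ D.s v - e • v) = ρ D.s v - e • v) →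
      ∀ a ∈ A.ZW, ∀ v ∈ Ep, ρ a v = v := by
    intro e hbase
    refine Rep.trivial_of_twists ρ A.ZW_comm (fun a ha => presp a (A.WC ha.1)) t
      (fun k => by
        show H.x ^ (k : ℕ) * D.s * (H.x ^ (k : ℕ))⁻¹ * (H.x ^ (k : ℕ) * D.s * (H.x ^ (k : ℕ))⁻¹) = 1
        rw [← conj_mul', D.s_sq]; simp)
      (fun k a ha => A.ZW_conj (htC k) ha) hfree (e := e) fun k d hd hdt v hv => ?_
    set y := H.x ^ (k : ℕ) with hy
    have hyC : y ∈ H.C := pow_mem H.x_mem _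
    have hd' : y⁻¹ * d * y ∈ A.ZW := by simpa using A.ZW_conj (inv_mem hyC) hd
    have hds : (y⁻¹ * d * y) * D.s = D.s * (y⁻¹ * d * y) := by
      have := (show Commute d (y * D.s * y⁻¹) from hdt).map (MulAut.conj y⁻¹).toMonoidHom
      simpa [mul_assoc] using this.eq
    have h1 := congrArg (ρ y) (hbase _ hd' hds (ρ y⁻¹ v) (presp _ (inv_mem hyC) v hv))
    rw [← Rep.apply_mul, show y * (y⁻¹ * d * y) = d * y by group, Rep.apply_mul, map_sub, map_smul,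
      ← Rep.apply_mul, ← Rep.apply_mul ρ y, mul_inv_cancel, Rep.apply_one, ← Rep.apply_mul] at h1
    exact h1
  -- all of the space
  have hall : ∀ a ∈ A.ZW, (∀ v ∈ Ep, ρ a v = v) → (∀ v ∈ Em, ρ a v = v) → a = 1 := by
    intro a _ hp hm
    refine hinj a (LinearMap.ext fun v => ?_)
    have e : v = (2 : ℂ)⁻¹ • (v + ρ H.z v) + (2 : ℂ)⁻¹ • (v - ρ H.z v) := by module
    rw [e, map_add, map_smul, map_smul, hp _ ((memp _).2 (by rw [map_add, hzz, add_comm])),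
      hm _ ((memm _).2 (by rw [map_sub, hzz, neg_sub]))]
    rfl
  rcases hcases with ⟨h1, h3⟩ | ⟨h1, h3⟩
  · -- degree eleven
    have hproj : LinearMap.IsProj Em ((2 : ℂ)⁻¹ • (ρ 1 - ρ H.z)) := ⟨fun v => by
        rw [memm]; simp only [LinearMap.smul_apply, LinearMap.sub_apply, Rep.apply_one, map_smul, map_sub, hzz]
        module,
      fun v hv => by
        simp only [LinearMap.smul_apply, LinearMap.sub_apply, Rep.apply_one, (memm v).1 hv]
        module⟩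
    have hdim : Module.finrank ℂ Em ≤ 5 := by
      have ht := hproj.trace
      rw [map_smul, map_sub, htr, htr, h1, h3, smul_eq_mul] at ht
      have h4 : (Module.finrank ℂ Em : ℂ) = 4 := by rw [← ht]; norm_num
      have : Module.finrank ℂ Em = 4 := by exact_mod_cast h4
      omega
    have hm := Rep.trivial_small ρ A.ZW_comm (fun a ha => presm a (A.WC ha.1)) hdim (x := H.x) (i := i) (j := j)
      (fun a ha => A.ZW_conj H.x_mem ha) (presm _ (inv_mem H.x_mem)) hxfree hxfree2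
      (fun a ha => (hiW a ha.1).symm) (fun a ha => (A.comm j hjQ a ha.1).symm)
      (presm i (A.QC D.sq_mem)) (presm j (A.QC hjQ))
      (fun v hv => by rw [← Rep.apply_mul, D.i_sq]; exact (memm v).1 hv)
      (fun v hv => by
        rw [← Rep.apply_mul, hij, Rep.apply_mul, Rep.apply_mul]
        exact (memm _).1 (presm j (A.QC hjQ) _ (presm i (A.QC D.sq_mem) v hv)))
    have hminus : ∀ a ∈ A.ZW, ∀ v, ρ a (v - ρ H.z v) = v - ρ H.z v := fun a ha v =>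
      hm a ha _ ((memm _).2 (by rw [map_sub, hzz, neg_sub]))
    have hp := plus 1 fun d hd hds v _ => by
      have := hmove g d (hgd d hd.1 hds) (hminus d hd) v
      rw [hgz] at this
      rw [one_smul, ← neg_sub, map_neg, this]
    exact fun a ha => hall a ha (hp a ha) (hm a ha)
  · -- degree thirteen
    have hline : ∀ d ∈ A.ZW, d * D.s = D.s * d → ∀ v, ρ H.z v = v → ρ D.s v = v → ρ d v = v := by
      intro d hd hds
      refine Rep.line_fixed ρ H.zz D.s_sq hzs (hZ d hd) hds (hgd d hd.1 hds) (hhd d hd.1 hds) hgz hhz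
        (A.W_orderOf hd.1) hdet ?_ ?_
      · set e := (2 : ℂ)⁻¹ • (1 + ρ H.z) with he
        have hee : e * e = e := by
          have h2 : ρ H.z * ρ H.z = 1 := by rw [← map_mul, H.zz, map_one]
          rw [he, smul_mul_smul_comm, show (1 + ρ H.z) * (1 + ρ H.z) = (1 + ρ H.z) + (1 + ρ H.z) by
            rw [add_mul, one_mul, mul_add, mul_one, h2]; abel]
          module
        have hce : ∀ y ∈ H.C, Commute (ρ y) e := fun y hy =>
          ((Commute.one_right _).add_right (show ρ y * ρ H.z = ρ H.z * ρ y by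
            rw [← map_mul, H.mem_C.1 hy, map_mul])).smul_right _
        have hinjx : Function.Injective (fun b : A.ZW =>
            (⟨(b : G)⁻¹ * (H.x * b * H.x⁻¹), mul_mem (inv_mem b.2) (A.ZW_conj H.x_mem b.2)⟩ : A.ZW)) := by
          intro b c hbc
          have eq : (b : G)⁻¹ * (H.x * b * H.x⁻¹) = (c : G)⁻¹ * (H.x * c * H.x⁻¹) := congrArg Subtype.val hbc
          refine Subtype.ext (mul_inv_eq_one.1 (hxfree _ (mul_mem c.2 (inv_mem b.2)) ?_)).symm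
          rw [show H.x * ((c : G) * (b : G)⁻¹) * H.x⁻¹ = (H.x * c * H.x⁻¹) * (H.x * b * H.x⁻¹)⁻¹ by group,
            show H.x * (c : G) * H.x⁻¹ = c * ((c : G)⁻¹ * (H.x * c * H.x⁻¹)) by group, ← eq]
          group
        obtain ⟨⟨b, hb⟩, hbd⟩ := Finite.surjective_of_injective hinjx ⟨d, hd⟩
        have hbd' : b⁻¹ * (H.x * b * H.x⁻¹) = d := congrArg Subtype.val hbd
        have hx' : LinearMap.det (Rep.twist ρ e (H.x * b * H.x⁻¹)) = LinearMap.det (Rep.twist ρ e b) := by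
          have hconj := congrArg LinearMap.det (Rep.twist_conj ρ H.x e b)
          rw [map_mul, map_mul, hdet, hdet, one_mul, mul_one] at hconj
          rw [hconj, (hce H.x H.x_mem).eq, mul_assoc e, ← map_mul, mul_inv_cancel, map_one, mul_one]
        rw [← hbd', Rep.twist_mul ρ hee (hce _ (A.WC (A.ZW_conj H.x_mem hb).1)), map_mul, hx', ← map_mul,
          ← Rep.twist_mul ρ hee (hce b (A.WC hb.1)), inv_mul_cancel, Rep.twist_one, map_one]
      · have hs' : ρ.character D.s = -3 := by rw [← hgz, Representation.char_conj, h3]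
        have hsz' : ρ.character (H.z * D.s) = -3 := by rw [hzs, ← hhz, Representation.char_conj, h3]
        rw [htr, htr, htr, htr, h1, h3, hs', hsz']
        norm_num
    have hp := plus (-1) fun d hd hds v hv => by
      rw [neg_smul, one_smul, sub_neg_eq_add]
      refine hline d hd hds _ ?_ ?_
      · rw [map_add, ← Rep.apply_mul, hzs, Rep.apply_mul, (memp v).1 hv]
      · rw [map_add, ← Rep.apply_mul, D.s_sq, Rep.apply_one, add_comm]
    intro a ha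
    -- `d` on the minus space
    suffices hd : ∀ d ∈ A.ZW, d * D.s = D.s * d → ∀ v, ρ d v = v by
      -- the elements fixed by `s` and their images exhaust the centre
      have hone : ∀ d ∈ A.ZW, d * D.s = D.s * d → d = 1 := fun d hd' hds => hinj d (LinearMap.ext (hd d hd' hds))
      exact ZW_inverted hr hT D hone a ha
    intro d hd hds v
    have hplus : ∀ v, ρ d (v + ρ H.z v) = v + ρ H.z v := fun v =>
      hp d hd _ ((memp _).2 (by rw [map_add, hzz, add_comm]))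
    have move : ∀ y : G, y * d = d * y → ∀ v, ρ d (v + ρ (y * H.z * y⁻¹) v) = v + ρ (y * H.z * y⁻¹) v := by
      intro y hyd v
      have e : v + ρ (y * H.z * y⁻¹) v = ρ y (ρ y⁻¹ v + ρ H.z (ρ y⁻¹ v)) := by
        rw [map_add, ← Rep.apply_mul, mul_inv_cancel, Rep.apply_one, ← Rep.apply_mul, ← Rep.apply_mul, mul_assoc]
      rw [e, ← Rep.apply_mul, ← hyd, Rep.apply_mul, hplus]
    have hS := move g (hgd d hd.1 hds) v
    have hSZ := move h (hhd d hd.1 hds) v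
    rw [hgz] at hS
    rw [hhz] at hSZ
    have hS' := hplus (ρ D.s v)
    rw [← Rep.apply_mul ρ H.z D.s, hzs] at hS'
    have e : v = (2 : ℂ)⁻¹ • ((v + ρ D.s v) + (v + ρ (D.s * H.z) v) - (ρ D.s v + ρ (D.s * H.z) v)) := by module
    rw [e, map_smul, map_sub, map_add, hS, hSZ, hS']

theorem W_eq_one : ∀ w ∈ A.W, w = 1 := by
  haveI := A.W_nil
  by_contra hne
  push Not at hne
  obtain ⟨w, hw, hw1⟩ := hne
  haveI : Nontrivial ↥A.W := ⟨⟨w, hw⟩, 1, fun e => hw1 (congrArg Subtype.val e)⟩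
  obtain ⟨⟨c, hc⟩, hcc, hc1⟩ := (bot_or_exists_ne_one (center ↥A.W)).resolve_left
    (Group.IsNilpotent.center_ne_bot ↥A.W)
  refine hc1 (Subtype.ext (ZW_eq_bot hr hT D c ⟨hc, mem_centralizer_iff.2 fun v hv => ?_⟩))
  exact congrArg Subtype.val (mem_center_iff.1 hcc ⟨v, hv⟩)

omit hT D in
/-- Without a normal four-group the group is `L₃(3)` or `M₁₁`. -/
theorem no_four (hfour : A.NoFour) (h2 : 2 < Nat.card A.Q) :
    (∃ (F : Type) (_ : Field F) (_ : Fintype F), Fintype.card F = 3 ∧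
        Nonempty (G ≃* Matrix.ProjectiveSpecialLinearGroup (Fin 3) F)) ∨ Cfsg.Spor.IsoM11 G := by
  haveI := H.simple
  obtain ⟨T, hTz, hTc⟩ := H.exists_sylow
  have hT : H.Central T := ⟨hTz, hTc⟩
  obtain ⟨D⟩ := A.exists_quat hr hT hfour h2
  obtain ⟨φ, hφs, hφ⟩ := exists_gl hr hT D
  have hinj : Function.Injective φ := (injective_iff_map_eq_one φ).2 fun c hc =>
    Subtype.ext (W_eq_one hr hT D c ((hφ c).1 hc))
  exact S2916.result (GLTwoThree.pResidual_eq_top_of_simple (g := H.x)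
    (fun e => by have := H.x_three; rw [e, orderOf_one] at this; norm_num at this)
    (by rw [H.x_three]; decide)) H.z H.z_inv ⟨MulEquiv.ofBijective φ ⟨hinj, hφs⟩⟩

end CaseA

end Hyp

end Cfsg.Agent.SelfSix
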