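import Cfsg.Agent.Lib.SelfSix.CaseASixBound
import Cfsg.Agent.ASolv.CubicMono
import Cfsg.Agent.Lib.M12Central.Model
import Cfsg.Agent.Lib.M12Central.CentB
import Cfsg.Agent.S3344

/-!
# The quotient `S₃`: no involution is moved only modulo `z`

The radical would be extraspecial of order 32, and the groups with such a centralizer have two classes
of involutions or are not simple.
-/

set_option autoImplicit false
set_option linter.style.haveILetI false
set_option linter.unusedSectionVars false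

namespace Cfsg.Agent.SelfSix

open Subgroup

theorem alt_classes_false {n : ℕ} (a b : Equiv.Perm (Fin n)) (ha : a ∈ alternatingGroup (Fin n))
    (hb : b ∈ alternatingGroup (Fin n)) (ha2 : orderOf a = 2) (hb2 : orderOf b = 2)
    (hne : a.cycleType ≠ b.cycleType) {G : Type*} [Group G] (e : G ≃* alternatingGroup (Fin n))
    (hone : ∀ x y : G, orderOf x = 2 → orderOf y = 2 → IsConj x y) : False := by
  have h := hone (e.symm ⟨a, ha⟩) (e.symm ⟨b, hb⟩) (by rw [e.symm.orderOf_eq, ← orderOf_coe]; exact ha2)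
    (by rw [e.symm.orderOf_eq, ← orderOf_coe]; exact hb2)
  have h' := ((alternatingGroup (Fin n)).subtype.comp e.toMonoidHom).map_isConj h
  simp only [MonoidHom.coe_comp, MulEquiv.coe_toMonoidHom, Function.comp_apply, MulEquiv.apply_symm_apply,
    Subgroup.coe_subtype] at h'
  exact hne (Equiv.Perm.isConj_iff_cycleType_eq.1 h')

theorem alt_eight_false {G : Type*} [Group G] (e : G ≃* alternatingGroup (Fin 8))
    (hone : ∀ x y : G, orderOf x = 2 → orderOf y = 2 → IsConj x y) : False := by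
  haveI : Fact (Nat.Prime 2) := ⟨Nat.prime_two⟩
  refine alt_classes_false (Equiv.swap 0 1 * Equiv.swap 2 3)
    (Equiv.swap 0 1 * Equiv.swap 2 3 * Equiv.swap 4 5 * Equiv.swap 6 7) ?_ ?_
    (orderOf_eq_prime (by decide +kernel) (by decide +kernel)) (orderOf_eq_prime (by decide +kernel) (by decide +kernel))
    ?_ e hone
  · rw [Equiv.Perm.mem_alternatingGroup]; decide +kernel
  · rw [Equiv.Perm.mem_alternatingGroup]; decide +kernel
  · decide +kernel

theorem alt_nine_false {G : Type*} [Group G] (e : G ≃* alternatingGroup (Fin 9))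
    (hone : ∀ x y : G, orderOf x = 2 → orderOf y = 2 → IsConj x y) : False := by
  haveI : Fact (Nat.Prime 2) := ⟨Nat.prime_two⟩
  refine alt_classes_false (Equiv.swap 0 1 * Equiv.swap 2 3)
    (Equiv.swap 0 1 * Equiv.swap 2 3 * Equiv.swap 4 5 * Equiv.swap 6 7) ?_ ?_
    (orderOf_eq_prime (by decide +kernel) (by decide +kernel)) (orderOf_eq_prime (by decide +kernel) (by decide +kernel))
    ?_ e hone
  · rw [Equiv.Perm.mem_alternatingGroup]; decide +kernel
  · rw [Equiv.Perm.mem_alternatingGroup]; decide +kernel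
  · decide +kernel

theorem mathieu_twelve_false {G : Type*} [Group G] (h : Cfsg.Spor.IsoM12 G)
    (hone : ∀ x y : G, orderOf x = 2 → orderOf y = 2 → IsConj x y) : False := by
  obtain ⟨θ⟩ := h
  have h1 := hone (θ.symm M12Central.Model.z0) (θ.symm M12Central.Model.localM12.b)
    (by rw [θ.symm.orderOf_eq]; exact M12Central.Model.localM12.orderOf_t)
    (by rw [θ.symm.orderOf_eq]; exact M12Central.Model.localM12.orderOf_b)
  have h2 := θ.toMonoidHom.map_isConj h1
  simp only [MulEquiv.coe_toMonoidHom, MulEquiv.apply_symm_apply] at h2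
  exact M12Central.Model.localM12.not_conj_b h2

variable {G : Type*} [Group G] [Finite G]

namespace Hyp

variable {H : Hyp G}

namespace CaseA

namespace Moved

variable {A : H.CaseA} (hr : Nat.card A.f.range = 6) {T : Sylow 2 G} (hT : H.Central T)
include hr hT
variable (D : A.Moved T)
include D

theorem card_Q (h2 : 2 < Nat.card A.Q) : Nat.card A.Q = 32 := by
  haveI : Fact (Nat.Prime 2) := ⟨Nat.prime_two⟩
  have hb := D.card_T_le hr hT h2
  rw [← A.card_T hr hT] at hb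
  obtain ⟨n, hn⟩ := two_group_card A.hQ
  have h3 := A.card_Q_mod
  rw [hn] at hb h2 h3 ⊢
  have hn6 : n ≤ 6 := by
    by_contra hlt
    have : 2 ^ 7 ≤ 2 ^ n := Nat.pow_le_pow_right (by norm_num) (by omega)
    omega
  rcases (show n = 3 ∨ n = 5 by interval_cases n <;> simp_all) with rfl | rfl
  swap
  · norm_num
  exfalso
  have hxT : ∀ g ∈ A.Q, H.x⁻¹ * g * H.x ∈ A.Q := fun g hg => by simpa using A.Qn _ (inv_mem H.x_mem) g hg
  have hact : ∀ g ∈ A.Q, g * D.u * g⁻¹ = D.u ∨ g * D.u * g⁻¹ = H.z * D.u := fun g hg => A.Y_act D.u_Y (Or.inr hg)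
  set w := H.x * D.u * H.x⁻¹ with hw
  have hwQ : w ∈ A.Q := A.Qn _ H.x_mem _ (A.Y_le D.u_Y)
  have hwu : D.u * w = w * D.u := A.twist_comm (A.Y_le D.u_Y) D.u_sq hact
  have hne1 : ∀ e, D.u * D.u = 1 → (H.x * D.u * H.x⁻¹ * D.u⁻¹ = e) → e ∈ zpowers H.z → False := fun e _ he hez =>
    (A.fixed_Q_mod (A.Y_le D.u_Y) (he ▸ hez)).elim D.u_one D.u_z
  have hsub : ({1, H.z, D.u, H.z * D.u, w} : Set G) ⊆ (D.M0 : Subgroup G) := by
    rintro a (rfl | rfl | rfl | rfl | rfl)
    · exact one_mem _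
    · exact (D.mem_M0 hr hT).2 ⟨A.zQ, (H.mem_C.1 (A.QC (A.Y_le D.u_Y))).symm⟩
    · exact (D.mem_M0 hr hT).2 ⟨A.Y_le D.u_Y, rfl⟩
    · exact mul_mem ((D.mem_M0 hr hT).2 ⟨A.zQ, (H.mem_C.1 (A.QC (A.Y_le D.u_Y))).symm⟩)
        ((D.mem_M0 hr hT).2 ⟨A.Y_le D.u_Y, rfl⟩)
    · exact (D.mem_M0 hr hT).2 ⟨hwQ, hwu.symm⟩
  have hc := D.card_M0 hr hT (by rw [hn]; norm_num)
  rw [hn] at hc
  have h := Set.ncard_le_ncard hsub (Set.toFinite _)
  have hinj : D.u ≠ H.z * D.u := fun h => H.z_ne (mul_eq_right.1 h.symm)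
  have hw1 : w ≠ 1 := fun h => D.u_one (conj_eq_one_iff.1 h)
  have hwz : w ≠ H.z := fun h => D.u_z ((MulAut.conj H.x).injective (h.trans H.x_conj_z.symm))
  have hwu1 : w ≠ D.u := fun h => hne1 1 D.u_sq (by rw [← hw, h, mul_inv_cancel]) (one_mem _)
  have hwzu : w ≠ H.z * D.u := fun h => hne1 H.z D.u_sq (by rw [← hw, h, mul_inv_cancel_right]) (mem_zpowers _)
  have h5 : ({1, H.z, D.u, H.z * D.u, w} : Set G).ncard = 5 := by
    rw [Set.ncard_insert_of_notMem (by
      simp only [Set.mem_insert_iff, Set.mem_singleton_iff]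
      rintro (h | h | h | h)
      exacts [H.z_ne h.symm, D.u_one h.symm, D.u_z ((eq_inv_of_mul_eq_one_right h.symm).trans (inv_eq_of_mul_eq_one_right H.zz)), hw1 h.symm])
      (Set.toFinite _), Set.ncard_insert_of_notMem (by
      simp only [Set.mem_insert_iff, Set.mem_singleton_iff]
      rintro (h | h | h)
      exacts [D.u_z h.symm, D.u_one (mul_eq_left.1 h.symm), hwz h.symm]) (Set.toFinite _),
      Set.ncard_eq_three.2 ⟨D.u, H.z * D.u, w, hinj, hwu1.symm, hwzu.symm, rfl⟩]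
  rw [h5, ← Nat.card_coe_set_eq] at h
  change 5 ≤ Nat.card D.M0 at h
  omega

set_option maxHeartbeats 800000 in
/-- The radical would be extraspecial with centre `⟨z⟩`. -/
theorem false_of_moved (h2 : 2 < Nat.card A.Q) : False := by
  classical
  haveI : Fact (Nat.Prime 2) := ⟨Nat.prime_two⟩
  haveI : Fact (Nat.Prime 3) := ⟨Nat.prime_three⟩
  have hQ32 := D.card_Q hr hT h2
  have hx3 := three_facts H.x_three
  have hzc : ∀ g ∈ A.Q, g * H.z = H.z * g := fun g hg => H.mem_C.1 (A.QC hg)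
  set u := D.u with hu
  set w := H.x * u * H.x⁻¹ with hw
  set v := H.x * w * H.x⁻¹ with hv
  have hxv : H.x * v * H.x⁻¹ = u := by
    rw [hv, hw, conj_conj', conj_conj', hx3.2.1]; simp
  set Y0 := A.Y A.Q with hY0
  have huY : u ∈ Y0 := ⟨A.Y_le D.u_Y, D.u_Y.2.1, fun g hg => D.u_Y.2.2 g (Or.inr (hg.elim id id))⟩
  have hxY : ∀ d ∈ Y0, H.x * d * H.x⁻¹ ∈ Y0 := fun d hd =>
    A.Y_x H.x_mem (fun g hg => by simpa using A.Qn _ (inv_mem H.x_mem) g hg) hd
  have hwY : w ∈ Y0 := hxY u huY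
  have hvY : v ∈ Y0 := hxY w hwY
  have hY0Q : Y0 ≤ A.Q := A.Y_le
  have hzY : H.z ∈ Y0 := A.z_Y A.QC
  have hY0 : Y0 = A.Q := by
    by_contra hne
    have hw2 : w * w = 1 := by rw [hw, ← conj_mul', D.u_sq]; simp
    have huw : u * w = w * u := A.twist_comm (A.Y_le D.u_Y) D.u_sq fun g hg => A.Y_act D.u_Y (Or.inr hg)
    set F := closure ({H.z, u, w} : Set G) with hF
    have hFY : F ≤ Y0 := (closure_le _).2 (by rintro a (rfl | rfl | rfl); exacts [hzY, huY, hwY])
    have hY08 : Nat.card Y0 = 8 ∧ F = Y0 := by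
      obtain ⟨m, hm⟩ := two_group_card (A.hQ.to_le hY0Q)
      have h32 : Nat.card Y0 < 32 := by
        have h := card_le_of_le hY0Q
        by_contra hlt
        exact hne (eq_of_le_of_card_ge hY0Q (by omega))
      have hmod := A.card_mod hY0Q hzY hxY
      have hwu1 : w ≠ u := fun h => (A.fixed_Q (A.Y_le D.u_Y) h).elim D.u_one D.u_z
      have huw1 : u * w ≠ 1 := fun h => hwu1 ((eq_inv_of_mul_eq_one_right h).trans (inv_eq_of_mul_eq_one_right D.u_sq))
      have huwz : u * w ≠ H.z := fun h => (A.fixed_Q_mod (A.Y_le D.u_Y) (H.mem_zpowers_z.2 (Or.inr (by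
        rw [← hw, inv_eq_of_mul_eq_one_right D.u_sq, ← huw, h])))).elim D.u_one D.u_z
      have hsub : ({1, H.z, u, w, u * w} : Set G) ⊆ (F : Set G) := by
        have hz := subset_closure (show H.z ∈ ({H.z, u, w} : Set G) from Or.inl rfl)
        have hu' := subset_closure (show u ∈ ({H.z, u, w} : Set G) from Or.inr (Or.inl rfl))
        have hw' := subset_closure (show w ∈ ({H.z, u, w} : Set G) from Or.inr (Or.inr rfl))
        rintro a (rfl | rfl | rfl | rfl | rfl)
        exacts [one_mem _, hz, hu', hw', mul_mem hu' hw']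
      have h5 : ({1, H.z, u, w, u * w} : Set G).ncard = 5 := by
        have hw1 : w ≠ 1 := fun h => D.u_one (conj_eq_one_iff.1 h)
        have hwz : w ≠ H.z := fun h => D.u_z ((MulAut.conj H.x).injective (h.trans H.x_conj_z.symm))
        rw [Set.ncard_insert_of_notMem (by
          simp only [Set.mem_insert_iff, Set.mem_singleton_iff]
          rintro (h | h | h | h)
          exacts [H.z_ne h.symm, D.u_one h.symm, hw1 h.symm, huw1 h.symm]) (Set.toFinite _),
          Set.ncard_insert_of_notMem (by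
          simp only [Set.mem_insert_iff, Set.mem_singleton_iff]
          rintro (h | h | h)
          exacts [D.u_z h.symm, hwz h.symm, huwz h.symm]) (Set.toFinite _),
          Set.ncard_eq_three.2 ⟨u, w, u * w, hwu1.symm, fun h => hw1 (mul_eq_left.1 h.symm),
            fun h => D.u_one (mul_eq_right.1 h.symm), rfl⟩]
      have h := Set.ncard_le_ncard hsub (Set.toFinite _)
      rw [h5, ← Nat.card_coe_set_eq] at h
      change 5 ≤ Nat.card F at h
      obtain ⟨l, hl⟩ := two_group_card (A.hQ.to_le (hFY.trans hY0Q))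
      have hlY := card_le_of_le hFY
      rw [hm] at h32 hmod hlY
      rw [hl] at h hlY
      have hm5 : m < 5 := (Nat.pow_lt_pow_iff_right (by norm_num : 1 < 2)).1 (by norm_num; omega)
      have hlm : l ≤ m := (Nat.pow_le_pow_iff_right (le_refl 2)).1 hlY
      have h83 : l = 3 ∧ m = 3 := by interval_cases m <;> interval_cases l <;> simp_all
      refine ⟨by rw [hm, h83.2]; rfl, eq_of_le_of_card_ge hFY ?_⟩
      rw [hl, hm, h83.1, h83.2]
    -- `Y0` is elementary abelian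
    have hgen : ∀ g ∈ A.Q, g * u = u * g → g * w = w * g → ∀ d ∈ Y0, g * d = d * g := by
      intro g hg h1 h2' d hd
      rw [← hY08.2] at hd
      refine (mem_centralizer_singleton_iff.1 ((closure_le (centralizer ({g} : Set G))).2 ?_ hd)).symm
      rintro a (rfl | rfl | rfl)
      exacts [mem_centralizer_singleton_iff.2 (hzc g hg).symm, mem_centralizer_singleton_iff.2 h1.symm,
        mem_centralizer_singleton_iff.2 h2'.symm]
    have huc : ∀ d ∈ Y0, u * d = d * u := hgen u (A.Y_le D.u_Y) rfl huw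
    have hwc : ∀ d ∈ Y0, w * d = d * w := hgen w (hY0Q hwY) huw.symm rfl
    have hYc : ∀ d ∈ Y0, ∀ e ∈ Y0, d * e = e * d := fun d hd =>
      hgen d (hY0Q hd) (huc d hd).symm (hwc d hd).symm
    have hY2 : ∀ d ∈ Y0, d * d = 1 := by
      intro d hd
      rw [← hY08.2] at hd
      induction hd using closure_induction with
      | mem a ha => rcases ha with rfl | rfl | rfl; exacts [H.zz, D.u_sq, hw2]
      | one => exact one_mul 1
      | mul a b ha hb iha ihb =>
        rw [(show Commute b a from hYc b (hFY hb) a (hFY ha)).mul_mul_mul_comm, iha, ihb, one_mul]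
      | inv a _ iha => rw [← mul_inv_rev, iha, inv_one]
    -- the centralizer of `Y0`
    set C0 := A.Q ⊓ centralizer (Y0 : Set G) with hC0
    have hC0eq : C0 = Y0 := by
      refine (eq_of_le_of_card_ge (show Y0 ≤ C0 from fun d hd =>
        mem_inf.2 ⟨hY0Q hd, mem_centralizer_iff.2 fun e he => hYc e he d hd⟩) ?_).symm
      obtain ⟨m, hm⟩ := two_group_card (A.hQ.to_le (inf_le_left : C0 ≤ A.Q))
      have hmod := A.card_mod (inf_le_left : C0 ≤ A.Q) ⟨A.zQ, mem_centralizer_iff.2 fun e he => hzc e (hY0Q he)⟩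
        (fun d hd => ⟨A.Qn _ H.x_mem d hd.1, mem_centralizer_iff.2 fun e he => by
          have he' : H.x⁻¹ * e * H.x ∈ Y0 := by
            have := hxY _ (hxY e he)
            rwa [conj_conj', ← hx3.2.2.2, inv_inv] at this
          have h := (show Commute (H.x⁻¹ * e * H.x) d from mem_centralizer_iff.1 hd.2 _ he').map
            (MulAut.conj H.x).toMonoidHom
          simp only [MulEquiv.coe_toMonoidHom, MulAut.conj_apply] at h
          rw [show H.x * (H.x⁻¹ * e * H.x) * H.x⁻¹ = e by group] at h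
          exact h.eq⟩)
      have hlt : Nat.card C0 < 32 := by
        have h := card_le_of_le (inf_le_left : C0 ≤ A.Q)
        by_contra hge
        have heq : C0 = A.Q := eq_of_le_of_card_ge inf_le_left (by omega)
        refine (A.centre hr hT h2 ⟨A.Y_le D.u_Y, D.u_sq, fun g hg => ?_⟩).elim D.u_one D.u_z
        rw [← heq] at hg
        exact (mem_centralizer_iff.1 hg.2 u huY).symm
      rw [hm] at hlt hmod ⊢
      rw [hY08.1]
      have hm5 : m < 5 := (Nat.pow_lt_pow_iff_right (by norm_num : 1 < 2)).1 (by norm_num; omega)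
      interval_cases m <;> simp_all
    have hdet : ∀ g ∈ A.Q, g * u = u * g → g * w = w * g → g ∈ Y0 := fun g hg h1 h2' => by
      rw [← hC0eq]
      exact ⟨hg, mem_centralizer_iff.2 fun e he => (hgen g hg h1 h2' e he).symm⟩
    -- an element of `M0` outside
    obtain ⟨q, hqM, hqY⟩ : ∃ q ∈ D.M0, q ∉ Y0 := by
      by_contra hcon
      push Not at hcon
      have h := card_le_of_le (show D.M0 ≤ Y0 from hcon)
      have hM := D.card_M0 hr hT h2
      omega
    obtain ⟨hq, hqu⟩ := (D.mem_M0 hr hT).1 hqM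
    have hqu' : q * u * q⁻¹ = u := eq_conj_iff.2 hqu
    have hqw : q * w * q⁻¹ = H.z * w :=
      (A.Y_act hwY (Or.inr hq)).resolve_left fun h => hqY (hdet q hq hqu (eq_conj_iff.1 h))
    set q1 := H.x * q * H.x⁻¹ with hq1
    have hq1Q : q1 ∈ A.Q := A.Qn _ H.x_mem q hq
    have hq1w : q1 * w * q1⁻¹ = w := by
      rw [hq1, hw, show H.x * q * H.x⁻¹ * (H.x * u * H.x⁻¹) * (H.x * q * H.x⁻¹)⁻¹ = H.x * (q * u * q⁻¹) * H.x⁻¹ by group, hqu']
    have hq1v : q1 * v * q1⁻¹ = H.z * v := by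
      rw [hq1, hv, show H.x * q * H.x⁻¹ * (H.x * w * H.x⁻¹) * (H.x * q * H.x⁻¹)⁻¹ = H.x * (q * w * q⁻¹) * H.x⁻¹ by group, hqw,
        conj_mul', H.x_conj_z]
    obtain ⟨e, he, hve⟩ : ∃ e, (e = 1 ∨ e = H.z) ∧ v = w * u * e := by
      refine ⟨u * w * v, A.fixed_Q (hY0Q (mul_mem (mul_mem huY hwY) hvY)) ?_, ?_⟩
      · rw [conj_mul', conj_mul', ← hw, ← hv, hxv]
        rw [mul_assoc w v u, ← huc v hvY, ← mul_assoc, ← huw]
      · calc v = w * (u * u) * w * v := by rw [D.u_sq, mul_one, hw2, one_mul]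
          _ = w * u * (u * w * v) := by group
    have hq1e : q1 * e * q1⁻¹ = e := by
      rcases he with rfl | rfl
      · simp
      · exact H.conj_z (A.QC hq1Q)
    have hq1u : q1 * u * q1⁻¹ = H.z * u := by
      have h := hq1v
      rw [hve, conj_mul', conj_mul', hq1w, hq1e] at h
      exact mul_left_cancel (mul_right_cancel (h.trans (show H.z * (w * u * e) = w * (H.z * u) * e by
        rw [← mul_assoc, ← mul_assoc, ← hzc w (hY0Q hwY), mul_assoc w H.z u])))
    set q2 := H.x * q1 * H.x⁻¹ with hq2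
    have hq2Q : q2 ∈ A.Q := A.Qn _ H.x_mem q1 hq1Q
    have hq2w : q2 * w * q2⁻¹ = H.z * w := by
      rw [hq2, hw, show H.x * q1 * H.x⁻¹ * (H.x * u * H.x⁻¹) * (H.x * q1 * H.x⁻¹)⁻¹ = H.x * (q1 * u * q1⁻¹) * H.x⁻¹ by group,
        hq1u, conj_mul', H.x_conj_z]
    have hq2u : q2 * u * q2⁻¹ = H.z * u := by
      rw [hq2, ← hxv, show H.x * q1 * H.x⁻¹ * (H.x * v * H.x⁻¹) * (H.x * q1 * H.x⁻¹)⁻¹ = H.x * (q1 * v * q1⁻¹) * H.x⁻¹ by group,
        hq1v, conj_mul', H.x_conj_z]
    have hq12u : q * q1 * u * (q * q1)⁻¹ = H.z * u := by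
      rw [← conj_conj', hq1u, conj_mul', H.conj_z (A.QC hq), hqu']
    have hq12w : q * q1 * w * (q * q1)⁻¹ = H.z * w := by rw [← conj_conj', hq1w, hqw]
    have hdet' : ∀ a ∈ A.Q, ∀ g ∈ A.Q, g * u * g⁻¹ = a * u * a⁻¹ → g * w * g⁻¹ = a * w * a⁻¹ → a⁻¹ * g ∈ Y0 := by
      intro a ha g hg h1 h2'
      refine hdet _ (A.Q.mul_mem (A.Q.inv_mem ha) hg) (eq_conj_iff.1 ?_) (eq_conj_iff.1 ?_)
      · rw [← conj_conj', h1]; group
      · rw [← conj_conj', h2']; group
    set d := (q * q1)⁻¹ * q2 with hd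
    have hdY : d ∈ Y0 := hdet' _ (mul_mem hq hq1Q) q2 hq2Q (hq2u.trans hq12u.symm) (hq2w.trans hq12w.symm)
    set c := q1 * q * q1⁻¹ * q⁻¹ with hc
    have hcY : c ∈ Y0 := by
      have hQc : c ∈ A.Q := mul_mem (mul_mem (mul_mem hq1Q hq) (inv_mem hq1Q)) (inv_mem hq)
      have h1 := hdet' (q * q1) (mul_mem hq hq1Q) (q1 * q) (mul_mem hq1Q hq)
        (by rw [hq12u, ← conj_conj', hqu', hq1u])
        (by rw [hq12w, ← conj_conj', hqw, conj_mul', H.conj_z (A.QC hq1Q), hq1w])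
      have h2' : c = (q * q1) * ((q * q1)⁻¹ * (q1 * q)) * (q * q1)⁻¹ := by rw [hc]; group
      rw [h2']
      exact A.Y_conj A.QC h1 (Or.inr (mul_mem hq hq1Q))
    have hdq1 : d * q1 * d⁻¹ * q1⁻¹ ∈ zpowers H.z := by
      rw [show d * q1 * d⁻¹ * q1⁻¹ = (q1 * d * q1⁻¹ * d⁻¹)⁻¹ by group]
      exact inv_mem (hdY.2.2 q1 (Or.inr hq1Q))
    have hcz : c ∈ zpowers H.z := by
      refine H.mem_zpowers_z.2 (A.fixed_Q_mod (hY0Q hcY) ?_)
      have e1 : H.x * c * H.x⁻¹ = q2 * q1 * q2⁻¹ * q1⁻¹ := by rw [hc, hq2, hq1]; group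
      have e2 : q2 * q1 * q2⁻¹ * q1⁻¹ = q * q1 * (d * q1 * d⁻¹ * q1⁻¹) * (q * q1)⁻¹ * c⁻¹ := by rw [hc, hd]; group
      have e3 : c⁻¹ * c⁻¹ = 1 := by rw [← mul_inv_rev, hY2 c hcY, inv_one]
      rw [e1, e2, conj_zpowers (A.QC (mul_mem hq hq1Q)) hdq1, mul_assoc, e3, mul_one]
      exact hdq1
    have hqq : q * q ∈ Y0 := by
      have h := hdet' 1 (one_mem _) (q * q) (mul_mem hq hq) (by rw [← conj_conj', hqu', hqu']; simp)
        (by rw [← conj_conj', hqw, conj_mul', H.conj_z (A.QC hq), hqw, ← mul_assoc, H.zz]; simp)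
      simpa using h
    have hq1qq : Commute q1 (q * q) := by
      refine eq_conj_iff.1 ?_
      have e1 : q1 * q * q1⁻¹ = c * q := by rw [hc]; group
      rw [conj_mul', e1]
      rcases H.mem_zpowers_z.1 hcz with e' | e' <;> rw [e']
      · rw [one_mul]
      · rw [(show Commute q H.z from hzc q hq).mul_mul_mul_comm, H.zz, one_mul]
    have hdecomp : ∀ g ∈ A.Q, ∃ a, (a = 1 ∨ a = q ∨ a = q1 ∨ a = q * q1) ∧ a⁻¹ * g ∈ Y0 := by
      intro g hg
      rcases A.Y_act huY (Or.inr hg) with h1 | h1 <;> rcases A.Y_act hwY (Or.inr hg) with h2' | h2'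
      · exact ⟨1, Or.inl rfl, hdet' 1 (one_mem _) g hg (by rw [h1]; simp) (by rw [h2']; simp)⟩
      · exact ⟨q, Or.inr (Or.inl rfl), hdet' q hq g hg (h1.trans hqu'.symm) (h2'.trans hqw.symm)⟩
      · exact ⟨q1, Or.inr (Or.inr (Or.inl rfl)), hdet' q1 hq1Q g hg (h1.trans hq1u.symm) (h2'.trans hq1w.symm)⟩
      · exact ⟨q * q1, Or.inr (Or.inr (Or.inr rfl)),
          hdet' _ (mul_mem hq hq1Q) g hg (h1.trans hq12u.symm) (h2'.trans hq12w.symm)⟩
    have hqqz : q * q ∈ zpowers H.z := by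
      refine H.mem_zpowers_z.2 (A.centre hr hT h2 ⟨mul_mem hq hq, hY2 _ hqq, fun g hg => ?_⟩)
      obtain ⟨a, ha, hag⟩ := hdecomp g hg
      have hqc : Commute q (q * q) := (Commute.refl q).mul_right (Commute.refl q)
      have h1 : Commute a (q * q) := by
        rcases ha with rfl | rfl | rfl | rfl
        exacts [Commute.one_left _, hqc, hq1qq, hqc.mul_left hq1qq]
      have h3 := h1.mul_left (show Commute (a⁻¹ * g) (q * q) from hYc _ hag _ hqq)
      rwa [mul_inv_cancel_left] at h3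
    refine hqY ⟨hq, hqqz, fun g hg' => ?_⟩
    have hg : g ∈ A.Q := hg'.elim id id
    obtain ⟨a, ha, hag⟩ := hdecomp g hg
    have hka : a * q * a⁻¹ * q⁻¹ ∈ zpowers H.z := by
      rcases ha with rfl | rfl | rfl | rfl
      · simp
      · simp
      · exact hcz
      · rw [show q * q1 * q * (q * q1)⁻¹ * q⁻¹ = q * (q1 * q * q1⁻¹ * q⁻¹) * q⁻¹ by group,
          conj_zpowers (A.QC hq) hcz]
        exact hcz
    have haQ : a ∈ A.Q := by rcases ha with rfl | rfl | rfl | rfl; exacts [one_mem _, hq, hq1Q, mul_mem hq hq1Q]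
    set g' := a⁻¹ * g with hg'def
    have hk : g' * q * g'⁻¹ * q⁻¹ ∈ zpowers H.z := by
      rw [show g' * q * g'⁻¹ * q⁻¹ = (q * g' * q⁻¹ * g'⁻¹)⁻¹ by group]
      exact inv_mem (hag.2.2 q (Or.inr hq))
    have e1 : g * q * g⁻¹ * q⁻¹ = a * (g' * q * g'⁻¹ * q⁻¹) * a⁻¹ * (a * q * a⁻¹ * q⁻¹) := by
      rw [hg'def]; group
    rw [e1, conj_zpowers (A.QC haQ) hk]
    exact mul_mem hk hka
  -- the centre and extraspeciality
  have hsq : ∀ g ∈ A.Q, g * g = 1 ∨ g * g = H.z := fun g hg => A.Y_sq (B := A.Q) (hY0.ge hg)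
  have hcen : ∀ g ∈ A.Q, (∀ r ∈ A.Q, g * r = r * g) → g = 1 ∨ g = H.z := by
    intro g hg hgc
    rcases hsq g hg with h | h
    · exact A.centre hr hT h2 ⟨hg, h, fun r hr' => (hgc r hr').symm⟩
    · set g' := H.x * g * H.x⁻¹ with hg'
      have hg'Q : g' ∈ A.Q := A.Qn _ H.x_mem g hg
      have hg'c : ∀ r ∈ A.Q, Commute r g' := fun r hr' => by
        have h1 : H.x⁻¹ * r * H.x ∈ A.Q := by simpa using A.Qn _ (inv_mem H.x_mem) r hr'
        have h3 := (show Commute (H.x⁻¹ * r * H.x) g from (hgc _ h1).symm).map (MulAut.conj H.x).toMonoidHom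
        simp only [MulEquiv.coe_toMonoidHom, MulAut.conj_apply] at h3
        rwa [show H.x * (H.x⁻¹ * r * H.x) * H.x⁻¹ = r by group] at h3
      have hg'2 : g' * g' = H.z := by rw [hg', ← conj_mul', h, H.x_conj_z]
      refine A.fixed_Q_mod hg ?_
      have hgg : (g' * g⁻¹) * (g' * g⁻¹) = 1 := by
        rw [(show Commute g⁻¹ g' from (hg'c g hg).inv_left).mul_mul_mul_comm, hg'2, ← mul_inv_rev, h,
          inv_eq_of_mul_eq_one_right H.zz, H.zz]
      exact H.mem_zpowers_z.2 (A.centre hr hT h2 ⟨mul_mem hg'Q (inv_mem hg), hgg, fun r hr' =>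
        (hg'c r hr').mul_right (show Commute r g from (hgc r hr').symm).inv_right⟩)
  have hex : Cfsg.IsExtraspecial 2 ↥A.Q :=
    ASolv.CubicMono.isExtraspecial_of hQ32 A.zQ H.z_ne (fun r hr' => (hzc r hr').symm) hcen hsq
  obtain ⟨hcore, ⟨e3⟩⟩ := pCore_eq_ker A.f (A.f_surj hr hT) (by
    rw [D.f_ker hr hT h2]; exact A.hQ.of_equiv (subgroupOfEquivOfLe A.QC).symm)
  rw [D.f_ker hr hT h2] at hcore
  have hmap : (Cfsg.pCore 2 ↥H.C).map H.C.subtype = A.Q := by
    rw [hcore, subgroupOf_map_subtype, inf_of_le_left A.QC]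
  set xC : ↥H.C := ⟨H.x, H.x_mem⟩ with hxC
  have hcard3 : Nat.card (zpowers xC) = 3 ^ (Nat.card ↥H.C).factorization 3 := by
    have h := D.card_C hr hT h2
    rw [← A.card_T hr hT, hQ32] at h
    have ho : orderOf xC = 3 := by rw [← orderOf_coe]; exact H.x_three
    rw [h, Nat.card_zpowers, ho, show (3 * (2 * 32) : ℕ) = 3 ^ 1 * 64 by norm_num,
      Nat.factorization_mul (by norm_num) (by norm_num), Finsupp.add_apply,
      Nat.Prime.factorization_pow Nat.prime_three, Finsupp.single_eq_same,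
      Nat.factorization_eq_zero_of_not_dvd (by norm_num : ¬ 3 ∣ 64)]
    norm_num
  have hX : A.Q ⊓ centralizer (((zpowers xC).map H.C.subtype : Subgroup G) : Set G) = zpowers H.z := by
    rw [MonoidHom.map_zpowers]
    refine le_antisymm (fun g hg => ?_) (zpowers_le.2 ⟨A.zQ, mem_centralizer_iff.2 fun a ha => ?_⟩)
    · exact H.mem_zpowers_z.2 (A.fixed_Q hg.1 (eq_conj_iff.2 (mem_centralizer_iff.1 hg.2 H.x (mem_zpowers _))))
    · obtain ⟨k, rfl⟩ := mem_zpowers_iff.1 ha
      exact ((show Commute H.x H.z from H.zx.symm).zpow_left k).eq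
  have hone := H.one
  rcases S3344.result H.z H.z_inv H.C rfl A.Q hmap.symm hex hQ32 e3 (Sylow.ofCard (zpowers xC) hcard3) hX
    ⟨D.y, by rw [D.y_z]; exact A.Y_le D.u_Y, by rw [D.y_z]; exact D.u_z⟩ with ⟨N, hN, -, hN2, hN8, -⟩ | ⟨⟨e⟩⟩ | ⟨⟨e⟩⟩ | h
  · haveI := H.simple
    rcases IsSimpleGroup.eq_bot_or_eq_top_of_normal N hN with h | h
    · rw [h, card_bot] at hN8; norm_num at hN8
    · refine H.na ⟨⟨fun a b => ?_⟩⟩
      have hm : ∀ g : G, g * g = 1 := fun g => by rw [← pow_two]; exact hN2 g (h ▸ mem_top g)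
      have hinv : ∀ g : G, g⁻¹ = g := fun g => inv_eq_of_mul_eq_one_right (hm g)
      calc a * b = (a * b)⁻¹ := (hinv _).symm
        _ = b * a := by rw [mul_inv_rev, hinv, hinv]
  · exact alt_eight_false e hone
  · exact alt_nine_false e hone
  · exact mathieu_twelve_false h hone

end Moved

end CaseA

end Hyp

end Cfsg.Agent.SelfSix
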