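import Cfsg.Agent.Lib.SelfSix.CaseAThree
import Cfsg.Agent.Lib.CyclicSylowInter.KindFacts
import Cfsg.Agent.Lib.PSLBinary.Exceptional
import Cfsg.Agent.Lib.J1FromOrder.Solvable
import Cfsg.Agent.S3308

/-!
# The quotient of order three does not occur
-/

set_option autoImplicit false
set_option linter.style.haveILetI false
set_option linter.unusedSectionVars false

namespace Cfsg.Agent.SelfSix

open Subgroup
open scoped Pointwise MatrixGroups

/-- In `PSL₂(2ⁿ)` only elements of order two commute with an involution. -/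
theorem psl_binary_cent {F : Type*} [Field F] [Fintype F] (h2 : (2 : F) = 0)
    {g t : Matrix.ProjectiveSpecialLinearGroup (Fin 2) F} (ht : orderOf t = 2) (hgt : g * t = t * g) :
    g * g = 1 := by
  haveI : Fact (Nat.Prime 2) := ⟨Nat.prime_two⟩
  obtain ⟨S, hS⟩ := PSLBinary.exists_sylow_unip (F := F) h2
  obtain ⟨R, hR⟩ := CyclicSylowInter.exists_sylow_mem ht
  obtain ⟨k, hk⟩ := MulAction.exists_smul_eq (Matrix.ProjectiveSpecialLinearGroup (Fin 2) F) S R
  rw [← hk, CyclicSylowInter.mem_smul_sylow] at hR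
  obtain ⟨b, hb, hbt⟩ := (CyclicSylowInter.KindFactsPSLTwo.orderOf_two_uni h2 S hS).1
    ⟨hR, by rw [show k⁻¹ * t * k = k⁻¹ * t * k⁻¹⁻¹ by group, orderOf_conj', ht]⟩
  suffices h : (k⁻¹ * g * k) * (k⁻¹ * g * k) = 1 by
    calc g * g = k * ((k⁻¹ * g * k) * (k⁻¹ * g * k)) * k⁻¹ := by group
      _ = 1 := by rw [h]; group
  have hc : (k⁻¹ * g * k) * (k⁻¹ * t * k) = (k⁻¹ * t * k) * (k⁻¹ * g * k) := by
    calc _ = k⁻¹ * (g * t) * k := by group
      _ = _ := by rw [hgt]; group
  obtain ⟨X, hX⟩ := Forms.KleinPSL.pi_surjective (k⁻¹ * g * k)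
  rw [← hbt, ← hX, ← map_mul, ← map_mul] at hc
  have h1 := PSLBinary.pi_injective h2 hc
  have e00 := congrArg (fun Z : SL(2, F) => (Z : Matrix (Fin 2) (Fin 2) F) 0 0) h1
  have e01 := congrArg (fun Z : SL(2, F) => (Z : Matrix (Fin 2) (Fin 2) F) 0 1) h1
  simp [Matrix.SpecialLinearGroup.coe_mul, Classical.GL2.coe_uniSL, Matrix.mul_apply, Fin.sum_univ_two] at e00 e01
  have h10 : (X : Matrix (Fin 2) (Fin 2) F) 1 0 = 0 := e00.resolve_left hb
  have h11 : (X : Matrix (Fin 2) (Fin 2) F) 0 0 = (X : Matrix (Fin 2) (Fin 2) F) 1 1 :=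
    mul_right_cancel₀ hb (by linear_combination e01)
  have hd := PSLBinary.sl2_det X
  rw [h10, ← h11, mul_zero, sub_zero] at hd
  rw [← hX, ← map_mul, Forms.KleinPSL.pi_eq_one]
  refine Or.inl (PSLBinary.sl2_ext ?_ ?_ ?_ ?_) <;>
    simp [Matrix.SpecialLinearGroup.coe_mul, Matrix.mul_apply, Fin.sum_univ_two, h10, ← h11, hd]
  linear_combination (X : Matrix (Fin 2) (Fin 2) F) 0 1 * (X : Matrix (Fin 2) (Fin 2) F) 0 0 * h2

namespace Hyp

namespace CaseA

variable {G : Type*} [Group G] [Finite G] {H : Hyp G} (A : H.CaseA)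

include A in
/-- The centralizer is solvable. -/
theorem solvable_C : Group.IsSolvable ↥H.C := by
  haveI : Group.IsNilpotent ↥A.W := A.W_nil
  haveI : Fact (Nat.Prime 2) := ⟨Nat.prime_two⟩
  haveI : Group.IsNilpotent ↥A.Q := A.hQ.isNilpotent
  haveI : Group.IsSolvable (Equiv.Perm (Fin 3)) := by
    haveI : IsCyclic (Equiv.Perm.sign (α := Fin 3)).ker := isCyclic_of_prime_card (p := 3) (by
      rw [Nat.card_eq_fintype_card]; decide)
    exact Group.isSolvable_of_ker_le_range (Equiv.Perm.sign (α := Fin 3)).ker.subtype Equiv.Perm.sign (by simp)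
  let φ : ↥A.Q × ↥A.W →* ↥H.C := MonoidHom.noncommCoprod (Subgroup.inclusion A.QC) (Subgroup.inclusion A.WC)
    fun q w => Subtype.ext (A.comm q q.2 w w.2)
  refine Group.isSolvable_of_ker_le_range φ A.f fun g hg => ?_
  obtain ⟨q, hq, w, hw, e⟩ := (A.ker g).1 hg
  exact ⟨(⟨q, hq⟩, ⟨w, hw⟩), Subtype.ext e.symm⟩

theorem three_false (hr : Nat.card A.f.range = 3) : False := by
  haveI : Fact (Nat.Prime 2) := ⟨Nat.prime_two⟩
  haveI := H.simple
  obtain ⟨T, hTz, hTc⟩ := H.exists_sylow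
  have hT : H.Central T := ⟨hTz, hTc⟩
  have hel := A.elementary hr hT
  have hQT := A.eq_sylow hr hT
  -- the order of the Sylow subgroup
  have h8 : 8 ∣ Nat.card T := by
    obtain ⟨s, hs, hs2, hsz⟩ := H.exists_involution hT
    obtain ⟨n, hn⟩ := two_group_card T.isPGroup'
    have h3 := A.card_Q_mod
    rw [hQT, hn] at h3
    have h2 : 2 < Nat.card T := by
      have hsub : ({1, H.z, s} : Set G) ⊆ ((T : Subgroup G) : Set G) := by
        intro a ha
        rcases ha with rfl | rfl | rfl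
        exacts [one_mem _, hT.1, hs]
      have h := Set.ncard_le_ncard hsub (Set.toFinite _)
      rw [Set.ncard_eq_three.2 ⟨1, H.z, s, H.z_ne.symm, (two_sq hs2).2.1.symm, hsz.symm, rfl⟩,
        ← Nat.card_coe_set_eq] at h
      exact h
    rw [hn] at h2 ⊢
    have : 3 ≤ n := by
      by_contra h
      have : n ≤ 2 := by omega
      interval_cases n <;> simp_all
    exact pow_dvd_pow 2 this
  have hcommS : ∀ (S : Sylow 2 G), ∀ a ∈ S, ∀ b ∈ S, a * b = b * a ∧ a * a = 1 := by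
    intro S a ha b hb
    obtain ⟨g, rfl⟩ := MulAction.exists_smul_eq G T S
    have ha' := hel _ (CyclicSylowInter.mem_smul_sylow.1 ha)
    have hb' := hel _ (CyclicSylowInter.mem_smul_sylow.1 hb)
    constructor
    · calc a * b = g * ((g⁻¹ * a * g) * (g⁻¹ * b * g)) * g⁻¹ := by group
        _ = g * ((g⁻¹ * b * g) * (g⁻¹ * a * g)) * g⁻¹ := by rw [(hb'.2.2 _ ha'.1).eq]
        _ = b * a := by group
    · calc a * a = g * ((g⁻¹ * a * g) * (g⁻¹ * a * g)) * g⁻¹ := by group
        _ = 1 := by rw [ha'.2.1]; group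
  have hTI : ∀ (S S' : Sylow 2 G) (v : G), orderOf v = 2 → v ∈ S → v ∈ S' → S = S' := by
    intro S S' v hv hS hS'
    obtain ⟨g, hg⟩ := H.to_z hv
    have key : ∀ R : Sylow 2 G, v ∈ R → g • R = T := by
      intro R hR
      refine Sylow.ext (eq_of_le_of_card_ge (fun a ha => ?_)
        ((T.card_eq_multiplicity).trans (g • R).card_eq_multiplicity.symm).le)
      obtain ⟨k, hk⟩ := (g • R).isPGroup' ⟨a, ha⟩
      refine A.two_mem hr hT (H.mem_C.2 ?_) (k := k) (by simpa using congrArg Subtype.val hk)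
      rw [← hg]
      exact (hcommS (g • R) a ha (g * v * g⁻¹)
        (CyclicSylowInter.mem_smul_sylow.2 (by rw [show g⁻¹ * (g * v * g⁻¹) * g = v by group]; exact hR))).1
    exact smul_left_cancel g ((key S hS).trans (key S' hS').symm)
  have hns : ¬ Group.IsSolvable G := fun h => H.na ⟨⟨IsSimpleGroup.comm_iff_isSolvable.2 h⟩⟩
  obtain ⟨G₁, hn₁, hRn, hodd, -, -, -, hfive⟩ := S3308.result hns (fun S S' hne => by
    have hbot : (S : Subgroup G) ⊓ (S' : Subgroup G) = ⊥ := by
      rw [eq_bot_iff]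
      intro a ha
      by_contra ha1
      exact hne (hTI S S' a (orderOf_eq_two (hcommS S a ha.1 a ha.1).2 fun e => ha1 (e ▸ one_mem _)) ha.1 ha.2)
    rw [hbot]
    infer_instance) (⊥ : Subgroup G) inferInstance (fun N hN hNs => by
    rcases IsSimpleGroup.eq_bot_or_eq_top_of_normal N hN with h | h
    · exact h.le
    · exact absurd (Group.isSolvable_of_surjective (f := (MulEquiv.subgroupCongr h |>.trans topEquiv).toMonoidHom)
        (MulEquiv.surjective _)) hns)
  haveI := hn₁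
  haveI := hRn
  have h1 : G₁ = ⊤ := by
    refine (IsSimpleGroup.eq_bot_or_eq_top_of_normal G₁ hn₁).resolve_left fun h => ?_
    rw [h, index_bot] at hodd
    exact (Nat.not_even_iff_odd.2 hodd) (even_iff_two_dvd.2 (H.z_inv ▸ orderOf_dvd_natCard H.z))
  obtain ⟨e⟩ : Nonempty (G ≃* ↥G₁ ⧸ (⊥ : Subgroup G).subgroupOf G₁) :=
    ⟨((topEquiv.symm.trans (MulEquiv.subgroupCongr h1.symm)).trans QuotientGroup.quotientBot.symm).trans
      (QuotientGroup.quotientMulEquivOfEq (by simp))⟩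
  have hno : ∀ {i n : ℕ} (S : Sylow 2 G), CyclicSylowInter.TIData S n i → i ≠ 1 → False := by
    intro i n S hd hi
    have h := hd.ncard_inv
    have hset : {x : G | x ∈ (S : Subgroup G) ∧ orderOf x = 2} = ((S : Subgroup G) : Set G) \ {1} := by
      ext a
      refine ⟨fun h => ⟨h.1, (two_sq h.2).2.1⟩, fun h => ⟨h.1, orderOf_eq_two (hcommS S a h.1 a h.1).2 h.2⟩⟩
    rw [hset, Set.ncard_sdiff_singleton_of_mem (one_mem _), ← Nat.card_coe_set_eq, SetLike.coe_sort_coe,
      hd.card_sylow] at h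
    have h2 := hd.two_le
    have hlt : 2 ^ n < (2 ^ n) ^ i := by
      refine lt_self_pow₀ (Nat.one_lt_two_pow (by omega)) ?_
      rcases hd.i_mem with rfl | rfl | rfl <;> omega
    have := Nat.one_le_two_pow (n := n)
    omega
  rcases hfive with ⟨n, F, iF, jF, hn, hF, ⟨f⟩⟩ | ⟨m, F, iF, jF, hm, hF, ⟨f⟩⟩ |
    ⟨n, F, iF, jF, hn, hF, ⟨f⟩⟩ | ⟨F, iF, jF, hmod, -, ⟨f⟩⟩ | hJ
  · haveI : CharP F 2 := charP_of_card_eq_prime_pow hF
    set F' := e.trans f
    have h3 : F' H.x * F' H.x = 1 := psl_binary_cent (F := F) CharTwo.two_eq_zero (t := F' H.z)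
      (by rw [F'.orderOf_eq]; exact H.z_inv) (by rw [← map_mul, ← map_mul, H.zx])
    rw [← map_mul, map_eq_one_iff _ F'.injective] at h3
    have h4 := orderOf_dvd_of_pow_eq_one (show H.x ^ 2 = 1 by rw [pow_two]; exact h3)
    rw [H.x_three] at h4
    norm_num at h4
  · haveI := Suzuki.charTwo hF
    obtain ⟨l⟩ := Suzuki.lieEquiv hm hF
    obtain ⟨S₀, hS⟩ := CyclicSylowInter.KindFactsSuzuki.exists_model hm hF
    exact hno T ((CyclicSylowInter.facts_of_model hS ((e.trans f).trans l.symm)).2.2 T) (by norm_num)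
  · have hF2 : Fintype.card F = (2 ^ n) ^ 2 := by
      rw [hF, show 4 = 2 ^ 2 by norm_num, ← pow_mul, ← pow_mul, mul_comm]
    haveI : CharP F 2 := charP_of_card_eq_prime_pow (f := n * 2) (by rw [hF2, pow_mul])
    obtain ⟨S₀, hS⟩ := CyclicSylowInter.KindFactsUnitary.exists_model hF2 hn
    exact hno T ((CyclicSylowInter.facts_of_model hS (e.trans f)).2.2 T) (by norm_num)
  · have h := Classical.SmallIso.natCard_pslTwo F
    rw [GL2.Counts.natCard_SL, ← Nat.card_congr (e.trans f).toEquiv,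
      show Nat.gcd 2 (Fintype.card F - 1) = 2 from Nat.gcd_eq_left ⟨(Fintype.card F - 1) / 2, by omega⟩] at h
    obtain ⟨d, hd⟩ : 8 ∣ Nat.card G := h8.trans (card_subgroup_dvd_card _)
    set k := Fintype.card F / 8
    rcases hmod with hq | hq
    · rw [show Fintype.card F = 8 * k + 3 by omega, hd,
        show (8 * k + 3) ^ 2 - 1 = 8 * (2 * (4 * k * k + 3 * k) + 1) by
          rw [show (8 * k + 3) ^ 2 = 8 * (2 * (4 * k * k + 3 * k) + 1) + 1 by ring, Nat.add_sub_cancel],
        show (8 * k + 3) * (8 * (2 * (4 * k * k + 3 * k) + 1)) =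
          8 * (2 * (8 * k * (4 * k * k + 3 * k) + 3 * (4 * k * k + 3 * k) + 4 * k + 1) + 1) by ring] at h
      omega
    · rw [show Fintype.card F = 8 * k + 5 by omega, hd,
        show (8 * k + 5) ^ 2 - 1 = 8 * (2 * (4 * k * k + 5 * k + 1) + 1) by
          rw [show (8 * k + 5) ^ 2 = 8 * (2 * (4 * k * k + 5 * k + 1) + 1) + 1 by ring, Nat.add_sub_cancel],
        show (8 * k + 5) * (8 * (2 * (4 * k * k + 5 * k + 1) + 1)) =
          8 * (2 * (8 * k * (4 * k * k + 5 * k + 1) + 5 * (4 * k * k + 5 * k + 1) + 4 * k + 2) + 1) by ring] at h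
      omega
  · have hcard : Nat.card G = 175560 := by rw [Nat.card_congr e.toEquiv]; exact hJ.2
    obtain ⟨a, ha, ha1, hns'⟩ := J1FromOrder.exists_insoluble hcard T fun a ha => (hcommS T a ha a ha).2
    obtain ⟨g, hg⟩ := H.to_z (orderOf_eq_two (hcommS T a ha a ha).2 ha1)
    refine hns' ?_
    haveI := A.solvable_C
    let ψ : ↥(centralizer ({a} : Set G)) →* ↥H.C :=
      ((MulAut.conj g).toMonoidHom.comp (centralizer ({a} : Set G)).subtype).codRestrict H.C fun c => H.mem_C.2 (by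
        show g * c * g⁻¹ * H.z = H.z * (g * c * g⁻¹)
        rw [← hg, ← conj_mul', ← conj_mul', mem_centralizer_singleton_iff.1 c.2])
    exact Group.isSolvable_of_isSolvable_injective (f := ψ) fun c d h =>
      Subtype.ext ((MulAut.conj g).injective (congrArg Subtype.val h))

end CaseA

end Hyp

end Cfsg.Agent.SelfSix
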