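import Cfsg.Agent.Lib.SelfSix.Bar
import Cfsg.Agent.Lib.SelfSix.AltFacts
import Cfsg.Agent.Lib.J1Unique.Main

/-!
# The quotient `A₅` with radical `⟨z⟩`: the first Janko group
-/

set_option autoImplicit false
set_option linter.style.haveILetI false
set_option linter.unusedSectionVars false

namespace Cfsg.Agent.SelfSix

open Subgroup
open scoped IsMulCommutative

variable {G : Type*} [Group G] [Finite G]

namespace Hyp

variable (H : Hyp G)

theorem CaseB.janko (b : H.CaseB) (hV : ∀ v ∈ b.V, v = 1 ∨ v = H.z) : Cfsg.Spor.IsoJ1 G := by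
  haveI : Fact (Nat.Prime 2) := ⟨Nat.prime_two⟩
  obtain ⟨T, hTz, hTc⟩ := H.exists_sylow
  have hT : H.Central T := ⟨hTz, hTc⟩
  set zC : ↥H.C := ⟨H.z, H.z_mem⟩
  have hzc : ∀ g : ↥H.C, g * zC = zC * g := fun g => Subtype.ext (H.mem_C.1 g.2)
  have hzz : zC * zC = 1 := Subtype.ext H.zz
  have hfz : b.f zC = 1 := (b.ker zC).2 b.zV
  have hker : ∀ g : ↥H.C, b.f g = 1 ↔ g = 1 ∨ g = zC := fun g => by
    rw [b.ker g, Subtype.ext_iff, Subtype.ext_iff]
    refine ⟨hV _, ?_⟩
    rintro (h | h) <;> rw [h]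
    exacts [one_mem _, b.zV]
  have hsq : ∀ g : ↥H.C, b.f g * b.f g = 1 → g * g = 1 ∨ g * g = zC := fun g hg =>
    (hker _).1 (by rw [map_mul]; exact hg)
  by_cases hall : ∀ g : ↥H.C, b.f g * b.f g = 1 → b.f g ≠ 1 → g * g = 1
  swap
  · exfalso
    push Not at hall
    obtain ⟨g₀, hg₀, hg₀1, hne⟩ := hall
    have hg₀' := (hsq g₀ hg₀).resolve_left hne
    refine H.false_of_unique fun g hg hgz => ?_
    by_contra hcon
    push Not at hcon
    set gC : ↥H.C := ⟨g, H.mem_C.2 hgz⟩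
    have hgC : gC * gC = 1 := Subtype.ext hg
    have ho : b.f gC ≠ 1 := fun h => by
      rcases (hker gC).1 h with e | e
      · exact hcon.1 (congrArg Subtype.val e)
      · exact hcon.2 (congrArg Subtype.val e)
    obtain ⟨k, hk⟩ := Five.involution_conj _ _ (by rw [← map_mul, hgC, map_one]) ho hg₀ hg₀1
    obtain ⟨k, rfl⟩ := b.surj k
    have h1 : b.f (g₀⁻¹ * (k * gC * k⁻¹)) = 1 := by
      rw [map_mul, map_inv, map_mul, map_mul, map_inv, hk, inv_mul_cancel]
    have h2 : (k * gC * k⁻¹) * (k * gC * k⁻¹) = 1 := by rw [← conj_mul', hgC]; simp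
    rcases (hker _).1 h1 with e | e
    · rw [inv_mul_eq_one] at e
      rw [e] at hne
      exact hne h2
    · rw [inv_mul_eq_iff_eq_mul] at e
      rw [e, (show Commute g₀ zC from hzc g₀).symm.mul_mul_mul_comm, hzz, mul_one, hg₀'] at h2
      exact H.z_ne (congrArg Subtype.val h2)
  -- the centralizer is the direct product
  have hkerf : b.f.ker = zpowers zC := by
    ext g
    rw [MonoidHom.mem_ker, hker]
    refine ⟨?_, fun h => ?_⟩
    · rintro (rfl | rfl)
      exacts [one_mem _, mem_zpowers _]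
    · obtain ⟨k, rfl⟩ := mem_zpowers_iff.1 h
      rcases Int.even_or_odd k with ⟨j, rfl⟩ | ⟨j, rfl⟩
      · exact Or.inl (by rw [← two_mul, zpow_mul, zpow_two, hzz, one_zpow])
      · exact Or.inr (by rw [zpow_add_one, zpow_mul, zpow_two, hzz, one_zpow, one_mul])
  have hcardC : Nat.card ↥H.C = 120 := by
    have h1 := card_mul_index b.f.ker
    rw [index_ker, MonoidHom.range_eq_top.2 b.surj, card_top, Five.card, hkerf, H.card_zpowers_z] at h1
    exact h1.symm
  set S : Sylow 2 ↥H.C := T.subtype hT.le with hS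
  have hS8 : Nat.card (S : Subgroup ↥H.C) = 8 := by
    rw [S.card_eq_multiplicity, hcardC, show (120 : ℕ) = 2 ^ 3 * 15 by norm_num,
      Nat.factorization_mul (by norm_num) (by norm_num)]
    rw [Finsupp.coe_add, Pi.add_apply, Nat.Prime.factorization_pow Nat.prime_two,
      Nat.factorization_eq_zero_of_not_dvd (show ¬ 2 ∣ 15 by norm_num)]
    simp
  have hexp : ∀ g ∈ (S : Subgroup ↥H.C), g * g = 1 := by
    intro g hg
    have h8 : g ^ 8 = 1 := by
      have := pow_card_eq_one' (x := (⟨g, hg⟩ : (S : Subgroup ↥H.C)))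
      rw [hS8] at this
      exact congrArg Subtype.val this
    have h := Five.sq_of_pow_eight (b.f g) (by rw [← map_pow, h8, map_one])
    by_cases h1 : b.f g = 1
    · rcases (hker g).1 h1 with rfl | rfl
      exacts [one_mul 1, hzz]
    · exact hall g h h1
  haveI : IsMulCommutative ↥(S : Subgroup ↥H.C) :=
    ⟨⟨fun p q => Subtype.ext (by
      have hinv : ∀ g ∈ (S : Subgroup ↥H.C), g⁻¹ = g := fun g hg => inv_eq_of_mul_eq_one_right (hexp g hg)
      have := hinv _ (mul_mem p.2 q.2)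
      rw [mul_inv_rev, hinv _ p.2, hinv _ q.2] at this
      exact this.symm)⟩⟩
  set ψ : ↥H.C →* ↥(S : Subgroup ↥H.C) := MonoidHom.transfer (MonoidHom.id _) with hψ
  have hψz : (ψ zC : ↥H.C) = zC := by
    have hkey : ∀ (k : ℕ) (g₀ : ↥H.C), g₀⁻¹ * zC ^ k * g₀ ∈ (S : Subgroup ↥H.C) → g₀⁻¹ * zC ^ k * g₀ = zC ^ k :=
      fun k g₀ _ => by rw [mul_assoc, ← ((show Commute g₀ zC from hzc g₀).pow_right k).eq, inv_mul_cancel_left]
    rw [hψ, MonoidHom.transfer_eq_pow (MonoidHom.id _) zC hkey]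
    show zC ^ (S : Subgroup ↥H.C).index = zC
    have hidx := card_mul_index (S : Subgroup ↥H.C)
    rw [hS8, hcardC] at hidx
    rw [show (S : Subgroup ↥H.C).index = 2 * 7 + 1 by omega, pow_succ, pow_mul, pow_two, hzz, one_pow, one_mul]
  have hψz1 : ψ zC ≠ 1 := fun h => H.z_ne (by
    rw [h] at hψz
    exact (congrArg Subtype.val hψz).symm)
  have hKtop : ψ.ker.map b.f = ⊤ := by
    haveI : (ψ.ker.map b.f).Normal := Normal.map inferInstance _ b.surj
    haveI : IsSimpleGroup Five.A5 := alternatingGroup.isSimpleGroup (by simp)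
    rcases IsSimpleGroup.eq_bot_or_eq_top_of_normal (ψ.ker.map b.f) inferInstance with h | h
    swap
    · exact h
    exfalso
    have hK1 : ∀ g ∈ ψ.ker, g = 1 := by
      intro g hg
      have : b.f g = 1 := by
        have h' : b.f g ∈ ψ.ker.map b.f := ⟨g, hg, rfl⟩
        rw [h] at h'
        exact mem_bot.1 h'
      rcases (hker g).1 this with rfl | rfl
      · rfl
      · exact absurd hg hψz1
    obtain ⟨p, q, hpq⟩ := Five.not_comm
    obtain ⟨p, rfl⟩ := b.surj p
    obtain ⟨q, rfl⟩ := b.surj q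
    refine hpq ?_
    rw [← map_mul, ← map_mul]
    congr 1
    refine mul_inv_eq_one.1 (hK1 _ ?_)
    rw [MonoidHom.mem_ker, map_mul, map_inv, map_mul, map_mul, mul_comm' (ψ p) (ψ q), mul_inv_cancel]
  have hrange : ψ.range = zpowers (ψ zC) := by
    refine le_antisymm ?_ (zpowers_le.2 ⟨zC, rfl⟩)
    rintro _ ⟨g, rfl⟩
    obtain ⟨k, hk, hkg⟩ : b.f g ∈ ψ.ker.map b.f := hKtop ▸ mem_top _
    have hgk : g * k⁻¹ ∈ zpowers zC := by
      rw [← hkerf, MonoidHom.mem_ker, map_mul, map_inv, hkg, mul_inv_cancel]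
    obtain ⟨m, hm⟩ := mem_zpowers_iff.1 hgk
    refine ⟨m, ?_⟩
    show ψ zC ^ m = ψ g
    rw [← map_zpow, hm, map_mul, map_inv, MonoidHom.mem_ker.1 hk, inv_one, mul_one]
  have hr2 : Nat.card ψ.range = 2 := by
    rw [hrange, Nat.card_zpowers]
    exact orderOf_eq_two (by rw [← map_mul, hzz, map_one]) hψz1
  let e₁ : ψ.range ≃* Multiplicative (ZMod 2) := mulEquivOfPrimeCardEq (p := 2) hr2 (by simp)
  let Φ : ↥H.C →* Multiplicative (ZMod 2) × Five.A5 := (e₁.toMonoidHom.comp ψ.rangeRestrict).prod b.f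
  have hΦ : Function.Bijective Φ := by
    refine (Nat.bijective_iff_injective_and_card Φ).2 ⟨(injective_iff_map_eq_one Φ).2 fun g hg => ?_, ?_⟩
    · rcases (hker g).1 (congrArg Prod.snd hg) with rfl | rfl
      · rfl
      · exfalso
        have h1 := congrArg Prod.fst hg
        have h2 : ψ.rangeRestrict zC = 1 := (MulEquiv.map_eq_one_iff e₁).1 h1
        exact hψz1 (congrArg Subtype.val h2)
    · rw [hcardC, Nat.card_prod, Five.card]
      simp
  haveI := H.simple
  exact J1Unique.iso_of_setup ⟨H.z, ⟨H.z_inv, T, hTz, hTc⟩, MulEquiv.ofBijective Φ hΦ⟩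

end Hyp

end Cfsg.Agent.SelfSix
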