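import Cfsg.Agent.Lib.SelfSix.Bar
import Cfsg.Agent.Lib.SelfSix.AltFacts

/-!
# The elementary radical with quotient `A₅`: the action on the radical

An element of order three is fixed-point-free modulo `z`, invariant sections are large and an involution
of the quotient centralises at most the square root.
-/

set_option autoImplicit false
set_option linter.style.haveILetI false
set_option linter.unusedSectionVars false

namespace Cfsg.Agent.SelfSix

open Subgroup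

variable {G : Type*} [Group G] [Finite G]

namespace Hyp

variable (H : Hyp G)

/-- The elements of a subgroup of the centralizer moved by `a` only inside `⟨z⟩`. -/
def modCent (B : Subgroup G) (a : G) : Subgroup G where
  carrier := {v | v ∈ B ⊓ H.C ∧ a * v * a⁻¹ * v⁻¹ ∈ zpowers H.z}
  one_mem' := ⟨one_mem _, by simp⟩
  mul_mem' := by
    rintro v w ⟨hv, hv'⟩ ⟨hw, hw'⟩
    refine ⟨mul_mem hv hw, ?_⟩
    obtain ⟨k, hk⟩ := mem_zpowers_iff.1 hw'
    have e : a * (v * w) * a⁻¹ * (v * w)⁻¹ = (a * v * a⁻¹ * v⁻¹) * (v * (a * w * a⁻¹ * w⁻¹) * v⁻¹) := by group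
    rw [e, ← hk, eq_conj_iff.2 ((show Commute v H.z from H.mem_C.1 (mem_inf.1 hv).2).zpow_right k).eq]
    exact mul_mem hv' ⟨k, rfl⟩
  inv_mem' := by
    rintro v ⟨hv, hv'⟩
    refine ⟨inv_mem hv, ?_⟩
    obtain ⟨k, hk⟩ := mem_zpowers_iff.1 hv'
    have e : a * v⁻¹ * a⁻¹ * (v⁻¹)⁻¹ = (v⁻¹ * (a * v * a⁻¹ * v⁻¹) * v⁻¹⁻¹)⁻¹ := by group
    rw [e, ← hk, eq_conj_iff.2 ((show Commute v⁻¹ H.z from H.mem_C.1 (inv_mem (mem_inf.1 hv).2)).zpow_right k).eq]
    exact inv_mem ⟨k, rfl⟩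

variable {H}

theorem mem_modCent {B : Subgroup G} (hB : B ≤ H.C) {a v : G} :
    v ∈ H.modCent B a ↔ v ∈ B ∧ (a * v * a⁻¹ * v⁻¹ = 1 ∨ a * v * a⁻¹ * v⁻¹ = H.z) :=
  ⟨fun h => ⟨(mem_inf.1 h.1).1, H.mem_zpowers_z.1 h.2⟩, fun h => ⟨⟨h.1, hB h.1⟩, H.mem_zpowers_z.2 h.2⟩⟩

theorem modCent_le (B : Subgroup G) (a : G) : H.modCent B a ≤ B := fun _ h => (mem_inf.1 h.1).1

namespace CaseB

variable (b : H.CaseB)

theorem conj_mem {g : G} (hg : g ∈ H.C) {v : G} (hv : v ∈ b.V) : g * v * g⁻¹ ∈ b.V := by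
  have h := (b.ker ⟨v, b.VC hv⟩).2 hv
  exact (b.ker (⟨g, hg⟩ * ⟨v, b.VC hv⟩ * ⟨g, hg⟩⁻¹)).1 (by rw [map_mul, map_mul, h, mul_one, map_inv, mul_inv_cancel])

theorem v_conj_z {v : G} (hv : v ∈ b.V) : v * H.z * v⁻¹ = H.z := H.conj_z (b.VC hv)

theorem pow_four {v : G} (hv : v ∈ b.V) : v ^ 4 = 1 := by
  rw [show 4 = 2 * 2 by norm_num, pow_mul, pow_two v]
  rcases b.sq v hv with h | h <;> rw [h]
  · exact one_pow 2
  · rw [pow_two, H.zz]

theorem isPGroup : IsPGroup 2 b.V := fun v => ⟨2, Subtype.ext (by simpa using b.pow_four v.2)⟩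

theorem comm_z {v w : G} (hv : v ∈ b.V) (hw : w ∈ b.V) : v * w * v⁻¹ * w⁻¹ ∈ zpowers H.z := by
  rcases b.comm v hv w hw with h | h
  · rw [h]; simp
  · rw [h, mul_assoc (w * v) H.z v⁻¹, ← (show Commute v⁻¹ H.z from H.mem_C.1 (inv_mem (b.VC hv))).eq]
    rw [show w * v * (v⁻¹ * H.z) * w⁻¹ = w * H.z * w⁻¹ by group, b.v_conj_z hw]
    exact mem_zpowers _

theorem x_not_mem : H.x ∉ b.V := fun h => by
  have h4 := orderOf_dvd_of_pow_eq_one (b.pow_four h)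
  rw [H.x_three] at h4
  omega

theorem fx : b.f ⟨H.x, H.x_mem⟩ ^ 3 = 1 ∧ b.f ⟨H.x, H.x_mem⟩ ≠ 1 := by
  refine ⟨?_, fun h => b.x_not_mem ((b.ker _).1 h)⟩
  rw [← map_pow, show (⟨H.x, H.x_mem⟩ : ↥H.C) ^ 3 = 1 from Subtype.ext (by simpa using (three_facts H.x_three).1),
    map_one]

/-- Modulo `z`, the element of order three fixes nothing in the radical. -/
theorem fixed_x {v : G} (hv : v ∈ b.V) (h : H.x * v * H.x⁻¹ * v⁻¹ ∈ zpowers H.z) : v = 1 ∨ v = H.z := by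
  obtain ⟨h3, h3', -, -⟩ := three_facts H.x_three
  have hvz : v * H.z = H.z * v := H.mem_C.1 (b.VC hv)
  have hfix : H.x * v = v * H.x := by
    rcases H.mem_zpowers_z.1 h with e | e
    · exact eq_conj_iff.1 (mul_inv_eq_one.1 e)
    · exfalso
      have e1 : H.x * v * H.x⁻¹ = v * H.z := (mul_inv_eq_iff_eq_mul.1 e).trans hvz.symm
      have e2 : (H.x * H.x) * v * (H.x * H.x)⁻¹ = v := by
        rw [← conj_conj', e1, conj_mul', e1, H.x_conj_z, mul_assoc, H.zz, mul_one]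
      have e3 : H.x * v * H.x⁻¹ = v := by
        conv_lhs => rw [← e2]
        rw [conj_conj', ← mul_assoc, h3']
        simp
      exact H.z_ne (mul_eq_left.1 (e1.symm.trans e3))
  have hle := H.card_two H.x_three (D := zpowers v) (b.isPGroup.to_le (zpowers_le.2 hv)) (by
    rintro _ ⟨k, rfl⟩
    exact ((show Commute v H.x from hfix.symm).zpow_left k).eq)
  rw [Nat.card_zpowers] at hle
  refine H.six_sq hvz hfix.symm ?_
  have hpos := orderOf_pos v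
  rcases (show orderOf v = 1 ∨ orderOf v = 2 by omega) with e | e
  · rw [orderOf_eq_one_iff.1 e, one_mul]
  · exact (two_sq e).1

/-- The same for every element over an element of order three of the quotient. -/
theorem fixed_three {y : G} (hy : y ∈ H.C) (hf : orderOf (b.f ⟨y, hy⟩) = 3) {v : G} (hv : v ∈ b.V)
    (h : y * v * y⁻¹ * v⁻¹ ∈ zpowers H.z) : v = 1 ∨ v = H.z := by
  set yC : ↥H.C := ⟨y, hy⟩ with hyC
  have hd : 3 ∣ orderOf yC := hf ▸ orderOf_map_dvd b.f yC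
  set k := orderOf yC / 3 with hk
  set p := yC ^ k with hp
  have hp3 : orderOf p = 3 := orderOf_pow_orderOf_div (orderOf_pos _).ne' hd
  have hvC : v ∈ H.modCent b.V y := ⟨⟨hv, b.VC hv⟩, h⟩
  have hpow : ∀ j : ℕ, (y ^ j) * v * (y ^ j)⁻¹ * v⁻¹ ∈ zpowers H.z := by
    intro j
    induction j with
    | zero => simp
    | succ j ih =>
      obtain ⟨m, hm⟩ := mem_zpowers_iff.1 ih
      have e : y ^ (j + 1) * v * (y ^ (j + 1))⁻¹ * v⁻¹ =
          y * (y ^ j * v * (y ^ j)⁻¹ * v⁻¹) * y⁻¹ * (y * v * y⁻¹ * v⁻¹) := by rw [pow_succ']; group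
      rw [e, ← hm, eq_conj_iff.2 ((show Commute y H.z from H.mem_C.1 hy).zpow_right m).eq]
      exact mul_mem ⟨m, rfl⟩ h
  obtain ⟨c, hc, hc'⟩ := H.three_conj (p : ↥H.C).2 ((orderOf_coe p).trans hp3)
  have hw : H.x * (c * v * c⁻¹) * H.x⁻¹ * (c * v * c⁻¹)⁻¹ ∈ zpowers H.z := by
    obtain ⟨m, hm⟩ := mem_zpowers_iff.1 (hpow k)
    have e1 : (p : G) * v * (p : G)⁻¹ * v⁻¹ = H.z ^ m := by
      rw [show (p : G) = y ^ k from rfl]; exact hm.symm
    have e2 : (c * (p : G) * c⁻¹) * (c * v * c⁻¹) * (c * (p : G) * c⁻¹)⁻¹ * (c * v * c⁻¹)⁻¹ = H.z ^ m := by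
      rw [show (c * (p : G) * c⁻¹) * (c * v * c⁻¹) * (c * (p : G) * c⁻¹)⁻¹ * (c * v * c⁻¹)⁻¹ =
        c * ((p : G) * v * (p : G)⁻¹ * v⁻¹) * c⁻¹ by group, e1]
      exact eq_conj_iff.2 ((show Commute c H.z from H.mem_C.1 hc).zpow_right m).eq
    rcases hc' with e | e <;> rw [e] at e2
    · exact ⟨m, e2.symm⟩
    · refine ⟨-m, ?_⟩
      have hcomm : Commute H.x (H.z ^ m) := (show Commute H.x H.z from H.zx.symm).zpow_right m
      set w := c * v * c⁻¹
      rw [inv_inv] at e2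
      have e3 : H.x * w * H.x⁻¹ * w⁻¹ = H.x * (H.x⁻¹ * w * H.x * w⁻¹)⁻¹ * H.x⁻¹ := by group
      show H.z ^ (-m) = _
      rw [e3, e2, ← zpow_neg, eq_conj_iff.2 ((show Commute H.x H.z from H.zx.symm).zpow_right (-m)).eq]
  rcases b.fixed_x (b.conj_mem hc hv) hw with e | e
  · exact Or.inl (conj_eq_one_iff.1 e)
  · exact Or.inr ((MulAut.conj c).injective (e.trans (H.conj_z hc).symm))

/-- The size of an invariant subgroup of the radical over `z` is twice a power of four. -/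
theorem card_mod {B : Subgroup G} (hBV : B ≤ b.V) (hzB : H.z ∈ B) (hBx : ∀ v ∈ B, H.x * v * H.x⁻¹ ∈ B) :
    Nat.card B % 3 = 2 := by
  have h := fixed_mod_subgroup Nat.prime_three (n := 1) (y := H.x) (by simpa using (three_facts H.x_three).1) hBx
  have e : (B ⊓ centralizer ({H.x} : Set G) : Subgroup G) = zpowers H.z := by
    refine le_antisymm (fun v hv => ?_) (zpowers_le.2 ⟨hzB, mem_centralizer_singleton_iff.2 ?_⟩)
    · refine H.mem_zpowers_z.2 (b.fixed_x (hBV hv.1) ?_)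
      rw [show H.x * v * H.x⁻¹ = v from eq_conj_iff.2 (mem_centralizer_singleton_iff.1 hv.2).symm, mul_inv_cancel]
      exact one_mem _
    · exact H.zx
  rw [e, Nat.card_zpowers, H.z_inv] at h
  exact h

/-- No invariant section has order at most four. -/
theorem section_large {A B : Subgroup G} (hzA : H.z ∈ A) (hAB : A ≤ B) (hBV : B ≤ b.V)
    (hA : ∀ g ∈ H.C, ∀ v ∈ A, g * v * g⁻¹ ∈ A) (hB : ∀ g ∈ H.C, ∀ v ∈ B, g * v * g⁻¹ ∈ B)
    (hcard : Nat.card B ≤ 4 * Nat.card A) : B ≤ A := by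
  haveI : Fact (Nat.Prime 3) := ⟨Nat.prime_three⟩
  haveI hAn : (A.subgroupOf B).Normal := ⟨fun v hv g => hA _ (b.VC (hBV g.2)) _ hv⟩
  let cj : ↥H.C → (↥B →* ↥B) := fun g =>
    ((MulAut.conj (g : G)).toMonoidHom.comp B.subtype).codRestrict B fun v => hB g g.2 v v.2
  have hcj : ∀ g, A.subgroupOf B ≤ (A.subgroupOf B).comap (cj g) := fun g v hv => hA g g.2 _ hv
  let act : ↥H.C → (↥B ⧸ A.subgroupOf B →* ↥B ⧸ A.subgroupOf B) := fun g => QuotientGroup.map _ _ (cj g) (hcj g)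
  have hact : ∀ g (v : ↥B), act g (QuotientGroup.mk v) = QuotientGroup.mk (cj g v) := fun g v => rfl
  have hmul : ∀ g g' : ↥H.C, ∀ q, act (g * g') q = act g (act g' q) := by
    intro g g' q
    obtain ⟨v, rfl⟩ := QuotientGroup.mk_surjective q
    rw [hact, hact, hact]
    exact congrArg QuotientGroup.mk (Subtype.ext (conj_conj' (g : G) g' v).symm)
  have hone : ∀ q, act 1 q = q := by
    intro q
    obtain ⟨v, rfl⟩ := QuotientGroup.mk_surjective q
    rw [hact]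
    exact congrArg QuotientGroup.mk (Subtype.ext (show (1 : G) * (v : G) * (1 : G)⁻¹ = v by simp))
  let ρ : ↥H.C →* Equiv.Perm (↥B ⧸ A.subgroupOf B) :=
    { toFun := fun g => ⟨act g, act g⁻¹, fun q => by rw [← hmul, inv_mul_cancel, hone],
        fun q => by rw [← hmul, mul_inv_cancel, hone]⟩
      map_one' := Equiv.ext hone
      map_mul' := fun g g' => Equiv.ext (hmul g g') }
  have hρ : ∀ g : ↥H.C, g ∈ ρ.ker → ∀ v ∈ B, v⁻¹ * ((g : G) * v * (g : G)⁻¹) ∈ A := by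
    intro g hg v hv
    have h : act g (QuotientGroup.mk ⟨v, hv⟩) = QuotientGroup.mk ⟨v, hv⟩ :=
      congrArg (fun e : Equiv.Perm _ => e (QuotientGroup.mk ⟨v, hv⟩)) (MonoidHom.mem_ker.1 hg)
    rw [hact] at h
    have h' := QuotientGroup.eq.1 h.symm
    exact h'
  have hker : b.f.ker ≤ ρ.ker := by
    intro g hg
    refine MonoidHom.mem_ker.2 (Equiv.ext fun q => ?_)
    obtain ⟨v, rfl⟩ := QuotientGroup.mk_surjective q
    refine (hact g v).trans (QuotientGroup.eq.2 ?_)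
    show ((g : G) * v * (g : G)⁻¹)⁻¹ * v ∈ A
    obtain ⟨k, hk⟩ := mem_zpowers_iff.1 (b.comm_z (inv_mem (hBV v.2)) ((b.ker g).1 (MonoidHom.mem_ker.1 hg)))
    rw [show ((g : G) * v * (g : G)⁻¹)⁻¹ * v = ((v : G)⁻¹ * g * (v : G)⁻¹⁻¹ * (g : G)⁻¹)⁻¹ by group, ← hk]
    exact inv_mem (zpow_mem hzA k)
  haveI : (ρ.ker.map b.f).Normal := Normal.map inferInstance _ b.surj
  haveI : IsSimpleGroup Five.A5 := alternatingGroup.isSimpleGroup (by simp)
  rcases IsSimpleGroup.eq_bot_or_eq_top_of_normal (ρ.ker.map b.f) inferInstance with h | h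
  · exfalso
    have hle : ρ.ker ≤ b.f.ker := fun g hg => by
      have : b.f g ∈ ρ.ker.map b.f := ⟨g, hg, rfl⟩
      rw [h] at this
      exact MonoidHom.mem_ker.2 (mem_bot.1 this)
    have h60 : ρ.ker.index = 60 := by
      rw [le_antisymm hle hker, index_ker, MonoidHom.range_eq_top.2 b.surj, card_top, Five.card]
    rw [index_ker] at h60
    have hq : Nat.card (↥B ⧸ A.subgroupOf B) ≤ 4 := by
      have h1 := card_mul_index (A.subgroupOf B)
      rw [Nat.card_congr (subgroupOfEquivOfLe hAB).toEquiv] at h1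
      show (A.subgroupOf B).index ≤ 4
      have hpos := Nat.card_pos (α := A)
      nlinarith
    have hp := Nat.card_le_card_of_injective ρ.range.subtype ρ.range.subtype_injective
    rw [h60, Nat.card_perm] at hp
    have := Nat.factorial_le hq
    simp [Nat.factorial] at this hp ⊢
    omega
  · intro v hv
    obtain ⟨g, hg, hgx⟩ : b.f ⟨H.x, H.x_mem⟩ ∈ ρ.ker.map b.f := h ▸ mem_top _
    have hxk : (⟨H.x, H.x_mem⟩ : ↥H.C) ∈ ρ.ker := by
      have : (⟨H.x, H.x_mem⟩ : ↥H.C) = g * (g⁻¹ * ⟨H.x, H.x_mem⟩) := by group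
      rw [this]
      exact mul_mem hg (hker (by rw [MonoidHom.mem_ker, map_mul, map_inv, hgx, inv_mul_cancel]))
    obtain ⟨d, hd, hfix⟩ := exists_fixed_coset Nat.prime_three (by norm_num) (n := 1) (y := H.x)
      (by simpa using (three_facts H.x_three).1) (b.isPGroup.to_le (hAB.trans hBV))
      (fun d hd => hA _ H.x_mem d hd) (hρ _ hxk v hv)
    have hvd : v * d ∈ A := by
      rcases b.fixed_x (mul_mem (hBV hv) (hBV (hAB hd))) (by rw [hfix, mul_inv_cancel]; exact one_mem _) with e | e <;>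
        rw [e]
      exacts [one_mem _, hzA]
    exact (A.mul_mem_cancel_right hd).1 hvd

/-- An involution of the quotient centralises at most the square root. -/
theorem half {B : Subgroup G} (hzB : H.z ∈ B) (hBV : B ≤ b.V) (hB : ∀ g ∈ H.C, ∀ v ∈ B, g * v * g⁻¹ ∈ B)
    {a : G} (ha : a ∈ H.C) (ha2 : a * a ∈ b.V) (haV : a ∉ b.V) :
    Nat.card (H.modCent B a) ^ 2 ≤ 2 * Nat.card B := by
  set aC : ↥H.C := ⟨a, ha⟩
  have hs : b.f aC * b.f aC = 1 := by rw [← map_mul]; exact (b.ker _).2 ha2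
  have hs1 : b.f aC ≠ 1 := fun h => haV ((b.ker _).1 h)
  obtain ⟨k, hk, hk1⟩ := Five.three_pair _ hs hs1
  obtain ⟨k, rfl⟩ := b.surj k
  set a' : ↥H.C := k * aC * k⁻¹
  have hy3 : orderOf (b.f (aC * a')) = 3 := by
    refine orderOf_eq_three ?_ ?_ <;> simp only [map_mul, map_inv, a'] <;> assumption
  set C₁ := H.modCent B a
  set C₂ := H.modCent B (a' : G)
  have hinf : C₂ ⊓ C₁ ≤ zpowers H.z := by
    rintro v ⟨⟨⟨hvB, hvC⟩, h2⟩, ⟨-, h1⟩⟩
    refine H.mem_zpowers_z.2 (b.fixed_three (aC * a').2 hy3 (hBV hvB) ?_)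
    obtain ⟨m, hm⟩ := mem_zpowers_iff.1 h2
    have e : (a * (a' : G)) * v * (a * (a' : G))⁻¹ * v⁻¹ =
        a * ((a' : G) * v * (a' : G)⁻¹ * v⁻¹) * a⁻¹ * (a * v * a⁻¹ * v⁻¹) := by group
    show (a * (a' : G)) * v * (a * (a' : G))⁻¹ * v⁻¹ ∈ zpowers H.z
    rw [e, ← hm, eq_conj_iff.2 ((show Commute a H.z from H.mem_C.1 ha).zpow_right m).eq]
    exact mul_mem ⟨m, rfl⟩ h1
  have heq : Nat.card C₂ = Nat.card C₁ := by
    refine Nat.card_congr (Equiv.mk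
      (fun v => ⟨(k : G)⁻¹ * v * k, ?_⟩) (fun v => ⟨(k : G) * v * (k : G)⁻¹, ?_⟩) ?_ ?_)
    · obtain ⟨⟨hv, hvC⟩, h⟩ := v.2
      refine ⟨⟨?_, H.C.mul_mem (H.C.mul_mem (inv_mem k.2) hvC) k.2⟩, ?_⟩
      · have := hB _ (inv_mem k.2) _ hv
        rwa [inv_inv] at this
      · obtain ⟨m, hm⟩ := mem_zpowers_iff.1 h
        refine ⟨m, ?_⟩
        show H.z ^ m = a * ((k : G)⁻¹ * v * k) * a⁻¹ * ((k : G)⁻¹ * v * k)⁻¹
        rw [show a * ((k : G)⁻¹ * v * k) * a⁻¹ * ((k : G)⁻¹ * v * k)⁻¹ =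
          (k : G)⁻¹ * (((k : G) * a * (k : G)⁻¹) * v * ((k : G) * a * (k : G)⁻¹)⁻¹ * (v : G)⁻¹) * (k : G)⁻¹⁻¹ by group]
        rw [show (k : G) * a * (k : G)⁻¹ = (a' : G) from rfl, ← hm,
          eq_conj_iff.2 ((show Commute (k : G)⁻¹ H.z from H.mem_C.1 (inv_mem k.2)).zpow_right m).eq]
    · obtain ⟨⟨hv, hvC⟩, h⟩ := v.2
      refine ⟨⟨hB _ k.2 _ hv, H.C.mul_mem (H.C.mul_mem k.2 hvC) (inv_mem k.2)⟩, ?_⟩
      obtain ⟨m, hm⟩ := mem_zpowers_iff.1 h
      refine ⟨m, ?_⟩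
      show H.z ^ m = ((k : G) * a * (k : G)⁻¹) * ((k : G) * (v : G) * (k : G)⁻¹) * ((k : G) * a * (k : G)⁻¹)⁻¹ * ((k : G) * (v : G) * (k : G)⁻¹)⁻¹
      rw [show ((k : G) * a * (k : G)⁻¹) * ((k : G) * (v : G) * (k : G)⁻¹) * ((k : G) * a * (k : G)⁻¹)⁻¹ * ((k : G) * (v : G) * (k : G)⁻¹)⁻¹ =
        (k : G) * (a * v * a⁻¹ * (v : G)⁻¹) * (k : G)⁻¹ by group, ← hm,
        eq_conj_iff.2 ((show Commute (k : G) H.z from H.mem_C.1 k.2).zpow_right m).eq]
    · intro v; apply Subtype.ext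
      show (k : G) * ((k : G)⁻¹ * v * k) * (k : G)⁻¹ = v
      group
    · intro v; apply Subtype.ext
      show (k : G)⁻¹ * ((k : G) * v * (k : G)⁻¹) * k = v
      group
  have h1 : Nat.card C₁ = Nat.card ↥(C₂ ⊓ C₁) * C₂.relIndex C₁ := by
    rw [← inf_relIndex_right, relIndex, ← card_mul_index ((C₂ ⊓ C₁).subgroupOf C₁),
      Nat.card_congr (subgroupOfEquivOfLe inf_le_right).toEquiv]
  have h2 : Nat.card B = Nat.card C₂ * C₂.relIndex B := by
    rw [relIndex, ← card_mul_index (C₂.subgroupOf B),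
      Nat.card_congr (subgroupOfEquivOfLe (modCent_le B _)).toEquiv]
  have h3 : C₂.relIndex C₁ ≤ C₂.relIndex B :=
    relIndex_le_of_le_right (modCent_le B _) index_ne_zero_of_finite
  have h4 : Nat.card ↥(C₂ ⊓ C₁) ≤ 2 := by
    have := card_le_of_le hinf
    rwa [Nat.card_zpowers, H.z_inv] at this
  rw [heq] at h2
  rw [pow_two]
  calc Nat.card C₁ * Nat.card C₁ = Nat.card C₁ * (Nat.card ↥(C₂ ⊓ C₁) * C₂.relIndex C₁) := by rw [← h1]
    _ ≤ Nat.card C₁ * (2 * C₂.relIndex B) := Nat.mul_le_mul_left _ (Nat.mul_le_mul h4 h3)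
    _ = 2 * Nat.card B := by rw [h2]; ring

end CaseB

end Hyp

end Cfsg.Agent.SelfSix
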