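import Cfsg.Agent.Lib.SelfSix.CaseBBase

/-!
# The elementary radical with quotient `A₅`: a Sylow subgroup, and the radical is not moved off `z`
-/

set_option autoImplicit false
set_option linter.style.haveILetI false
set_option linter.unusedSectionVars false

namespace Cfsg.Agent.SelfSix

open Subgroup

variable {G : Type*} [Group G] [Finite G]

namespace Hyp

variable {H : Hyp G}

namespace CaseB

/-- The data of the Sylow subgroup over a four group normalised by the element of order three. -/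
structure Syl (b : H.CaseB) where
  /-- the Sylow subgroup -/
  T : Sylow 2 G
  central : H.Central T
  le : b.V ≤ T
  card : Nat.card T = 4 * Nat.card b.V
  x_norm : ∀ g ∈ T, H.x * g * H.x⁻¹ ∈ T
  sq : ∀ g ∈ T, g * g ∈ b.V
  comm : ∀ g ∈ T, ∀ h ∈ T, g * h * g⁻¹ * h⁻¹ ∈ b.V

variable (b : H.CaseB)

theorem card_C : Nat.card H.C = 60 * Nat.card b.V := by
  have h := card_mul_index b.f.ker
  rw [index_ker, MonoidHom.range_eq_top.2 b.surj, card_top, Five.card] at h
  have hk : b.f.ker = b.V.subgroupOf H.C := by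
    ext g
    rw [MonoidHom.mem_ker, b.ker, mem_subgroupOf]
  rw [← h, hk, Nat.card_congr (subgroupOfEquivOfLe b.VC).toEquiv, mul_comm]

theorem exists_syl : Nonempty b.Syl := by
  haveI : Fact (Nat.Prime 2) := ⟨Nat.prime_two⟩
  obtain ⟨h3, h1⟩ := b.fx
  set r := b.f ⟨H.x, H.x_mem⟩ with hr
  obtain ⟨s, hs, hs1, hne, hcomm, hrot⟩ := Five.four_of_three r h3 h1
  set s' := r * s * r⁻¹ with hs'
  have hs'2 : s' * s' = 1 := by rw [hs', ← conj_mul', hs]; simp
  let K : Subgroup Five.A5 :=
    { carrier := {1, s, s', s * s'}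
      one_mem' := by simp
      mul_mem' := by
        intro a c ha hc
        simp only [Set.mem_insert_iff, Set.mem_singleton_iff] at ha hc ⊢
        have e1 : s' * s = s * s' := hcomm.symm
        have e2 : s * (s * s') = s' := by rw [← mul_assoc, hs, one_mul]
        have e3 : s' * (s * s') = s := by rw [← mul_assoc, e1, mul_assoc, hs'2, mul_one]
        have e4 : s * s' * s = s' := by rw [mul_assoc, e1, e2]
        have e5 : s * s' * s' = s := by rw [mul_assoc, hs'2, mul_one]
        have e6 : s * s' * (s * s') = 1 := by rw [mul_assoc, e3, hs]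
        rcases ha with rfl | rfl | rfl | rfl <;> rcases hc with rfl | rfl | rfl | rfl <;>
          simp [hs, hs'2, e1, e2, e3, e4, e5, e6]
      inv_mem' := by
        intro a ha
        simp only [Set.mem_insert_iff, Set.mem_singleton_iff] at ha ⊢
        rcases ha with rfl | rfl | rfl | rfl
        · simp
        · simp [inv_eq_of_mul_eq_one_right hs]
        · simp [inv_eq_of_mul_eq_one_right hs'2]
        · rw [mul_inv_rev, inv_eq_of_mul_eq_one_right hs, inv_eq_of_mul_eq_one_right hs'2, ← hcomm]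
          simp }
  have hK : ∀ a ∈ K, a = 1 ∨ a = s ∨ a = s' ∨ a = s * s' := fun a ha => ha
  have hKr : ∀ a ∈ K, r * a * r⁻¹ ∈ K := by
    intro a ha
    show r * a * r⁻¹ ∈ ({1, s, s', s * s'} : Set Five.A5)
    rcases hK a ha with rfl | rfl | rfl | rfl
    · simp
    · simp [hs']
    · rw [hrot]; simp
    · rw [conj_mul', hrot, ← hs', show s' * (s * s') = s by rw [← mul_assoc, ← hcomm, mul_assoc, hs'2, mul_one]]
      simp
  have hK4 : Nat.card K = 4 := by
    rw [← SetLike.coe_sort_coe, Nat.card_coe_set_eq]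
    show Set.ncard ({1, s, s', s * s'} : Set Five.A5) = 4
    have hs'1 : s' ≠ 1 := fun h => hs1 (conj_eq_one_iff.1 h)
    have hss : s * s' ≠ 1 := fun h => hne ((eq_inv_of_mul_eq_one_right h).trans (inv_eq_of_mul_eq_one_right hs))
    rw [Set.ncard_insert_of_notMem (by
        simp only [Set.mem_insert_iff, Set.mem_singleton_iff, not_or]
        exact ⟨hs1.symm, hs'1.symm, hss.symm⟩) (Set.toFinite _),
      Set.ncard_insert_of_notMem (by
        simp only [Set.mem_insert_iff, Set.mem_singleton_iff, not_or]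
        exact ⟨Ne.symm hne, fun h => hs'1 (mul_eq_left.1 h.symm)⟩) (Set.toFinite _),
      Set.ncard_pair (fun h => hs1 (mul_eq_right.1 h.symm))]
  set P : Subgroup ↥H.C := K.comap b.f with hP
  set T₀ : Subgroup G := P.map H.C.subtype with hT₀
  have hmem : ∀ g ∈ T₀, ∃ h : g ∈ H.C, b.f ⟨g, h⟩ ∈ K := by
    rintro _ ⟨g, hg, rfl⟩
    exact ⟨g.2, hg⟩
  have hVT : b.V ≤ T₀ := fun v hv => ⟨⟨v, b.VC hv⟩, mem_comap.2 (by rw [(b.ker _).2 hv]; exact one_mem K), rfl⟩
  have hcard : Nat.card T₀ = 4 * Nat.card b.V := by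
    rw [hT₀, card_map_of_injective H.C.subtype_injective, hP]
    have hle : b.f.ker ≤ K.comap b.f := MonoidHom.ker_le_comap _ _
    have h1 := card_mul_index (b.f.ker.subgroupOf (K.comap b.f))
    have h2 : (b.f.ker.subgroupOf (K.comap b.f)).index = 4 := by
      rw [← relIndex, ← MonoidHom.comap_bot, relIndex_comap, map_comap_eq_self_of_surjective b.surj,
        relIndex_bot_left, hK4]
    rw [h2, Nat.card_congr (subgroupOfEquivOfLe hle).toEquiv] at h1
    have hk : b.f.ker = b.V.subgroupOf H.C := by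
      ext g
      rw [MonoidHom.mem_ker, b.ker, mem_subgroupOf]
    rw [← h1, hk, Nat.card_congr (subgroupOfEquivOfLe b.VC).toEquiv, mul_comm]
  obtain ⟨S, hSz, hSc⟩ := H.exists_sylow
  have hS : H.Central S := ⟨hSz, hSc⟩
  have hcardS : Nat.card S = Nat.card T₀ := by
    obtain ⟨n, hn⟩ := two_group_card b.isPGroup
    have h := (S.subtype hS.le).card_eq_multiplicity
    rw [b.card_C, hn, show (60 : ℕ) * 2 ^ n = 2 ^ (n + 2) * 15 by ring,
      Nat.factorization_mul (by positivity) (by norm_num), Finsupp.coe_add, Pi.add_apply,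
      Nat.Prime.factorization_pow Nat.prime_two, Nat.factorization_eq_zero_of_not_dvd (show ¬ 2 ∣ 15 by norm_num)] at h
    rw [hcard, hn, show Nat.card S = Nat.card ↥((S : Subgroup G).subgroupOf H.C) from
      (Nat.card_congr (subgroupOfEquivOfLe hS.le).toEquiv).symm]
    refine h.trans ?_
    simp
    ring
  refine ⟨⟨Sylow.ofCard T₀ (by rw [← hcardS]; exact S.card_eq_multiplicity), ⟨hVT b.zV, fun g hg =>
    H.mem_C.1 (hmem g hg).1⟩, hVT, hcard, fun g hg => ?_, fun g hg => ?_, fun g hg h hh => ?_⟩⟩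
  · obtain ⟨hC, hf⟩ := hmem g hg
    refine ⟨⟨H.x, H.x_mem⟩ * ⟨g, hC⟩ * ⟨H.x, H.x_mem⟩⁻¹, mem_comap.2 ?_, rfl⟩
    rw [map_mul, map_mul, map_inv, ← hr]
    exact hKr _ hf
  · obtain ⟨hC, hf⟩ := hmem g hg
    refine (b.ker (⟨g, hC⟩ * ⟨g, hC⟩)).1 ?_
    rw [map_mul]
    rcases hK _ hf with e | e | e | e <;> rw [e]
    · exact one_mul 1
    · exact hs
    · exact hs'2
    · rw [(show Commute s' s from hcomm.symm).mul_mul_mul_comm, hs, hs'2, one_mul]
  · obtain ⟨hC, hf⟩ := hmem g hg
    obtain ⟨hC', hf'⟩ := hmem h hh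
    refine (b.ker (⟨g, hC⟩ * ⟨h, hC'⟩ * ⟨g, hC⟩⁻¹ * ⟨h, hC'⟩⁻¹)).1 ?_
    rw [map_mul, map_mul, map_mul, map_inv, map_inv]
    have hc : Commute (b.f ⟨g, hC⟩) (b.f ⟨h, hC'⟩) := by
      have c : Commute s s' := hcomm
      rcases hK _ hf with e | e | e | e <;> rw [e] <;> rcases hK _ hf' with e' | e' | e' | e' <;> rw [e']
      all_goals first
        | exact Commute.one_left _
        | exact Commute.one_right _
        | exact Commute.refl _
        | exact c
        | exact c.symm
        | exact (Commute.refl s).mul_right c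
        | exact c.symm.mul_right (Commute.refl s')
        | exact ((Commute.refl s).mul_right c).symm
        | exact (c.symm.mul_right (Commute.refl s')).symm
    rw [hc.eq]
    group

/-- No element normalising the radical moves `z`. -/
theorem normalizer_false (S : b.Syl) {n : G} (hn : n ∈ normalizer (b.V : Set G))
    (hz : n * H.z * n⁻¹ ≠ H.z) : False := by
  haveI : Fact (Nat.Prime 2) := ⟨Nat.prime_two⟩
  haveI : Fact (Nat.Prime 3) := ⟨Nat.prime_three⟩
  set N : Subgroup G := normalizer (b.V : Set G) with hN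
  have hVN : b.V ≤ N := le_normalizer
  have hCN : H.C ≤ N := by
    intro g hg
    rw [hN, mem_normalizer_iff]
    refine fun v => ⟨fun hv => b.conj_mem hg hv, fun hv => ?_⟩
    have := b.conj_mem (inv_mem hg) hv
    rwa [conj_conj', inv_mul_cancel, inv_one, mul_one, one_mul] at this
  haveI : (b.V.subgroupOf N).Normal := normal_subgroupOf_iff_le_normalizer hVN |>.2 le_rfl
  set π := QuotientGroup.mk' (b.V.subgroupOf N) with hπ
  have hπ1 : ∀ g : ↥N, π g = 1 ↔ (g : G) ∈ b.V := fun g => by
    rw [hπ, QuotientGroup.mk'_apply, QuotientGroup.eq_one_iff, mem_subgroupOf]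
  set ι : ↥H.C →* (↥N ⧸ b.V.subgroupOf N) := π.comp (Subgroup.inclusion hCN) with hι
  have hιker : ι.ker = b.f.ker := by
    ext g
    rw [MonoidHom.mem_ker, MonoidHom.mem_ker, b.ker, hι, MonoidHom.comp_apply, hπ1, coe_inclusion]
  obtain ⟨j, hj, hjf⟩ : ∃ j : Five.A5 →* (↥N ⧸ b.V.subgroupOf N), Function.Injective j ∧ ∀ g, j (b.f g) = ι g := by
    refine ⟨(MonoidHom.liftOfSurjective b.f b.surj) ⟨ι, hιker ▸ le_rfl⟩, ?_, fun g => ?_⟩
    · rw [injective_iff_map_eq_one]
      intro a ha
      obtain ⟨g, rfl⟩ := b.surj a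
      rw [MonoidHom.liftOfRightInverse_comp_apply] at ha
      rw [← MonoidHom.mem_ker, ← hιker]
      exact ha
    · exact MonoidHom.liftOfRightInverse_comp_apply _ _ _ _ g
  set xN : ↥N := ⟨H.x, hCN H.x_mem⟩ with hxN
  have hox : orderOf (π xN) = 3 := orderOf_eq_three
    (by rw [← map_pow, show xN ^ 3 = 1 from Subtype.ext (by simpa [hxN] using (three_facts H.x_three).1), map_one])
    fun h => b.x_not_mem ((hπ1 _).1 h)
  set X : Subgroup (↥N ⧸ b.V.subgroupOf N) := zpowers (π xN) with hX
  have hcX : centralizer (X : Set _) = X := by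
    refine le_antisymm (fun q hq => ?_) fun q hq a ha => ?_
    · obtain ⟨h, rfl⟩ := QuotientGroup.mk'_surjective _ q
      have hc := mem_centralizer_iff.1 hq (π xN) (mem_zpowers _)
      have hv : H.x⁻¹ * ((h : G) * H.x * (h : G)⁻¹) ∈ b.V := by
        refine (hπ1 (xN⁻¹ * (h * xN * h⁻¹))).1 ?_
        rw [map_mul, map_inv, map_mul, map_mul, ← hc, map_inv, mul_inv_cancel_right, inv_mul_cancel]
      have hC' : (h : G) * H.x * (h : G)⁻¹ ∈ H.C := by
        have := H.C.mul_mem H.x_mem (b.VC hv)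
        rwa [mul_inv_cancel_left] at this
      obtain ⟨c, hcC, hc'⟩ := H.three_conj hC' ((orderOf_conj' _ _).trans H.x_three)
      rw [conj_conj'] at hc'
      set g := c * (h : G) with hg
      have hgN : g ∈ N := mul_mem (hCN hcC) h.2
      have hgz : g ∈ H.C := by
        have hcom : H.x * (g * H.z * g⁻¹) = g * H.z * g⁻¹ * H.x := by
          have h1 : Commute (g * H.x * g⁻¹) (g * H.z * g⁻¹) :=
            (show Commute H.x H.z from H.zx.symm).map (MulAut.conj g).toMonoidHom
          rcases hc' with e | e <;> rw [e] at h1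
          · exact h1.eq
          · simpa using h1.inv_left.eq
        have hV : g * H.z * g⁻¹ ∈ b.V := (mem_normalizer_iff.1 hgN H.z).1 b.zV
        refine H.mem_C.2 (eq_conj_iff.1 ((b.fixed_x hV ?_).resolve_left fun e => H.z_ne (conj_eq_one_iff.1 e)))
        rw [eq_conj_iff.2 hcom, mul_inv_cancel]
        exact one_mem _
      have hh : (h : G) ∈ H.C := (H.C.mul_mem_cancel_left hcC).1 hgz
      have hfc : b.f ⟨h, hh⟩ * b.f ⟨H.x, H.x_mem⟩ = b.f ⟨H.x, H.x_mem⟩ * b.f ⟨h, hh⟩ := by
        apply hj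
        rw [map_mul, map_mul, hjf, hjf]
        exact hc.symm
      obtain ⟨h3, h1⟩ := b.fx
      have hpow : ∃ i : ℕ, b.f ⟨h, hh⟩ = b.f ⟨H.x, H.x_mem⟩ ^ i := by
        rcases Five.cent_three _ _ h3 h1 hfc with e | e | e
        exacts [⟨0, by rw [e, pow_zero]⟩, ⟨1, by rw [e, pow_one]⟩, ⟨2, by rw [e, pow_two]⟩]
      obtain ⟨i, hi⟩ := hpow
      refine ⟨(i : ℤ), ?_⟩
      show π xN ^ (i : ℤ) = π h
      have := congrArg j hi
      rw [map_pow, hjf, hjf] at this
      rw [zpow_natCast]
      exact this.symm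
    · obtain ⟨k, rfl⟩ := mem_zpowers_iff.1 hq
      obtain ⟨m, rfl⟩ := mem_zpowers_iff.1 ha
      exact ((Commute.refl _).zpow_zpow m k).eq
  have h60 : Nat.card j.range = 60 := by
    rw [← Nat.card_congr (MonoidHom.ofInjective hj).toEquiv, Five.card]
  have hdvd : 60 ∣ Nat.card (↥N ⧸ b.V.subgroupOf N) := h60 ▸ card_subgroup_dvd_card _
  rcases S3331.result X (by rw [hX, Nat.card_zpowers, hox]) hcX with
    ⟨M, hMn, hMnil, -, hq⟩ | ⟨M, hMn, -, hM2, ⟨e⟩⟩ | ⟨⟨e⟩⟩
  · haveI := hMn
    haveI := hMnil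
    haveI : Group.IsSolvable ((↥N ⧸ b.V.subgroupOf N) ⧸ M) := by
      rcases hq with h3 | ⟨⟨e⟩⟩
      · haveI : IsCyclic ((↥N ⧸ b.V.subgroupOf N) ⧸ M) := isCyclic_of_prime_card h3
        infer_instance
      · haveI : Group.IsSolvable (Equiv.Perm (Fin 3)) := by
          haveI : IsCyclic (Equiv.Perm.sign (α := Fin 3)).ker := isCyclic_of_prime_card (p := 3) (by
            rw [Nat.card_eq_fintype_card]; decide)
          exact Group.isSolvable_of_ker_le_range (Equiv.Perm.sign (α := Fin 3)).ker.subtype Equiv.Perm.sign (by simp)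
        exact Group.isSolvable_of_surjective (f := e.symm.toMonoidHom) e.symm.surjective
    haveI : Group.IsSolvable (↥N ⧸ b.V.subgroupOf N) :=
      Group.isSolvable_of_ker_le_range M.subtype (QuotientGroup.mk' M) (by simp)
    haveI : Group.IsSolvable Five.A5 := Group.isSolvable_of_isSolvable_injective hj
    haveI : IsSimpleGroup Five.A5 := alternatingGroup.isSimpleGroup (by simp)
    obtain ⟨p, q, hpq⟩ := Five.not_comm
    exact hpq (IsSimpleGroup.comm_iff_isSolvable.2 inferInstance p q)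
  · haveI := hMn
    have hcard : Nat.card (↥N ⧸ b.V.subgroupOf N) = 60 * Nat.card M := by
      rw [← card_mul_index M, index, Nat.card_congr e.toEquiv, Five.card, mul_comm]
    have hM1 : Nat.card M = 1 := by
      have hM : IsPGroup 2 M := fun m => ⟨1, Subtype.ext (by simpa using hM2 m m.2)⟩
      obtain ⟨k, hk⟩ := hM.exists_card_eq
      rcases k with _ | k
      · exact hk
      · exfalso
        have h1 := card_mul_index (b.V.subgroupOf N)
        rw [index, hcard, hk, Nat.card_congr (subgroupOfEquivOfLe hVN).toEquiv] at h1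
        obtain ⟨n, hn⟩ := two_group_card b.isPGroup
        have h2 : 2 ^ (n + 3) ∣ Nat.card G := by
          refine Dvd.dvd.trans ?_ (card_subgroup_dvd_card N)
          rw [← h1, hn]
          exact ⟨15 * 2 ^ k, by ring⟩
        have h3 := (Nat.Prime.pow_dvd_iff_le_factorization Nat.prime_two Nat.card_pos.ne').1 h2
        have h4 := S.T.card_eq_multiplicity
        rw [S.card, hn, show 4 * 2 ^ n = 2 ^ (n + 2) by ring] at h4
        have := Nat.pow_right_injective le_rfl h4
        omega
    have htop : j.range = ⊤ := eq_top_of_card_eq _ (by rw [h60, hcard, hM1])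
    obtain ⟨a, ha⟩ : π ⟨n, hn⟩ ∈ j.range := htop ▸ mem_top _
    obtain ⟨g, rfl⟩ := b.surj a
    rw [hjf] at ha
    have h1 : π ((Subgroup.inclusion hCN g)⁻¹ * ⟨n, hn⟩) = 1 := by
      rw [map_mul, map_inv, ← ha]
      exact inv_mul_cancel _
    have hnC : n ∈ H.C := by
      have := H.C.mul_mem g.2 (b.VC ((hπ1 _).1 h1))
      simpa using this
    exact hz (H.conj_z hnC)
  · have h168 : Nat.card (Matrix.ProjectiveSpecialLinearGroup (Fin 2) (ZMod 7)) ≤ 336 := by
      refine (Nat.card_le_card_of_surjective _ (QuotientGroup.mk'_surjective _)).trans ?_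
      rw [Nat.card_eq_fintype_card]
      decide +kernel
    rw [Nat.card_congr e.toEquiv] at hdvd
    have h8 : ¬ 8 ∣ Nat.card (↥N ⧸ b.V.subgroupOf N) := by
      intro h8
      have h1 := card_mul_index (b.V.subgroupOf N)
      rw [index, Nat.card_congr (subgroupOfEquivOfLe hVN).toEquiv] at h1
      obtain ⟨n, hn⟩ := two_group_card b.isPGroup
      have h2 : 2 ^ (n + 3) ∣ Nat.card G := by
        refine Dvd.dvd.trans ?_ (card_subgroup_dvd_card N)
        rw [← h1, hn, pow_add]
        exact Nat.mul_dvd_mul_left _ h8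
      have h3 := (Nat.Prime.pow_dvd_iff_le_factorization Nat.prime_two Nat.card_pos.ne').1 h2
      have h4 := S.T.card_eq_multiplicity
      rw [S.card, hn, show 4 * 2 ^ n = 2 ^ (n + 2) by ring] at h4
      have := Nat.pow_right_injective le_rfl h4
      omega
    refine h8 ?_
    rw [Nat.card_congr e.toEquiv]
    -- a Sylow 2-subgroup of `PSL(2,7)` has order eight
    have hsl : Nat.card (Matrix.SpecialLinearGroup (Fin 2) (ZMod 7)) = 336 := by
      rw [Nat.card_eq_fintype_card]
      decide +kernel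
    have hmul := card_mul_index (center (Matrix.SpecialLinearGroup (Fin 2) (ZMod 7)))
    rw [hsl, index] at hmul
    have hz2 : Nat.card (center (Matrix.SpecialLinearGroup (Fin 2) (ZMod 7))) ≤ 2 := by
      rw [Nat.card_eq_fintype_card]
      decide +kernel
    set p := Nat.card (Matrix.SpecialLinearGroup (Fin 2) (ZMod 7) ⧸ center (Matrix.SpecialLinearGroup (Fin 2) (ZMod 7)))
    have hcp : Nat.card (center (Matrix.SpecialLinearGroup (Fin 2) (ZMod 7))) = 1 ∨
        Nat.card (center (Matrix.SpecialLinearGroup (Fin 2) (ZMod 7))) = 2 := by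
      have := Nat.card_pos (α := center (Matrix.SpecialLinearGroup (Fin 2) (ZMod 7)))
      omega
    rcases hcp with h | h <;> rw [h] at hmul <;> show 8 ∣ p <;> omega

end CaseB

end Hyp

end Cfsg.Agent.SelfSix
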