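import Cfsg.Agent.Lib.SelfSix.Bar
import Cfsg.Agent.Lib.SelfSix.TwoTimes
import Cfsg.Agent.Lib.Forms.KleinPSL
import Cfsg.Agent.S3309

/-!
# The quotient `PSL(2,7)` does not occur

If the preimages of its involutions have order four then the involution is alone in its centralizer; if they are
involutions then a Sylow 2-subgroup is `2 × D₈`.
-/

set_option autoImplicit false
set_option linter.style.haveILetI false
set_option linter.unusedSectionVars false

namespace Cfsg.Agent.SelfSix

open Subgroup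
open scoped MatrixGroups

namespace Seven

/-- An element of order eight of `SL(2,7)`. -/
def D₀ : SL(2, ZMod 7) := ⟨!![0, 6; 1, 3], by decide +kernel⟩

/-- An element of order four inverting it. -/
def E₀ : SL(2, ZMod 7) := ⟨!![1, 1; 5, 6], by decide +kernel⟩

instance : Fact (Nat.Prime 7) := ⟨by norm_num⟩

theorem two_ne : (2 : ZMod 7) ≠ 0 := by decide

theorem facts : (D₀ * D₀) * (D₀ * D₀) = -1 ∧ E₀ * E₀ = -1 ∧ (E₀ * D₀) * (E₀ * D₀) = -1 ∧
    (D₀ * D₀ ≠ 1) ∧ (D₀ * D₀ ≠ -1) := by
  simp only [ne_eq]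
  decide +kernel

/-- Two involutions of `PSL(2,7)` with product of order four. -/
theorem gens : ∃ d e : Matrix.ProjectiveSpecialLinearGroup (Fin 2) (ZMod 7),
    orderOf (d * d) = 2 ∧ orderOf e = 2 ∧ orderOf (e * d) = 2 := by
  obtain ⟨f1, f2, f3, f4, f5⟩ := facts
  exact ⟨Forms.KleinPSL.pi _ D₀, Forms.KleinPSL.pi _ E₀,
    by rw [← map_mul]; exact (Forms.KleinPSL.orderOf_pi_eq_two two_ne).2 f1,
    (Forms.KleinPSL.orderOf_pi_eq_two two_ne).2 f2,
    by rw [← map_mul]; exact (Forms.KleinPSL.orderOf_pi_eq_two two_ne).2 f3⟩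

theorem card_psl : Nat.card (Matrix.ProjectiveSpecialLinearGroup (Fin 2) (ZMod 7)) = 168 := by
  have hsl : Nat.card SL(2, ZMod 7) = 336 := by
    rw [Nat.card_eq_fintype_card]
    decide +kernel
  have hc : Nat.card (center SL(2, ZMod 7)) = 2 := by
    have he : ∀ a : SL(2, ZMod 7), a ∈ center SL(2, ZMod 7) ↔ a = 1 ∨ a = -1 := fun a => by
      rw [← Forms.KleinPSL.pi_eq_one, Forms.KleinPSL.pi, QuotientGroup.mk'_apply, QuotientGroup.eq_one_iff]
    have hs : ((center SL(2, ZMod 7) : Subgroup _) : Set SL(2, ZMod 7)) = {1, -1} :=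
      Set.ext fun a => (he a).trans (by simp)
    rw [← SetLike.coe_sort_coe, Nat.card_coe_set_eq, hs, Set.ncard_pair (Forms.KleinPSL.ne_neg_self two_ne 1)]
  have h := card_mul_index (center SL(2, ZMod 7))
  rw [hc, hsl, index] at h
  show Nat.card (SL(2, ZMod 7) ⧸ center SL(2, ZMod 7)) = 168
  omega

end Seven

variable {G : Type*} [Group G] [Finite G]

namespace Hyp

variable (H : Hyp G)

theorem CaseC.false (c : H.CaseC) : False := by
  haveI : Fact (Nat.Prime 2) := ⟨Nat.prime_two⟩
  obtain ⟨T, hTz, hTc⟩ := H.exists_sylow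
  have hT : H.Central T := ⟨hTz, hTc⟩
  set zC : ↥H.C := ⟨H.z, H.z_mem⟩
  have hzc : ∀ g : ↥H.C, g * zC = zC * g := fun g => Subtype.ext (H.mem_C.1 g.2)
  have hzz : zC * zC = 1 := Subtype.ext H.zz
  have hker : ∀ g : ↥H.C, c.f g = 1 ↔ g = 1 ∨ g = zC := fun g => by
    rw [c.ker g, Subtype.ext_iff, Subtype.ext_iff]
    rfl
  have hsq : ∀ g : ↥H.C, orderOf (c.f g) = 2 → g * g = 1 ∨ g * g = zC := fun g hg =>
    (hker _).1 (by rw [map_mul]; exact (two_sq hg).1)
  by_cases hall : ∀ g : ↥H.C, orderOf (c.f g) = 2 → g * g = 1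
  · obtain ⟨d', e', hdd, he', hed⟩ := Seven.gens
    obtain ⟨d, rfl⟩ := c.surj d'
    obtain ⟨e, rfl⟩ := c.surj e'
    rw [← map_mul] at hdd hed
    have hd2 : orderOf (d * d) = 2 := orderOf_eq_two (hall _ hdd) fun h => (two_sq hdd).2.1 (by rw [h, map_one])
    have he2 : orderOf e = 2 := orderOf_eq_two (hall _ he') fun h => (two_sq he').2.1 (by rw [h, map_one])
    have ha2 : orderOf (e * d) = 2 := orderOf_eq_two (hall _ hed) fun h => (two_sq hed).2.1 (by rw [h, map_one])
    have hee := (two_sq he2).1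
    have hea : e * (e * d) = d := by rw [← mul_assoc, hee, one_mul]
    have hd4 : orderOf d = 4 := by
      refine orderOf_eq_prime_pow (p := 2) (n := 1) ?_ ?_
      · rw [pow_one, pow_two]; exact (two_sq hd2).2.1
      · rw [show (2 : ℕ) ^ (1 + 1) = 2 * 2 by norm_num, pow_mul, pow_two, pow_two]; exact (two_sq hd2).1
    have hcardC : Nat.card ↥H.C = 336 := by
      have h1 := card_mul_index c.f.ker
      rw [index_ker, MonoidHom.range_eq_top.2 c.surj, card_top, Seven.card_psl] at h1
      rw [← h1, show c.f.ker = zpowers zC by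
        ext g
        rw [MonoidHom.mem_ker, hker]
        refine ⟨?_, fun h => ?_⟩
        · rintro (rfl | rfl)
          exacts [one_mem _, mem_zpowers _]
        · obtain ⟨k, rfl⟩ := mem_zpowers_iff.1 h
          rcases Int.even_or_odd k with ⟨j, rfl⟩ | ⟨j, rfl⟩
          · exact Or.inl (by rw [← two_mul, zpow_mul, zpow_two, hzz, one_zpow])
          · exact Or.inr (by rw [zpow_add_one, zpow_mul, zpow_two, hzz, one_zpow, one_mul]),
        H.card_zpowers_z]
    have hfac : Nat.card T = 16 := by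
      have h := (T.subtype hT.le).card_eq_multiplicity
      rw [hcardC, show (336 : ℕ).factorization 2 = 4 by
        rw [show (336 : ℕ) = 2 ^ 4 * 21 by norm_num, Nat.factorization_mul (by norm_num) (by norm_num)]
        rw [Nat.Prime.factorization_pow Nat.prime_two]
        simp [Nat.factorization_eq_zero_of_not_dvd (show ¬ 2 ∣ 21 by norm_num)]] at h
      rw [show Nat.card T = Nat.card ↥((T : Subgroup G).subgroupOf H.C) from
        (Nat.card_congr (subgroupOfEquivOfLe hT.le).toEquiv).symm]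
      exact h
    obtain ⟨T₀, hT₀le, hcardT₀, hiso⟩ := exists_two_times_dihedral (T := H.C) (z := H.z) (e := (e : G))
      (a := ((e * d : ↥H.C) : G)) H.z_mem e.2 (e * d).2 H.z_inv
      ((orderOf_coe e).trans he2) ((orderOf_coe (e * d)).trans ha2)
      (by rw [← coe_mul, orderOf_coe, hea]; exact hd4)
      (congrArg Subtype.val (hzc e)).symm (congrArg Subtype.val (hzc (e * d))).symm (by
        intro h
        have h1 : d * d = zC := by
          rw [← hea]
          exact Subtype.ext h.symm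
        rw [h1, (hker zC).2 (Or.inr rfl), orderOf_one] at hdd
        omega)
    haveI := H.simple
    exact S3309.result (Sylow.ofCard T₀ (by rw [hcardT₀, ← hfac]; exact T.card_eq_multiplicity)) hiso H.na
  · push Not at hall
    obtain ⟨g₀, hg₀, hne⟩ := hall
    have hg₀' := (hsq g₀ hg₀).resolve_left hne
    refine H.false_of_unique fun g hg hgz => ?_
    by_contra hcon
    push Not at hcon
    set gC : ↥H.C := ⟨g, H.mem_C.2 hgz⟩
    have hgC : gC * gC = 1 := Subtype.ext hg
    have ho : orderOf (c.f gC) = 2 := orderOf_eq_two (by rw [← map_mul, hgC, map_one]) fun h => by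
      rcases (hker gC).1 h with e | e
      · exact hcon.1 (congrArg Subtype.val e)
      · exact hcon.2 (congrArg Subtype.val e)
    obtain ⟨k, hk⟩ := isConj_iff.1 (Forms.KleinPSL.involutions_isConj Seven.two_ne _ _ ho hg₀)
    obtain ⟨k, rfl⟩ := c.surj k
    have h1 : c.f (g₀⁻¹ * (k * gC * k⁻¹)) = 1 := by
      rw [map_mul, map_inv, map_mul, map_mul, map_inv, hk, inv_mul_cancel]
    have h2 : (k * gC * k⁻¹) * (k * gC * k⁻¹) = 1 := by rw [← conj_mul', hgC]; simp
    rcases (hker _).1 h1 with e | e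
    · rw [inv_mul_eq_one] at e
      rw [e] at hne
      exact hne h2
    · rw [inv_mul_eq_iff_eq_mul] at e
      rw [e, (show Commute g₀ zC from hzc g₀).symm.mul_mul_mul_comm, hzz, mul_one, hg₀'] at h2
      exact H.z_ne (congrArg Subtype.val h2)

end Hyp

end Cfsg.Agent.SelfSix
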