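import Cfsg.Agent.Lib.SelfSix.Base

/-!
# An element of order three moving a four group `⟨z, u⟩`

If `z` is the only central involution of `T` and `u` is an involution of `T` with `[T, u] ⊆ ⟨z⟩`, then
an element of order three normalises the centralizer of `u` in `T` and maps `z` to `u`.
-/

set_option autoImplicit false
set_option linter.style.haveILetI false
set_option linter.unusedSectionVars false

namespace Cfsg.Agent.SelfSix

open Subgroup

variable {G : Type*} [Group G] [Finite G]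

theorem card_two_cosets {P T : Subgroup G} (hPT : P ≤ T) {t : G} (ht : t ∈ T) (htP : t ∉ P)
    (h : ∀ g ∈ T, g ∈ P ∨ t⁻¹ * g ∈ P) : 2 * Nat.card P = Nat.card T := by
  have e : (T : Set G) = (P : Set G) ∪ (fun p => t * p) '' (P : Set G) := by
    ext g
    refine ⟨fun hg => (h g hg).imp id fun h' => ⟨t⁻¹ * g, h', by group⟩, ?_⟩
    rintro (hg | ⟨p, hp, rfl⟩)
    exacts [hPT hg, T.mul_mem ht (hPT hp)]
  have hd : Disjoint (P : Set G) ((fun p => t * p) '' (P : Set G)) := by
    rw [Set.disjoint_left]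
    rintro _ hg ⟨p, hp, rfl⟩
    exact htP ((P.mul_mem_cancel_right hp).1 hg)
  rw [← SetLike.coe_sort_coe, ← SetLike.coe_sort_coe T, Nat.card_coe_set_eq, Nat.card_coe_set_eq, e,
    Set.ncard_union_eq hd, Set.ncard_image_of_injective _ (mul_right_injective t), two_mul]

/-- A subgroup of index two is normalised, and products outside it fall into it. -/
theorem index_two_facts {P T : Subgroup G} (hPT : P ≤ T) (hc : 2 * Nat.card P = Nat.card T) :
    (∀ g ∈ T, ∀ p ∈ P, g * p * g⁻¹ ∈ P) ∧ (∀ a ∈ T, ∀ b ∈ T, a ∉ P → b ∉ P → a * b ∈ P) := by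
  have hidx : (P.subgroupOf T).index = 2 := by
    have h := card_mul_index (P.subgroupOf T)
    rw [Nat.card_congr (subgroupOfEquivOfLe hPT).toEquiv, ← hc, mul_comm 2] at h
    exact mul_left_cancel₀ (Nat.card_pos (α := P)).ne' h
  refine ⟨fun g hg p hp => ?_, fun a ha b hb haP hbP => ?_⟩
  · haveI := normal_of_index_eq_two hidx
    exact Normal.conj_mem (H := P.subgroupOf T) inferInstance ⟨p, hPT hp⟩ hp ⟨g, hg⟩
  · exact (mul_mem_iff_of_index_two hidx (a := ⟨a, ha⟩) (b := ⟨b, hb⟩)).2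
      ⟨fun h => absurd h haP, fun h => absurd h hbP⟩

namespace Hyp

variable (H : Hyp G)

/-- The four step. -/
theorem four_step {T : Sylow 2 G} (hT : H.Central T) (hL : H.Lone T) {u : G} (huT : u ∈ T)
    (hu : orderOf u = 2) (huz : u ≠ H.z)
    (hcomm : ∀ g ∈ T, g * u * g⁻¹ = u ∨ g * u * g⁻¹ = H.z * u) :
    ∃ (P : Subgroup G) (y : G), (∀ g : G, g ∈ P ↔ g ∈ T ∧ g * u = u * g) ∧
      2 * Nat.card P = Nat.card T ∧ orderOf y = 3 ∧ (∀ p ∈ P, y * p * y⁻¹ ∈ P) ∧
      y * H.z * y⁻¹ = u ∧ y * u * y⁻¹ = H.z * u := by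
  set z := H.z with hz
  have hzT : z ∈ T := hT.1
  have hu2 := two_sq hu
  have hzu : z * u = u * z := (hT.2 u huT).symm
  set P : Subgroup G := (T : Subgroup G) ⊓ centralizer ({u} : Set G) with hPdef
  have hP : ∀ g : G, g ∈ P ↔ g ∈ T ∧ g * u = u * g := fun g => by
    rw [hPdef, mem_inf, mem_centralizer_singleton_iff]
    exact Iff.rfl
  have hPT : P ≤ (T : Subgroup G) := inf_le_left
  have hzP : z ∈ P := (hP _).2 ⟨hzT, hzu⟩
  have huP : u ∈ P := (hP _).2 ⟨huT, rfl⟩
  obtain ⟨t0, ht0, ht0u⟩ : ∃ t0 ∈ T, t0 * u * t0⁻¹ = z * u := by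
    by_contra hne
    push Not at hne
    exact huz (hL u huT hu fun g hg => eq_conj_iff.1 ((hcomm g hg).resolve_right (hne g hg)))
  have ht0P : t0 ∉ P := fun h => H.z_ne (by
    have := eq_conj_iff.2 ((hP _).1 h).2
    rw [ht0u] at this
    exact mul_eq_right.1 this)
  have hcard : 2 * Nat.card P = Nat.card T := card_two_cosets hPT ht0 ht0P fun g hg => by
    rcases hcomm g hg with h | h
    · exact Or.inl ((hP _).2 ⟨hg, eq_conj_iff.1 h⟩)
    · refine Or.inr ((hP _).2 ⟨mul_mem (inv_mem ht0) hg, eq_conj_iff.1 ?_⟩)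
      rw [← conj_conj', h, ← ht0u]
      group
  obtain ⟨hPn, hPm⟩ := index_two_facts hPT hcard
  -- the involutions in the centre of `P`
  have hA : ∀ a ∈ P, a * a = 1 → (∀ p ∈ P, p * a = a * p) → a = 1 ∨ a = z ∨ a = u ∨ a = z * u := by
    have hfix : ∀ a ∈ P, a * a = 1 → (∀ p ∈ P, p * a = a * p) → t0 * a * t0⁻¹ = a → a = 1 ∨ a = z := by
      intro a ha ha2 hac hat
      rcases eq_or_ne a 1 with h | h
      · exact Or.inl h
      refine Or.inr (hL a (hPT ha) (orderOf_eq_two ha2 h) fun g hg => ?_)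
      by_cases hgP : g ∈ P
      · exact hac g hgP
      have hm : t0 * g ∈ P := hPm t0 ht0 g hg ht0P hgP
      have h1 : Commute t0 a := eq_conj_iff.1 hat
      have h2 : Commute (t0 * g) a := hac _ hm
      have h3 := h1.inv_left.mul_left h2
      rwa [inv_mul_cancel_left] at h3
    have hmove : ∀ a ∈ P, a * a = 1 → (∀ p ∈ P, p * a = a * p) →
        t0 * a * t0⁻¹ = a ∨ t0 * a * t0⁻¹ = z * a := by
      intro a ha ha2 hac
      set a' := t0 * a * t0⁻¹ with ha'
      have ha'P : a' ∈ P := hPn t0 ht0 a ha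
      have ha'2 : a' * a' = 1 := by rw [ha', ← conj_mul', ha2]; simp
      have hcc : a' * a = a * a' := hac a' ha'P
      have hback : t0 * a' * t0⁻¹ = a := by
        rw [ha', conj_conj']
        exact eq_conj_iff.2 (hac _ (hPm t0 ht0 t0 ht0 ht0P ht0P))
      have ha'c : ∀ p ∈ P, p * a' = a' * p := by
        intro p hp
        have h1 : Commute (t0⁻¹ * p * t0⁻¹⁻¹) a := hac _ (hPn _ (inv_mem ht0) p hp)
        have h2 := h1.map (MulAut.conj t0).toMonoidHom
        simp only [MulEquiv.coe_toMonoidHom, MulAut.conj_apply] at h2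
        rw [show t0 * (t0⁻¹ * p * t0⁻¹⁻¹) * t0⁻¹ = p by group] at h2
        exact h2.eq
      clear_value a'
      have h := hfix (a' * a) (mul_mem ha'P ha) (by
        conv_lhs => arg 2; rw [hcc]
        rw [show a' * a * (a * a') = a' * (a * a) * a' by group, ha2, mul_one, ha'2])
        (fun p hp => ((show Commute p a' from ha'c p hp).mul_right (show Commute p a from hac p hp)).eq)
        (by rw [conj_mul', hback, ← ha', hcc])
      rcases h with h | h
      · left
        calc a' = a' * a * a := by rw [mul_assoc, ha2, mul_one]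
          _ = a := by rw [h, one_mul]
      · right
        calc a' = a' * a * a := by rw [mul_assoc, ha2, mul_one]
          _ = z * a := by rw [h]
    intro a ha ha2 hac
    rcases hmove a ha ha2 hac with h | h
    · exact (hfix a ha ha2 hac h).imp id Or.inl
    · have hau : a * u = u * a := ((hP _).1 ha).2
      have hpu : ∀ p ∈ P, p * (a * u) = a * u * p := fun p hp =>
        ((show Commute p a from hac p hp).mul_right (show Commute p u from ((hP _).1 hp).2)).eq
      have h' := hfix (a * u) (mul_mem ha huP) (by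
        rw [mul_assoc, ← mul_assoc u, ← hau, mul_assoc a u u, hu2.1, mul_one, ha2]) hpu (by
        rw [conj_mul', h, ht0u, mul_assoc, ← mul_assoc a, hac z hzP |>.symm, mul_assoc z a u, ← mul_assoc,
          H.zz, one_mul])
      rcases h' with h' | h'
      · exact Or.inr (Or.inr (Or.inl ((eq_inv_of_mul_eq_one_left h').trans hu2.2.2)))
      · refine Or.inr (Or.inr (Or.inr ?_))
        calc a = a * u * u := by rw [mul_assoc, hu2.1, mul_one]
          _ = z * u := by rw [h']
  -- an element of a Sylow subgroup around `P` at `u`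
  obtain ⟨h, hhu, hhP⟩ := hT.exists_conj_to (T.isPGroup'.to_le hPT) hu fun p hp => ((hP p).1 hp).2
  obtain ⟨r0, hr0, hr0P⟩ : ∃ r0 ∈ T, r0 ∉ P.map (MulAut.conj h).toMonoidHom := by
    by_contra hne
    push Not at hne
    have h1 := card_le_of_le (show (T : Subgroup G) ≤ P.map (MulAut.conj h).toMonoidHom from hne)
    rw [card_map_of_injective (MulAut.conj h).injective] at h1
    have := Nat.card_pos (α := P)
    omega
  have hcard' : 2 * Nat.card ↥(P.map (MulAut.conj h).toMonoidHom) = Nat.card T := by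
    rw [card_map_of_injective (MulAut.conj h).injective]; exact hcard
  obtain ⟨hQn, hQm⟩ := index_two_facts (T := (T : Subgroup G))
    (by rintro _ ⟨p, hp, rfl⟩; exact hhP p hp) hcard'
  set r := h⁻¹ * r0 * h with hr
  have hrP : ∀ p ∈ P, r * p * r⁻¹ ∈ P := by
    intro p hp
    obtain ⟨q, hq, hq'⟩ := hQn r0 hr0 _ ⟨p, hp, rfl⟩
    simp only [MulEquiv.coe_toMonoidHom, MulAut.conj_apply] at hq'
    have : r * p * r⁻¹ = q := by
      rw [hr, show h⁻¹ * r0 * h * p * (h⁻¹ * r0 * h)⁻¹ = h⁻¹ * (r0 * (h * p * h⁻¹) * r0⁻¹) * h by group, ← hq']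
      group
    rw [this]
    exact hq
  have hru : r * u * r⁻¹ = u := by
    have e : r0 * (h * u * h⁻¹) * r0⁻¹ = h * u * h⁻¹ := by
      rw [hhu]; exact eq_conj_iff.2 (hT.2 r0 hr0)
    calc r * u * r⁻¹ = h⁻¹ * (r0 * (h * u * h⁻¹) * r0⁻¹) * h := by rw [hr]; group
      _ = u := by rw [e]; group
  have hzc : ∀ p ∈ P, p * z = z * p := fun p hp => hT.2 p (hPT hp)
  have hrz : r * z * r⁻¹ = z * u := by
    have h2 : (r * z * r⁻¹) * (r * z * r⁻¹) = 1 := by rw [← conj_mul', H.zz]; simp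
    have hsurj : ∀ p ∈ P, ∃ q ∈ P, r * q * r⁻¹ = p := by
      intro p hp
      obtain ⟨⟨q, hq⟩, e⟩ := Finite.surjective_of_injective (f := fun a : P => (⟨r * a * r⁻¹, hrP a a.2⟩ : P))
        (fun a b hab => Subtype.ext ((MulAut.conj r).injective (congrArg Subtype.val hab))) ⟨p, hp⟩
      exact ⟨q, hq, congrArg Subtype.val e⟩
    rcases hA _ (hrP z hzP) h2 (fun p hp => by
      obtain ⟨q, hq, rfl⟩ := hsurj p hp
      rw [← conj_mul', ← conj_mul', hzc q hq]) with e | e | e | e
    · exact absurd (conj_eq_one_iff.1 e) H.z_ne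
    · exfalso
      -- `z` would be central in the Sylow subgroup at `u`
      have hcen : ∀ g ∈ T, g * (h * z * h⁻¹) = h * z * h⁻¹ * g := by
        have hm : ∀ q ∈ P.map (MulAut.conj h).toMonoidHom, Commute q (h * z * h⁻¹) := by
          rintro _ ⟨p, hp, rfl⟩
          exact (show Commute p z from hzc p hp).map (MulAut.conj h).toMonoidHom
        have hr0c : Commute r0 (h * z * h⁻¹) := by
          refine eq_conj_iff.1 ?_
          calc r0 * (h * z * h⁻¹) * r0⁻¹ = h * (r * z * r⁻¹) * h⁻¹ := by rw [hr]; group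
            _ = h * z * h⁻¹ := by rw [e]
        intro g hg
        by_cases hgQ : g ∈ P.map (MulAut.conj h).toMonoidHom
        · exact (hm g hgQ).eq
        · have h3 := hr0c.inv_left.mul_left (hm _ (hQm r0 hr0 g hg hr0P hgQ))
          rw [inv_mul_cancel_left] at h3
          exact h3.eq
      have := hL _ (hhP z hzP) ((orderOf_conj' h z).trans H.z_inv) hcen
      exact huz ((MulAut.conj h).injective (hhu.trans this.symm))
    · exfalso
      have := (MulAut.conj r).injective (e.trans hru.symm)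
      exact huz this.symm
    · exact e
  set g := t0 * r with hg
  have hgP : ∀ p ∈ P, g * p * g⁻¹ ∈ P := fun p hp => by
    rw [hg, ← conj_conj']
    exact hPn t0 ht0 _ (hrP p hp)
  have hgz : g * z * g⁻¹ = u := by
    rw [hg, ← conj_conj', hrz, conj_mul', ht0u, eq_conj_iff.2 (hT.2 t0 ht0), ← mul_assoc, H.zz, one_mul]
  have hgu : g * u * g⁻¹ = z * u := by rw [hg, ← conj_conj', hru, ht0u]
  have hgk : ∀ (k : ℕ) (a : G), g ^ k * (g * a * g⁻¹) * (g ^ k)⁻¹ = g ^ (k + 1) * a * (g ^ (k + 1))⁻¹ :=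
    fun k a => by rw [conj_conj', pow_succ]
  have hg3 : g * (g * (g * z * g⁻¹) * g⁻¹) * g⁻¹ = z := by
    rw [hgz, hgu, conj_mul', hgz, hgu, hzu, ← mul_assoc, hu2.1, one_mul]
  have hg3z : g ^ 3 * z * (g ^ 3)⁻¹ = z := by
    conv_rhs => rw [← hg3]
    rw [pow_succ, pow_two]; group
  have hg3u : g ^ 3 * u * (g ^ 3)⁻¹ = u := by
    calc g ^ 3 * u * (g ^ 3)⁻¹ = g ^ 3 * (g * z * g⁻¹) * (g ^ 3)⁻¹ := by rw [hgz]
      _ = g * (g ^ 3 * z * (g ^ 3)⁻¹) * g⁻¹ := by group
      _ = u := by rw [hg3z, hgz]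
  have hpow : ∀ j : ℕ, ∀ a : G, g ^ 3 * a * (g ^ 3)⁻¹ = a → (g ^ 3) ^ j * a * ((g ^ 3) ^ j)⁻¹ = a :=
    fun j a ha => eq_conj_iff.2 ((show Commute (g ^ 3) a from eq_conj_iff.1 ha).pow_left j).eq
  set k := orderOf g with hk
  have hk3 : 3 ∣ k := by
    by_contra hn
    have hcop : Nat.Coprime 3 k := (Nat.Prime.coprime_iff_not_dvd Nat.prime_three).2 hn
    obtain ⟨j, hj⟩ := exists_pow_eq_self_of_coprime (x := g) hcop
    have := hpow j z hg3z
    rw [hj, hgz] at this
    exact huz this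
  obtain ⟨a, m, hm, hkm⟩ := Nat.exists_eq_pow_mul_and_not_dvd (orderOf_pos g).ne' 3 (by norm_num)
  obtain ⟨e, hme, he⟩ : ∃ e, m ∣ e ∧ e % 3 = 1 := by
    rcases (show m % 3 = 1 ∨ m % 3 = 2 by omega) with h | h
    · exact ⟨m, dvd_rfl, h⟩
    · exact ⟨2 * m, dvd_mul_left _ _, by omega⟩
  set y := g ^ e with hy
  have hy3a : y ^ 3 ^ a = 1 := by
    rw [hy, ← pow_mul, ← orderOf_dvd_iff_pow_eq_one, hkm, mul_comm (3 ^ a)]
    exact mul_dvd_mul_right hme _
  have hye : y = g * (g ^ 3) ^ (e / 3) := by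
    rw [hy, ← pow_mul, ← pow_succ']
    congr 1
    omega
  have hyz : y * z * y⁻¹ = u := by rw [hye, ← conj_conj', hpow _ z hg3z, hgz]
  have hyu : y * u * y⁻¹ = z * u := by rw [hye, ← conj_conj', hpow _ u hg3u, hgu]
  have hy3 : y ^ 3 = 1 := by
    by_contra hne
    have e3 : y ^ 3 = (g ^ 3) ^ e := by rw [hy, ← pow_mul, ← pow_mul, mul_comm]
    have hd : 3 ∣ orderOf (y ^ 3) := by
      obtain ⟨j, -, hj⟩ := (Nat.dvd_prime_pow Nat.prime_three).1
        (orderOf_dvd_of_pow_eq_one (show (y ^ 3) ^ 3 ^ a = 1 by rw [← pow_mul, mul_comm, pow_mul, hy3a, one_pow]))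
      rcases j with _ | j
      · exact absurd (orderOf_eq_one_iff.1 (hj.trans (pow_zero 3))) hne
      · exact hj ▸ dvd_pow_self 3 j.succ_ne_zero
    let V : Subgroup G := (P ⊓ centralizer ({y ^ 3} : Set G))
    have hV : IsPGroup 2 V := T.isPGroup'.to_le (inf_le_left.trans hPT)
    have hle := H.card_two_of_dvd hd hV fun d hd' => mem_centralizer_singleton_iff.1 hd'.2
    have hsub : ∀ a : G, a ∈ P → g ^ 3 * a * (g ^ 3)⁻¹ = a → a ∈ V := fun a haP ha => by
      refine ⟨haP, mem_centralizer_singleton_iff.2 ?_⟩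
      have := eq_conj_iff.1 (hpow e a ha)
      rw [e3]
      exact this.symm
    have h1z : ({1, z, u} : Set G) ⊆ (V : Set G) := by
      intro b hb
      rcases hb with hb | hb | hb <;> rw [hb]
      exacts [one_mem V, hsub z hzP hg3z, hsub u huP hg3u]
    have h3 : ({1, z, u} : Set G).ncard = 3 := by
      rw [Set.ncard_eq_three]
      exact ⟨1, z, u, H.z_ne.symm, hu2.2.1.symm, Ne.symm huz, rfl⟩
    have := Set.ncard_le_ncard h1z (Set.toFinite _)
    rw [h3, ← Nat.card_coe_set_eq] at this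
    exact absurd (le_trans this hle) (by norm_num)
  refine ⟨P, y, hP, hcard, orderOf_eq_three hy3 fun e1 => ?_, fun p hp => ?_, hyz, hyu⟩
  · rw [e1] at hyz
    exact huz (by simpa using hyz.symm)
  · rw [hy]
    clear hy3a hye hyz hyu hy3 hy y hme he
    induction e with
    | zero => simpa using hp
    | succ e ih =>
      rw [pow_succ', ← conj_conj']
      exact hgP _ ih

end Hyp

end Cfsg.Agent.SelfSix
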