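import Cfsg.Agent.Lib.SelfSix.CaseC
import Cfsg.Agent.Lib.SelfSix.CaseB
import Cfsg.Agent.Lib.SelfSix.CaseB0
import Cfsg.Agent.Lib.SelfSix.CaseAThreeEnd
import Cfsg.Agent.Lib.SelfSix.CaseASixFour
import Cfsg.Agent.Lib.SelfSix.CaseASixNoFour

/-!
# The groups with one class of involutions and a self-centralising element of order six
-/

set_option autoImplicit false
set_option linter.style.haveILetI false
set_option linter.unusedSectionVars false

namespace Cfsg.Agent.SelfSix

open Subgroup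

variable {G : Type*} [Group G] [Finite G]

namespace Hyp

/-- The conclusion for the semidihedral end. -/
def SemiEnd (G : Type*) [Group G] : Prop :=
  (∃ (F : Type) (_ : Field F) (_ : Fintype F), Fintype.card F = 3 ∧
      Nonempty (G ≃* Matrix.ProjectiveSpecialLinearGroup (Fin 3) F)) ∨ Cfsg.Spor.IsoM11 G

theorem classify (H : Hyp G)
    (hend : ∀ A : H.CaseA, Nat.card A.f.range = 6 → A.NoFour → 2 < Nat.card A.Q → SemiEnd G) :
    (∃ (F : Type) (_ : Field F) (_ : Fintype F), (Fintype.card F = 11 ∨ Fintype.card F = 13) ∧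
        Nonempty (G ≃* Matrix.ProjectiveSpecialLinearGroup (Fin 2) F)) ∨
      (∃ (F : Type) (_ : Field F) (_ : Fintype F), Fintype.card F = 3 ∧
        Nonempty (G ≃* Matrix.ProjectiveSpecialLinearGroup (Fin 3) F)) ∨
      Cfsg.Spor.IsoM11 G ∨ Cfsg.Spor.IsoJ1 G := by
  rcases H.cases with ⟨⟨A⟩⟩ | ⟨⟨b⟩⟩ | ⟨⟨c⟩⟩
  · rcases A.range with hr | hr
    · exact (A.three_false hr).elim
    · have h2 : 2 ≤ Nat.card A.Q := by
        have h := card_le_of_le (zpowers_le.2 A.zQ)
        rwa [Nat.card_zpowers, H.z_inv] at h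
      rcases h2.lt_or_eq with hlt | heq
      · obtain ⟨T, hTz, hTc⟩ := H.exists_sylow
        rcases hend A hr (A.noFour hr (T := T) ⟨hTz, hTc⟩ hlt) hlt with h | h
        · exact Or.inr (Or.inl h)
        · exact Or.inr (Or.inr (Or.inl h))
      · exact Or.inl (A.four hr heq.symm)
  · exact Or.inr (Or.inr (Or.inr (CaseB.janko H b fun v hv => b.eq_of_mem hv)))
  · exact c.false.elim

/-- The setting from an element of order six. -/
theorem exists_of_six [IsSimpleGroup G] (hG : ¬ IsMulCommutative G)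
    (h1 : ∀ x y : G, orderOf x = 2 → orderOf y = 2 → IsConj x y) (t : G) (ht : orderOf t = 6)
    (hC : centralizer ({t} : Set G) = zpowers t) : Nonempty (Hyp G) := by
  have hzx : t ^ 3 * t ^ 2 = t ^ 2 * t ^ 3 := by rw [← pow_add, ← pow_add]
  refine ⟨⟨t ^ 3, t ^ 2, inferInstance, hG, h1, ?_, ?_, hzx, fun g hz hx => ?_⟩⟩
  · rw [orderOf_pow, ht]; norm_num
  · rw [orderOf_pow, ht]; norm_num
  have hg : g * t = t * g := by
    have h : Commute g (t ^ 3 * (t ^ 2)⁻¹) := (show Commute g (t ^ 3) from hz).mul_right (show Commute g (t ^ 2) from hx).inv_right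
    rwa [show t ^ 3 * (t ^ 2)⁻¹ = t by group] at h
  have hmem : g ∈ zpowers t := hC ▸ mem_centralizer_singleton_iff.2 hg
  refine zpowers_le.2 ?_ hmem
  refine ⟨5, ?_⟩
  have h6 : t ^ 6 = 1 := ht ▸ pow_orderOf_eq_one t
  show (t ^ 3 * t ^ 2) ^ (5 : ℤ) = t
  rw [zpow_ofNat, ← pow_add, ← pow_mul, show (3 + 2) * 5 = 6 * 4 + 1 by norm_num, pow_add, pow_mul, h6, one_pow,
    one_mul, pow_one]

end Hyp

end Cfsg.Agent.SelfSix
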